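import Mathlib
import Cfsg.Agent.LieClassical.HermSiegel
import Cfsg.Agent.LieClassical.HermGen
import Cfsg.Prelude.Def_GeometricClasses
import Cfsg.Agent.H918.UProperTwo
import Cfsg.Agent.H914.Sub
set_option linter.all false

-- part: H927/RealStr
section
/-!
# Real structures on a Hermitian space

`|F| = q²`, `V = Fⁿ` with the Hermitian form `hermForm n F q`. A *real structure* is a semilinear
involution `τ` with `h(τ x, τ y) = h(x, y) ^ q`; its fixed vectors form an `F_q`-form of `V` on which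
`h` is symmetric. Subspaces which are `τ`-stable and nondegenerate (`Nd`), existence of anisotropic
real vectors and of real hyperbolic pairs (`q` odd).
-/

set_option autoImplicit false
set_option linter.unusedSectionVars false
set_option linter.unusedVariables false
set_option linter.style.haveILetI false

namespace Cfsg.Agent.H927

open Cfsg Cfsg.Agent.LieClassical.HermBasic Cfsg.Agent.LieClassical.HermSiegel

section RealStr

variable {F : Type*} [Field F] {n q : ℕ}

/-- A real structure on the Hermitian space: semilinear involution compatible with the form. -/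
structure IsReal (q : ℕ) (τ : (Fin n → F) → (Fin n → F)) : Prop where
  add : ∀ x y, τ (x + y) = τ x + τ y
  smul : ∀ (c : F) x, τ (c • x) = c ^ q • τ x
  invol : ∀ x, τ (τ x) = x
  herm : ∀ x y, hermForm n F q (τ x) (τ y) = hermForm n F q x y ^ q

/-- A `τ`-stable nondegenerate subspace. -/
structure Nd (q : ℕ) (τ : (Fin n → F) → (Fin n → F)) (W : Submodule F (Fin n → F)) : Prop where
  stable : ∀ x ∈ W, τ x ∈ W
  nondeg : ∀ x ∈ W, x ≠ 0 → ∃ y ∈ W, hermForm n F q x y ≠ 0

variable [Fintype F] (hF : Fintype.card F = q ^ 2)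

/-- The vectors orthogonal to a vector. -/
def perp (hF : Fintype.card F = q ^ 2) (v : Fin n → F) : Submodule F (Fin n → F) where
  carrier := {x | hermForm n F q x v = 0}
  add_mem' {a b} ha hb := by
    simp only [Set.mem_ofPred_eq] at *
    rw [herm_add_left, ha, hb, add_zero]
  zero_mem' := herm_zero_left v
  smul_mem' c x hx := by
    simp only [Set.mem_ofPred_eq] at *
    rw [herm_smul_left, hx, mul_zero]

@[simp] theorem mem_perp {v x : Fin n → F} : x ∈ perp hF v ↔ hermForm n F q x v = 0 := Iff.rfl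

theorem finrank_inf_perp (W : Submodule F (Fin n → F)) (v : Fin n → F) :
    Module.finrank F W ≤ Module.finrank F (W ⊓ perp hF v : Submodule F (Fin n → F)) + 1 := by
  classical
  let φ : W →ₗ[F] F :=
    { toFun := fun x => hermForm n F q (x : Fin n → F) v
      map_add' := fun x y => by
        rw [Submodule.coe_add, herm_add_left]
      map_smul' := fun c x => by
        rw [Submodule.coe_smul, herm_smul_left, RingHom.id_apply, smul_eq_mul] }
  have h1 := LinearMap.finrank_range_add_finrank_ker φ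
  have h2 : Module.finrank F (LinearMap.range φ) ≤ 1 := by
    have := Submodule.finrank_le (LinearMap.range φ)
    rwa [Module.finrank_self] at this
  have h3 : Module.finrank F (LinearMap.ker φ) ≤
      Module.finrank F (W ⊓ perp hF v : Submodule F (Fin n → F)) := by
    let ψ : LinearMap.ker φ →ₗ[F] (W ⊓ perp hF v : Submodule F (Fin n → F)) :=
      { toFun := fun x => ⟨((x : W) : Fin n → F), (x : W).2, by
          have := x.2
          rw [LinearMap.mem_ker] at this
          exact this⟩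
        map_add' := fun x y => rfl
        map_smul' := fun c x => rfl }
    apply LinearMap.finrank_le_finrank_of_injective (f := ψ)
    intro x y hxy
    apply Subtype.ext
    apply Subtype.ext
    exact congrArg (fun z : (W ⊓ perp hF v : Submodule F (Fin n → F)) => (z : Fin n → F)) hxy
  omega

namespace IsReal

variable {τ : (Fin n → F) → (Fin n → F)} (hτ : IsReal q τ)
include hτ

omit [Fintype F] in
theorem neg (x : Fin n → F) (hq : (-1 : F) ^ q = -1) : τ (-x) = -τ x := by
  have := hτ.smul (-1) x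
  rwa [hq, neg_one_smul, neg_one_smul] at this

omit [Fintype F] in
theorem zero : τ 0 = 0 := by
  have := hτ.add 0 0
  rw [add_zero] at this
  simpa using this

include hF in
theorem neg' (x : Fin n → F) : τ (-x) = -τ x :=
  hτ.neg x (by rw [neg_pow_q hF, one_pow])

include hF in
theorem sub (x y : Fin n → F) : τ (x - y) = τ x - τ y := by
  rw [sub_eq_add_neg, hτ.add, hτ.neg' hF, sub_eq_add_neg]

/-- `h(x, y)` for real `x, y` is real. -/
theorem herm_real {x y : Fin n → F} (hx : τ x = x) (hy : τ y = y) :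
    hermForm n F q x y ^ q = hermForm n F q x y := by
  rw [← hτ.herm, hx, hy]

include hF in
theorem herm_symm {x y : Fin n → F} (hx : τ x = x) (hy : τ y = y) :
    hermForm n F q x y = hermForm n F q y x := by
  rw [herm_swap hF y x, hτ.herm_real hy hx]

/-- for `x` imaginary, `y` real the product is imaginary. -/
theorem herm_imag (hF : Fintype.card F = q ^ 2) {x y : Fin n → F} (hx : τ x = -x) (hy : τ y = y) :
    hermForm n F q x y ^ q = -hermForm n F q x y := by
  rw [← hτ.herm, hx, hy, herm_neg_left]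

/-- real part -/
theorem real_part (hF : Fintype.card F = q ^ 2) (h2 : (2 : F) ≠ 0) (x : Fin n → F) :
    τ ((2 : F)⁻¹ • (x + τ x)) = (2 : F)⁻¹ • (x + τ x) := by
  have h2q : ((2 : F)⁻¹) ^ q = (2 : F)⁻¹ := by
    rw [inv_pow]
    congr 1
    have : (2 : F) = 1 + 1 := by norm_num
    rw [this, add_pow_q hF, one_pow]
  rw [hτ.smul, hτ.add, hτ.invol, h2q, add_comm]

/-- imaginary part -/
theorem imag_part (hF : Fintype.card F = q ^ 2) (h2 : (2 : F) ≠ 0) (x : Fin n → F) :
    τ ((2 : F)⁻¹ • (x - τ x)) = -((2 : F)⁻¹ • (x - τ x)) := by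
  have h2q : ((2 : F)⁻¹) ^ q = (2 : F)⁻¹ := by
    rw [inv_pow]
    congr 1
    have : (2 : F) = 1 + 1 := by norm_num
    rw [this, add_pow_q hF, one_pow]
  rw [hτ.smul, hτ.sub hF, hτ.invol, h2q, ← smul_neg, neg_sub]

omit hτ in
omit [Fintype F] in
theorem part_add (h2 : (2 : F) ≠ 0) (x : Fin n → F) :
    x = (2 : F)⁻¹ • (x + τ x) + (2 : F)⁻¹ • (x - τ x) := by
  rw [← smul_add]
  have : x + τ x + (x - τ x) = (2 : F) • x := by rw [two_smul]; abel
  rw [this, smul_smul, inv_mul_cancel₀ h2, one_smul]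

/-- scaling an imaginary vector by an imaginary scalar gives a real one -/
theorem smul_imag {κ : F} (hκ : κ ^ q = -κ) {x : Fin n → F} (hx : τ x = -x) : τ (κ • x) = κ • x := by
  rw [hτ.smul, hκ, hx, neg_smul, smul_neg, neg_neg]

theorem smul_real_imag {κ : F} (hκ : κ ^ q = -κ) {x : Fin n → F} (hx : τ x = x) :
    τ (κ • x) = -(κ • x) := by
  rw [hτ.smul, hκ, hx, neg_smul]

theorem smul_real {r : F} (hr : r ^ q = r) {x : Fin n → F} (hx : τ x = x) :
    τ (r • x) = r • x := by
  rw [hτ.smul, hr, hx]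

end IsReal

omit [Fintype F] in
theorem two_pow_q [Fintype F] (hF : Fintype.card F = q ^ 2) : (2 : F) ^ q = 2 := by
  have : (2 : F) = 1 + 1 := by norm_num
  rw [this, add_pow_q hF, one_pow]

/-- A nonzero imaginary scalar. -/
theorem exists_kappa (hF : Fintype.card F = q ^ 2) : ∃ κ : F, κ ≠ 0 ∧ κ ^ q = -κ := by
  obtain ⟨κ, h0, h⟩ := exists_trace_zero_ne hF
  exact ⟨κ, h0, by linear_combination h⟩

theorem two_ne_zero_of_odd (hF : Fintype.card F = q ^ 2) (hodd : Odd q) : (2 : F) ≠ 0 := by
  intro h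
  have h1 : ringChar F = 2 := by
    apply ((Nat.prime_dvd_prime_iff_eq (CharP.prime_ringChar F) Nat.prime_two).1 _)
    rw [← ringChar.spec]
    exact_mod_cast h
  have h2 : Even (Fintype.card F) := by
    rw [← Nat.not_odd_iff_even]
    intro hodd'
    have := FiniteField.odd_card_of_char_ne_two (F := F)
    have h3 := FiniteField.even_card_of_char_two (F := F) h1
    rw [Nat.odd_iff] at hodd'
    omega
  rw [hF] at h2
  have h3 : Odd (q ^ 2) := hodd.pow
  exact (Nat.not_even_iff_odd.2 h3) h2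

namespace Nd

variable {τ : (Fin n → F) → (Fin n → F)} (hτ : IsReal q τ) (h2 : (2 : F) ≠ 0)

theorem top (hF : Fintype.card F = q ^ 2) : Nd q τ (⊤ : Submodule F (Fin n → F)) :=
  ⟨fun _ _ => Submodule.mem_top, fun x _ hx => by
    obtain ⟨v, hv⟩ := exists_herm_ne_zero hF hx
    exact ⟨v, Submodule.mem_top, hv⟩⟩

include hF hτ h2 in
/-- G0: real vectors of a nondegenerate stable subspace separate. -/
theorem exists_real {W : Submodule F (Fin n → F)} (hW : Nd q τ W) {x : Fin n → F} (hx : x ∈ W)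
    (hx0 : x ≠ 0) : ∃ y ∈ W, τ y = y ∧ hermForm n F q x y ≠ 0 := by
  obtain ⟨y, hy, hxy⟩ := hW.nondeg x hx hx0
  obtain ⟨κ, hκ0, hκ⟩ := exists_kappa hF
  have hy1 : (2 : F)⁻¹ • (y + τ y) ∈ W := W.smul_mem _ (W.add_mem hy (hW.stable y hy))
  have hy2 : (2 : F)⁻¹ • (y - τ y) ∈ W := W.smul_mem _ (W.sub_mem hy (hW.stable y hy))
  by_cases h1 : hermForm n F q x ((2 : F)⁻¹ • (y + τ y)) = 0
  · refine ⟨κ • ((2 : F)⁻¹ • (y - τ y)), W.smul_mem _ hy2,
      hτ.smul_imag hκ (hτ.imag_part hF h2 y), ?_⟩
    rw [herm_smul_right]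
    refine mul_ne_zero (pow_ne_zero _ hκ0) ?_
    intro h3
    apply hxy
    rw [IsReal.part_add (τ := τ) h2 y, herm_add_right hF, h1, h3, add_zero]
  · exact ⟨_, hy1, hτ.real_part hF h2 y, h1⟩

include hF hτ h2 in
/-- G1: a nonzero nondegenerate stable subspace contains a real anisotropic vector. -/
theorem exists_aniso {W : Submodule F (Fin n → F)} (hW : Nd q τ W) (hW0 : W ≠ ⊥) :
    ∃ t ∈ W, τ t = t ∧ hermForm n F q t t ≠ 0 := by
  by_contra hcon
  push Not at hcon
  obtain ⟨x, hx, hx0⟩ := Submodule.exists_mem_ne_zero_of_ne_bot hW0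
  obtain ⟨y, hy, hyr, hxy⟩ := hW.exists_real hF hτ h2 hx hx0
  -- make `x` real as well
  have hyx : hermForm n F q y x ≠ 0 := fun h => hxy (herm_eq_zero_swap hF h)
  have hy0 : y ≠ 0 := by
    rintro rfl
    exact hyx (herm_zero_left _)
  obtain ⟨z, hz, hzr, hyz⟩ := hW.exists_real hF hτ h2 hy hy0
  have h1 := hcon (y + z) (W.add_mem hy hz) (by rw [hτ.add, hyr, hzr])
  rw [herm_add_left, herm_add_right hF, herm_add_right hF, hcon y hy hyr, hcon z hz hzr,
    hτ.herm_symm hF hzr hyr] at h1
  apply hyz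
  have : (2 : F) * hermForm n F q y z = 0 := by linear_combination h1
  rcases mul_eq_zero.1 this with h | h
  · exact absurd h h2
  · exact h

include hF hτ in
/-- G3: cutting with the orthogonal of a real anisotropic vector. -/
theorem cut {W : Submodule F (Fin n → F)} (hW : Nd q τ W) {t : Fin n → F} (ht : t ∈ W)
    (htr : τ t = t) (ht0 : hermForm n F q t t ≠ 0) : Nd q τ (W ⊓ perp hF t) := by
  refine ⟨?_, ?_⟩
  · rintro x ⟨hx, hxt⟩
    refine ⟨hW.stable x hx, ?_⟩
    change hermForm n F q (τ x) t = 0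
    rw [SetLike.mem_coe, mem_perp] at hxt
    have h := hτ.herm x t
    rw [htr, hxt, zero_pow_q hF] at h
    exact h
  · rintro x ⟨hx, hxt⟩ hx0
    rw [SetLike.mem_coe, mem_perp] at hxt
    obtain ⟨y, hy, hxy⟩ := hW.nondeg x hx hx0
    refine ⟨y - (hermForm n F q y t / hermForm n F q t t) • t, ⟨W.sub_mem hy (W.smul_mem _ ht), ?_⟩, ?_⟩
    · change hermForm n F q _ t = 0
      rw [herm_sub_left, herm_smul_left, div_mul_cancel₀ _ ht0, sub_self]
    · rw [herm_sub_right hF, herm_smul_right, hxt, mul_zero, sub_zero]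
      exact hxy

include hF in
/-- G4: cutting with the orthogonal of a stable hyperbolic plane. -/
theorem cutPair {W : Submodule F (Fin n → F)} (hW : Nd q τ W) {w w' : Fin n → F} (hw : w ∈ W)
    (hw' : w' ∈ W) (h11 : hermForm n F q w w = 0) (h22 : hermForm n F q w' w' = 0)
    (h12 : hermForm n F q w w' ≠ 0)
    (hst : ∀ x, hermForm n F q x w = 0 → hermForm n F q x w' = 0 →
      hermForm n F q (τ x) w = 0 ∧ hermForm n F q (τ x) w' = 0) :
    Nd q τ (W ⊓ perp hF w ⊓ perp hF w') := by
  have h21 : hermForm n F q w' w ≠ 0 := fun h => h12 (herm_eq_zero_swap hF h)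
  refine ⟨?_, ?_⟩
  · rintro x ⟨⟨hx, hxw⟩, hxw'⟩
    rw [SetLike.mem_coe, mem_perp] at hxw hxw'
    exact ⟨⟨hW.stable x hx, (hst x hxw hxw').1⟩, (hst x hxw hxw').2⟩
  · rintro x ⟨⟨hx, hxw⟩, hxw'⟩ hx0
    rw [SetLike.mem_coe, mem_perp] at hxw hxw'
    obtain ⟨y, hy, hxy⟩ := hW.nondeg x hx hx0
    refine ⟨y - (hermForm n F q y w' / hermForm n F q w w') • w -
      (hermForm n F q y w / hermForm n F q w' w) • w',
      ⟨⟨W.sub_mem (W.sub_mem hy (W.smul_mem _ hw)) (W.smul_mem _ hw'), ?_⟩, ?_⟩, ?_⟩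
    · change hermForm n F q _ w = 0
      rw [herm_sub_left, herm_sub_left, herm_smul_left, herm_smul_left, h11,
        div_mul_cancel₀ _ h21, mul_zero, sub_zero, sub_self]
    · change hermForm n F q _ w' = 0
      rw [herm_sub_left, herm_sub_left, herm_smul_left, herm_smul_left, h22,
        div_mul_cancel₀ _ h12, mul_zero, sub_zero, sub_self]
    · rw [herm_sub_right hF, herm_sub_right hF, herm_smul_right, herm_smul_right, hxw, hxw',
        mul_zero, mul_zero, sub_zero, sub_zero]
      exact hxy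

end Nd

/-- Real scalars `a, b, c ≠ 0`: `x² a + y² b + c = 0` has a real solution. -/
theorem exists_quad_root (hF : Fintype.card F = q ^ 2) (h2 : (2 : F) ≠ 0) {a b c : F}
    (ha : a ^ q = a) (hb : b ^ q = b) (hc : c ^ q = c) (ha0 : a ≠ 0) (hb0 : b ≠ 0) :
    ∃ x y : F, x ^ q = x ∧ y ^ q = y ∧ x ^ 2 * a + y ^ 2 * b + c = 0 := by
  classical
  let K : Subfield F := RingHom.eqLocusField ((conj hF : F ≃+* F) : F →+* F) (RingHom.id F)
  have hK : ∀ x : F, x ∈ K ↔ x ^ q = x := fun x => Iff.rfl
  haveI : Fintype K := Fintype.ofFinite K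
  have hcard : Fintype.card K = q := by
    rw [← Nat.card_eq_fintype_card]
    exact card_fixed hF
  have hodd : Fintype.card K % 2 = 1 := by
    apply FiniteField.odd_card_of_char_ne_two
    intro h
    apply h2
    have h3 : ((2 : ℕ) : K) = 0 := by
      rw [ringChar.spec, h]
    have h4 := congrArg (fun x : K => (x : F)) h3
    have h5 : (((2 : ℕ) : K) : F) = 2 := by push_cast; rfl
    rw [← h5]
    exact h4
  let A : K := ⟨a, ha⟩
  let B : K := ⟨b, hb⟩
  let C : K := ⟨c, hc⟩
  have hA : A ≠ 0 := fun h => ha0 (congrArg (fun x : K => (x : F)) h)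
  have hB : B ≠ 0 := fun h => hb0 (congrArg (fun x : K => (x : F)) h)
  obtain ⟨x, y, hxy⟩ := FiniteField.exists_root_sum_quadratic
    (f := Polynomial.C A * Polynomial.X ^ 2 + Polynomial.C C)
    (g := Polynomial.C B * Polynomial.X ^ 2) (by
      compute_degree!) (by compute_degree!) hodd
  refine ⟨x, y, x.2, y.2, ?_⟩
  have h5 := congrArg (fun z : K => (z : F)) hxy
  simp only [Polynomial.eval_add, Polynomial.eval_mul, Polynomial.eval_C, Polynomial.eval_pow,
    Polynomial.eval_X] at h5
  push_cast at h5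
  have h6 : a * (x : F) ^ 2 + c + b * (y : F) ^ 2 = 0 := h5
  linear_combination h6

namespace Nd

variable {τ : (Fin n → F) → (Fin n → F)} (hτ : IsReal q τ) (h2 : (2 : F) ≠ 0)

theorem ne_bot_of_finrank {W : Submodule F (Fin n → F)} (h : 1 ≤ Module.finrank F W) : W ≠ ⊥ := by
  rintro rfl
  rw [finrank_bot] at h
  omega

include hF hτ h2 in
/-- A real isotropic vector in a nondegenerate stable subspace is in a real hyperbolic pair. -/
theorem exists_partner {W : Submodule F (Fin n → F)} (hW : Nd q τ W) {e : Fin n → F} (he : e ∈ W)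
    (her : τ e = e) (he0 : e ≠ 0) (hee : hermForm n F q e e = 0) :
    ∃ f ∈ W, τ f = f ∧ hermForm n F q f f = 0 ∧ hermForm n F q e f = 1 := by
  obtain ⟨y, hy, hyr, hey⟩ := hW.exists_real hF hτ h2 he he0
  set a := hermForm n F q e y with ha
  have haq : a ^ q = a := hτ.herm_real her hyr
  have haiq : (a⁻¹) ^ q = a⁻¹ := by rw [inv_pow, haq]
  set z := a⁻¹ • y with hz
  have hzr : τ z = z := hτ.smul_real haiq hyr
  have hez : hermForm n F q e z = 1 := by
    rw [hz, herm_smul_right, haiq, ← ha, inv_mul_cancel₀ hey]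
  have hze : hermForm n F q z e = 1 := by rw [hτ.herm_symm hF hzr her, hez]
  set N := hermForm n F q z z with hN
  have hNq : N ^ q = N := hτ.herm_real hzr hzr
  have hcq : (N / 2) ^ q = N / 2 := by rw [div_pow, hNq, two_pow_q hF]
  refine ⟨z - (N / 2) • e, W.sub_mem (W.smul_mem _ hy) (W.smul_mem _ he), ?_, ?_, ?_⟩
  · rw [hτ.sub hF, hzr, hτ.smul_real hcq her]
  · have h1 : ∀ c : F, c ^ q = c → hermForm n F q (z - c • e) (z - c • e) =
        hermForm n F q z z - 2 * c := by
      intro c hc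
      rw [herm_sub_left, herm_sub_right hF, herm_sub_right hF, herm_smul_left c, herm_smul_left c,
        herm_smul_right c, herm_smul_right c, hc, hee, hez, hze]
      ring
    rw [h1 _ hcq, ← hN]
    field_simp
    ring
  · rw [herm_sub_right hF, herm_smul_right (N / 2), hcq, hee, hez]
    ring

include hF hτ h2 in
/-- G2: a nondegenerate stable subspace of dimension at least three contains a real hyperbolic
pair. -/
theorem exists_pair {W : Submodule F (Fin n → F)} (hW : Nd q τ W)
    (h3 : 3 ≤ Module.finrank F W) :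
    ∃ e ∈ W, ∃ f ∈ W, τ e = e ∧ τ f = f ∧ hermForm n F q e e = 0 ∧ hermForm n F q f f = 0 ∧
      hermForm n F q e f = 1 := by
  obtain ⟨t₁, ht₁, ht₁r, ht₁0⟩ := hW.exists_aniso hF hτ h2 (ne_bot_of_finrank (by omega))
  have hW1 := hW.cut hF hτ ht₁ ht₁r ht₁0
  have hd1 := finrank_inf_perp hF W t₁
  obtain ⟨t₂, ht₂, ht₂r, ht₂0⟩ := hW1.exists_aniso hF hτ h2 (ne_bot_of_finrank (by omega))
  have hW2 := hW1.cut hF hτ ht₂ ht₂r ht₂0
  have hd2 := finrank_inf_perp hF (W ⊓ perp hF t₁) t₂
  obtain ⟨t₃, ht₃, ht₃r, ht₃0⟩ := hW2.exists_aniso hF hτ h2 (ne_bot_of_finrank (by omega))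
  obtain ⟨⟨ht₃W, h31⟩, h32⟩ := ht₃
  obtain ⟨ht₂W, h21⟩ := ht₂
  rw [SetLike.mem_coe, mem_perp] at h31 h32 h21
  have h12 := herm_eq_zero_swap hF h21
  have h13 := herm_eq_zero_swap hF h31
  have h23 := herm_eq_zero_swap hF h32
  obtain ⟨x, y, hx, hy, hxy⟩ := exists_quad_root hF h2 (hτ.herm_real ht₁r ht₁r)
    (hτ.herm_real ht₂r ht₂r) (hτ.herm_real ht₃r ht₃r) ht₁0 ht₂0
  set e := x • t₁ + y • t₂ + t₃ with he
  have heW : e ∈ W := W.add_mem (W.add_mem (W.smul_mem _ ht₁) (W.smul_mem _ ht₂W)) ht₃W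
  have her : τ e = e := by
    rw [he, hτ.add, hτ.add, hτ.smul_real hx ht₁r, hτ.smul_real hy ht₂r, ht₃r]
  have he3 : hermForm n F q e t₃ = hermForm n F q t₃ t₃ := by
    rw [he, herm_add_left, herm_add_left, herm_smul_left, herm_smul_left, h13, h23]
    ring
  have he0 : e ≠ 0 := by
    intro h
    rw [h, herm_zero_left] at he3
    exact ht₃0 he3.symm
  have hee : hermForm n F q e e = 0 := by
    simp only [he, herm_add_left, herm_add_right hF, herm_smul_left, herm_smul_right, h12, h21,
      h13, h31, h23, h32, hx, hy]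
    linear_combination hxy
  obtain ⟨f, hf, hfr, hff, hef⟩ := hW.exists_partner hF hτ h2 heW her he0 hee
  exact ⟨e, heW, f, hf, her, hfr, hee, hff, hef⟩

include hF hτ h2 in
/-- S0: isotropic real vectors of a nondegenerate stable subspace of dimension at least three
separate its vectors. -/
theorem exists_iso {W : Submodule F (Fin n → F)} (hW : Nd q τ W)
    (h3 : 3 ≤ Module.finrank F W) {x : Fin n → F} (hx : x ∈ W) (hx0 : x ≠ 0) :
    ∃ s ∈ W, τ s = s ∧ hermForm n F q s s = 0 ∧ hermForm n F q x s ≠ 0 := by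
  obtain ⟨e, he, f, hf, her, hfr, hee, hff, hef⟩ := hW.exists_pair hF hτ h2 h3
  by_cases h1 : hermForm n F q x e = 0
  swap
  · exact ⟨e, he, her, hee, h1⟩
  by_cases h1' : hermForm n F q x f = 0
  swap
  · exact ⟨f, hf, hfr, hff, h1'⟩
  have hst : ∀ x, hermForm n F q x e = 0 → hermForm n F q x f = 0 →
      hermForm n F q (τ x) e = 0 ∧ hermForm n F q (τ x) f = 0 := by
    intro x hx hx'
    constructor
    · have h := hτ.herm x e
      rwa [her, hx, zero_pow_q hF] at h
    · have h := hτ.herm x f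
      rwa [hfr, hx', zero_pow_q hF] at h
  have hW' := hW.cutPair hF he hf hee hff (by rw [hef]; exact one_ne_zero) hst
  obtain ⟨y, ⟨⟨hy, hye⟩, hyf⟩, hyr, hxy⟩ := hW'.exists_real hF hτ h2 (x := x) ⟨⟨hx, h1⟩, h1'⟩ hx0
  rw [SetLike.mem_coe, mem_perp] at hye hyf
  set N := hermForm n F q y y with hN
  have hNq : N ^ q = N := hτ.herm_real hyr hyr
  have hcq : (N / 2) ^ q = N / 2 := by rw [div_pow, hNq, two_pow_q hF]
  refine ⟨e - (N / 2) • f + y, W.add_mem (W.sub_mem he (W.smul_mem _ hf)) hy, ?_, ?_, ?_⟩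
  · rw [hτ.add, hτ.sub hF, her, hτ.smul_real hcq hfr, hyr]
  · have hfe : hermForm n F q f e = 1 := by rw [hτ.herm_symm hF hfr her, hef]
    have hey := herm_eq_zero_swap hF hye
    have hfy := herm_eq_zero_swap hF hyf
    simp only [herm_add_left, herm_add_right hF, herm_sub_left, herm_sub_right hF, herm_smul_left,
      herm_smul_right, hee, hff, hef, hfe, hye, hyf, hey, hfy, hcq, ← hN]
    field_simp
    ring
  · rw [herm_add_right hF, herm_sub_right hF, herm_smul_right, h1, h1', mul_zero, sub_zero,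
      zero_add]
    exact hxy

end Nd

end RealStr

end Cfsg.Agent.H927
end

-- part: H927/OrthA
section
/-!
# Subgroups of `SU_n(q)` containing the real isometries: Siegel elements

`X ≤ SU n F q` contains every element commuting with the real structure `τ` (`Hyp X τ`), `q` odd,
`n ≥ 5`. If `X` contains a Siegel element attached to a real isotropic vector `u` which does not commute
with `τ`, then `X` is the whole group.
-/

set_option autoImplicit false
set_option linter.unusedSectionVars false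
set_option linter.unusedVariables false

namespace Cfsg.Agent.H927

open Cfsg Cfsg.Agent.LieClassical.HermBasic Cfsg.Agent.LieClassical.HermSiegel

variable {F : Type*} [Field F] [Fintype F] {n q : ℕ} (hF : Fintype.card F = q ^ 2)

/-- `X` contains all elements of `SU` commuting with `τ`. -/
def Hyp (X : Subgroup (SU n F q)) (τ : (Fin n → F) → (Fin n → F)) : Prop :=
  ∀ g : SU n F q, (∀ x, act g (τ x) = τ (act g x)) → g ∈ X

/-- some Siegel element with parameters `u, z` is in `X`. -/
def InR (hF : Fintype.card F = q ^ 2) (X : Subgroup (SU n F q)) (u z : Fin n → F) : Prop :=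
  ∃ (μ : F) (h : IsSiegel q u z μ), siegel hF u z μ h ∈ X

/-- all Siegel elements attached to `u` are in `X`. -/
def Full (hF : Fintype.card F = q ^ 2) (X : Subgroup (SU n F q)) (u : Fin n → F) : Prop :=
  ∀ (w : Fin n → F) (μ : F) (h : IsSiegel q u w μ), siegel hF u w μ h ∈ X

section general

variable {X : Subgroup (SU n F q)}

theorem InR.add {u z z' : Fin n → F} (h : InR hF X u z) (h' : InR hF X u z') :
    InR hF X u (z + z') := by
  obtain ⟨μ, hs, hm⟩ := h
  obtain ⟨μ', hs', hm'⟩ := h'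
  refine ⟨_, hs.mul hF hs', ?_⟩
  rw [← siegel_mul hF hs hs']
  exact X.mul_mem hm hm'

theorem InR.neg {u z : Fin n → F} (h : InR hF X u z) : InR hF X u (-z) := by
  obtain ⟨μ, hs, hm⟩ := h
  refine ⟨_, hs.inv hF, ?_⟩
  rw [← siegel_inv hF hs]
  exact X.inv_mem hm

theorem InR.sub {u z z' : Fin n → F} (h : InR hF X u z) (h' : InR hF X u z') :
    InR hF X u (z - z') := by
  rw [sub_eq_add_neg]
  exact h.add hF (h'.neg hF)

theorem InR.map {u z : Fin n → F} (h : InR hF X u z) {g : SU n F q} (hg : g ∈ X) :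
    InR hF X (act g u) (act g z) := by
  obtain ⟨μ, hs, hm⟩ := h
  refine ⟨μ, hs.map g, ?_⟩
  rw [← conj_siegel hF hs]
  exact X.mul_mem (X.mul_mem hg hm) (X.inv_mem hg)

theorem InR.smul_self {u : Fin n → F} (hu : hermForm n F q u u = 0) (c : F) :
    InR hF X u (c • u) := by
  have hs : IsSiegel q u (c • u) (c ^ q - c) := by
    refine ⟨hu, by rw [herm_smul_left, hu, mul_zero], ?_⟩
    rw [herm_smul_left, herm_smul_right, hu, sub_pow_q hF, pow_q_pow_q hF]
    ring
  refine ⟨_, hs, ?_⟩
  have : siegel hF u (c • u) (c ^ q - c) hs = 1 := by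
    apply ext_act
    intro v
    rw [act_siegel, act_one, herm_smul_right]
    funext i
    simp only [Pi.add_apply, Pi.smul_apply, smul_eq_mul]
    ring
  rw [this]
  exact X.one_mem

theorem Full.map {u : Fin n → F} (h : Full hF X u) {g : SU n F q} (hg : g ∈ X) :
    Full hF X (act g u) := by
  intro w μ hs
  have h1 : IsSiegel q u (act g⁻¹ w) μ := by
    have := hs.map g⁻¹
    rwa [act_inv_act] at this
  have h2 := conj_siegel hF h1 g
  have h3 : siegel hF (act g u) w μ hs = g * siegel hF u (act g⁻¹ w) μ h1 * g⁻¹ := by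
    rw [h2]
    exact siegel_congr hF _ _ rfl (by rw [act_act_inv]) rfl
  rw [h3]
  exact X.mul_mem (X.mul_mem hg (h _ _ _)) (X.inv_mem hg)

theorem Full.smul {u : Fin n → F} (h : Full hF X u) {c : F} (hc : c ≠ 0) :
    Full hF X (c • u) := by
  intro w μ hs
  have h1 : IsSiegel q u w μ := by
    refine ⟨?_, ?_, hs.tr⟩
    · have := hs.iso
      rw [herm_smul_left, herm_smul_right] at this
      rcases mul_eq_zero.1 this with h | h
      · exact absurd h hc
      · rcases mul_eq_zero.1 h with h | h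
        · exact absurd h (pow_ne_zero _ hc)
        · exact h
    · have := hs.orth
      rw [herm_smul_right] at this
      rcases mul_eq_zero.1 this with h | h
      · exact absurd h (pow_ne_zero _ hc)
      · exact h
  have h2 := siegel_smul hF (c := c) h1
  have h3 : siegel hF (c • u) w μ hs = siegel hF (c • u) w μ h1.smul := rfl
  rw [h3, h2]
  exact h _ _ _

/-- Two full opposite isotropic vectors generate everything. -/
theorem eq_top_of_full (hn : 3 ≤ n) {u u' : Fin n → F} (hu : hermForm n F q u u = 0)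
    (hu' : hermForm n F q u' u' = 0) (huu' : hermForm n F q u u' = 1)
    (h : Full hF X u) (h' : Full hF X u') : X = ⊤ := by
  have hu'u : hermForm n F q u' u = 1 := by rw [herm_swap hF u u', huu', one_pow]
  -- transfer along `siegelmap`
  have key : ∀ a a' : Fin n → F, hermForm n F q a a = 0 → hermForm n F q a' a' = 0 →
      hermForm n F q a a' = 1 → Full hF X a → Full hF X a' → ∀ v : Fin n → F,
      hermForm n F q v v = 0 → hermForm n F q v a ≠ 0 → Full hF X v := by
    intro a a' ha ha' haa' hfa hfa' v hv hva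
    have ha'a : hermForm n F q a' a = 1 := by rw [herm_swap hF a a', haa', one_pow]
    set c := hermForm n F q v a with hc
    obtain ⟨d, μ, hs, hact⟩ := exists_siegel_map hF (u := a) (v := c • a') (v' := v) ha
      (by rw [herm_smul_left, herm_smul_right, ha', hv, mul_zero, mul_zero])
      (by rw [herm_smul_left, ha'a, mul_one])
      (by rw [herm_smul_left, ha'a, mul_one]; exact hva)
    rw [← hact]
    exact (hfa'.smul hF hva).map hF (hfa _ _ _)
  have key2 : ∀ v : Fin n → F, v ≠ 0 → hermForm n F q v v = 0 → Full hF X v := by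
    intro v hv0 hv
    by_cases h1 : hermForm n F q v u = 0
    swap
    · exact key u u' hu hu' huu' h h' v hv h1
    by_cases h2 : hermForm n F q v u' = 0
    swap
    · exact key u' u hu' hu hu'u h' h v hv h2
    obtain ⟨z, hz⟩ := exists_herm_ne_zero hF hv0
    set w := z - hermForm n F q z u' • u with hw
    have hwu' : hermForm n F q w u' = 0 := by
      rw [hw, herm_sub_left, herm_smul_left, huu', mul_one, sub_self]
    have hvw : hermForm n F q v w = hermForm n F q v z := by
      rw [hw, herm_sub_right hF, herm_smul_right, h1, mul_zero, sub_zero]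
    obtain ⟨μ, hμ⟩ := exists_trace_eq hF (c := -hermForm n F q w w) (by
      rw [neg_pow_q hF, herm_self_pow hF])
    have hs : IsSiegel q u' w μ := ⟨hu', hwu', by rw [hμ]; ring⟩
    set g := siegel hF u' w μ hs with hg
    have hgX : g ∈ X := h' _ _ _
    have hgv : act g v = v - hermForm n F q v z • u' := by
      rw [hg, act_siegel, h2, hvw]
      simp [sub_eq_add_neg]
    have h3 : hermForm n F q (act g v) u ≠ 0 := by
      rw [hgv, herm_sub_left, h1, herm_smul_left, hu'u, mul_one, zero_sub]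
      exact neg_ne_zero.2 hz
    have h4 : Full hF X (act g v) := key u u' hu hu' huu' h h' _ (by rw [herm_act]; exact hv) h3
    have h5 := h4.map hF (X.inv_mem hgX)
    rwa [act_inv_act] at h5
  rw [eq_top_iff, ← Cfsg.Agent.LieClassical.HermGen.siegelGroup_eq_top hF hn,
    Cfsg.Agent.LieClassical.HermGen.siegelGroup, Subgroup.closure_le]
  rintro _ ⟨v, w, μ, hs, rfl⟩
  by_cases hv0 : v = 0
  · have : siegel hF v w μ hs = 1 := by
      apply ext_act
      intro x
      rw [act_siegel, act_one, hv0, herm_zero_right hF]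
      simp
    rw [this]
    exact X.one_mem
  · exact key2 v hv0 hs.iso w μ hs

end general

section conj

variable {τ : (Fin n → F) → (Fin n → F)} (hτ : IsReal q τ)
include hτ

theorem isSiegel_conj {u x : Fin n → F} {μ : F} (hu : τ u = u) (h : IsSiegel q u x μ)
    (hF : Fintype.card F = q ^ 2) : IsSiegel q u (τ x) (μ ^ q) := by
  refine ⟨h.iso, ?_, ?_⟩
  · have := hτ.herm x u
    rwa [hu, h.orth, zero_pow_q hF] at this
  · rw [hτ.herm, herm_self_pow hF, pow_q_pow_q hF]
    linear_combination h.tr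

theorem tau_siegel {u x : Fin n → F} {μ : F} (hu : τ u = u) (h : IsSiegel q u x μ)
    (hF : Fintype.card F = q ^ 2) (y : Fin n → F) :
    τ (act (siegel hF u x μ h) y) = act (siegel hF u (τ x) (μ ^ q) (isSiegel_conj hτ hu h hF)) (τ y) := by
  rw [act_siegel, act_siegel, hτ.add, hτ.add, hτ.smul, hτ.smul, hu, sub_pow_q hF, mul_pow,
    hτ.herm y x]
  have : hermForm n F q (τ y) u = hermForm n F q y u ^ q := by
    have := hτ.herm y u
    rwa [hu] at this
  rw [this]

/-- Real Siegel elements. -/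
theorem isSiegel_real {u x : Fin n → F} (hF : Fintype.card F = q ^ 2) (h2 : (2 : F) ≠ 0)
    (hx : τ x = x) (huu : hermForm n F q u u = 0)
    (hxu : hermForm n F q x u = 0) : IsSiegel q u x (-(hermForm n F q x x / 2)) := by
  refine ⟨huu, hxu, ?_⟩
  rw [neg_pow_q hF, div_pow, two_pow_q hF, herm_self_pow hF]
  field_simp
  ring

theorem siegel_real_comm {u x : Fin n → F} (hF : Fintype.card F = q ^ 2) (h2 : (2 : F) ≠ 0)
    (hu : τ u = u) (hx : τ x = x) (huu : hermForm n F q u u = 0)
    (hxu : hermForm n F q x u = 0) (y : Fin n → F) :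
    act (siegel hF u x _ (isSiegel_real hτ hF h2 hx huu hxu)) (τ y) =
      τ (act (siegel hF u x _ (isSiegel_real hτ hF h2 hx huu hxu)) y) := by
  rw [tau_siegel hτ hu]
  have : siegel hF u (τ x) ((-(hermForm n F q x x / 2)) ^ q)
      (isSiegel_conj hτ hu (isSiegel_real hτ hF h2 hx huu hxu) hF) =
      siegel hF u x _ (isSiegel_real hτ hF h2 hx huu hxu) := by
    apply siegel_congr hF _ _ rfl hx
    rw [neg_pow_q hF, div_pow, two_pow_q hF, herm_self_pow hF]
  rw [this]

theorem siegel_real_mem {X : Subgroup (SU n F q)} (hX : Hyp X τ) {u x : Fin n → F}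
    (hF : Fintype.card F = q ^ 2) (h2 : (2 : F) ≠ 0)
    (hu : τ u = u) (hx : τ x = x) (huu : hermForm n F q u u = 0)
    (hxu : hermForm n F q x u = 0) :
    siegel hF u x _ (isSiegel_real hτ hF h2 hx huu hxu) ∈ X :=
  hX _ (siegel_real_comm hτ hF h2 hu hx huu hxu)

theorem InR.of_real {X : Subgroup (SU n F q)} (hX : Hyp X τ) {u x : Fin n → F}
    (hF : Fintype.card F = q ^ 2) (h2 : (2 : F) ≠ 0)
    (hu : τ u = u) (hx : τ x = x) (huu : hermForm n F q u u = 0)
    (hxu : hermForm n F q x u = 0) : InR hF X u x :=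
  ⟨_, _, siegel_real_mem hτ hX hF h2 hu hx huu hxu⟩

end conj

section exist

variable {τ : (Fin n → F) → (Fin n → F)} (hτ : IsReal q τ) (h2 : (2 : F) ≠ 0)
include hF hτ h2

/-- the plane of a real pair is stable -/
theorem pair_stable {u u' : Fin n → F} (hu : τ u = u) (hu' : τ u' = u') (x : Fin n → F)
    (h1 : hermForm n F q x u = 0) (h1' : hermForm n F q x u' = 0) :
    hermForm n F q (τ x) u = 0 ∧ hermForm n F q (τ x) u' = 0 := by
  constructor
  · have h := hτ.herm x u
    rwa [hu, h1, zero_pow_q hF] at h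
  · have h := hτ.herm x u'
    rwa [hu', h1', zero_pow_q hF] at h

/-- Lemma S. -/
theorem exists_iso_perp (hn : 5 ≤ n) {u x : Fin n → F} (hu : τ u = u) (hu0 : u ≠ 0)
    (huu : hermForm n F q u u = 0) (hxu : hermForm n F q x u = 0) (hx : ∀ c : F, x ≠ c • u) :
    ∃ s, τ s = s ∧ hermForm n F q s s = 0 ∧ hermForm n F q s u = 0 ∧ hermForm n F q x s ≠ 0 := by
  have hT : Nd q τ (⊤ : Submodule F (Fin n → F)) := Nd.top hF
  obtain ⟨u', -, hu', huu', huu1⟩ := hT.exists_partner hF hτ h2 Submodule.mem_top hu hu0 huu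
  have hW := hT.cutPair hF (w := u) (w' := u') Submodule.mem_top Submodule.mem_top huu huu'
    (by rw [huu1]; exact one_ne_zero) (fun x => pair_stable hF hτ h2 hu hu' x)
  have hd1 := finrank_inf_perp hF (⊤ : Submodule F (Fin n → F)) u
  have hd2 := finrank_inf_perp hF ((⊤ : Submodule F (Fin n → F)) ⊓ perp hF u) u'
  rw [finrank_top, Module.finrank_fin_fun] at hd1
  have hu'u : hermForm n F q u' u = 1 := by rw [hτ.herm_symm hF hu' hu, huu1]
  obtain ⟨s, ⟨⟨-, hs1⟩, hs2⟩, hsr, hss, hxs⟩ := hW.exists_iso hF hτ h2 (by omega)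
    (x := x - hermForm n F q x u' • u) (by
      refine ⟨⟨Submodule.mem_top, ?_⟩, ?_⟩
      · change hermForm n F q _ u = 0
        rw [herm_sub_left, hxu, herm_smul_left, huu, mul_zero, sub_zero]
      · change hermForm n F q _ u' = 0
        rw [herm_sub_left, herm_smul_left, huu1, mul_one, sub_self])
    (by
      intro h
      exact hx _ (sub_eq_zero.1 h))
  rw [SetLike.mem_coe, mem_perp] at hs1 hs2
  refine ⟨s, hsr, hss, hs1, ?_⟩
  rwa [herm_sub_left, herm_smul_left, herm_eq_zero_swap hF hs1, mul_zero, sub_zero] at hxs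

/-- Lemma T. -/
theorem exists_aniso_perp (hn : 5 ≤ n) {u s : Fin n → F} (hu : τ u = u) (hu0 : u ≠ 0)
    (huu : hermForm n F q u u = 0) (hs : τ s = s) (hss : hermForm n F q s s = 0)
    (hsu : hermForm n F q s u = 0) :
    ∃ t, τ t = t ∧ hermForm n F q t t ≠ 0 ∧ hermForm n F q t u = 0 ∧ hermForm n F q t s = 0 := by
  have hT : Nd q τ (⊤ : Submodule F (Fin n → F)) := Nd.top hF
  obtain ⟨u', -, hu', huu', huu1⟩ := hT.exists_partner hF hτ h2 Submodule.mem_top hu hu0 huu
  have hW := hT.cutPair hF (w := u) (w' := u') Submodule.mem_top Submodule.mem_top huu huu'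
    (by rw [huu1]; exact one_ne_zero) (fun x => pair_stable hF hτ h2 hu hu' x)
  have hd1 := finrank_inf_perp hF (⊤ : Submodule F (Fin n → F)) u
  have hd2 := finrank_inf_perp hF ((⊤ : Submodule F (Fin n → F)) ⊓ perp hF u) u'
  rw [finrank_top, Module.finrank_fin_fun] at hd1
  set a := hermForm n F q s u' with ha
  have haq : a ^ q = a := hτ.herm_real hs hu'
  set s₁ := s - a • u with hs₁
  have hs₁r : τ s₁ = s₁ := by rw [hs₁, hτ.sub hF, hs, hτ.smul_real haq hu]
  have hus := herm_eq_zero_swap hF hsu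
  have hs₁s₁ : hermForm n F q s₁ s₁ = 0 := by
    rw [hs₁, herm_sub_left, herm_sub_right hF, herm_sub_right hF, herm_smul_left, herm_smul_left,
      herm_smul_right, herm_smul_right, huu, hss, hsu, hus]
    ring
  have hs₁W : s₁ ∈ (⊤ : Submodule F (Fin n → F)) ⊓ perp hF u ⊓ perp hF u' := by
    refine ⟨⟨Submodule.mem_top, ?_⟩, ?_⟩
    · change hermForm n F q _ u = 0
      rw [hs₁, herm_sub_left, hsu, herm_smul_left, huu, mul_zero, sub_zero]
    · change hermForm n F q _ u' = 0
      rw [hs₁, herm_sub_left, herm_smul_left, huu1, mul_one, ← ha, sub_self]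
  by_cases h0 : s₁ = 0
  · obtain ⟨t, ⟨⟨-, ht1⟩, ht2⟩, htr, htt⟩ := hW.exists_aniso hF hτ h2
      (Nd.ne_bot_of_finrank (by omega))
    rw [SetLike.mem_coe, mem_perp] at ht1 ht2
    refine ⟨t, htr, htt, ht1, ?_⟩
    have : s = a • u := sub_eq_zero.1 (hs₁ ▸ h0)
    rw [this, herm_smul_right, ht1, mul_zero]
  · obtain ⟨f, hf, hfr, hff, hsf⟩ := hW.exists_partner hF hτ h2 hs₁W hs₁r h0 hs₁s₁
    have hW2 := hW.cutPair hF (w := s₁) (w' := f) hs₁W hf hs₁s₁ hff
      (by rw [hsf]; exact one_ne_zero) (fun x => pair_stable hF hτ h2 hs₁r hfr x)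
    have hd3 := finrank_inf_perp hF ((⊤ : Submodule F (Fin n → F)) ⊓ perp hF u ⊓ perp hF u') s₁
    have hd4 := finrank_inf_perp hF
      ((⊤ : Submodule F (Fin n → F)) ⊓ perp hF u ⊓ perp hF u' ⊓ perp hF s₁) f
    obtain ⟨t, ⟨⟨⟨⟨-, ht1⟩, ht2⟩, ht3⟩, ht4⟩, htr, htt⟩ := hW2.exists_aniso hF hτ h2
      (Nd.ne_bot_of_finrank (by omega))
    rw [SetLike.mem_coe, mem_perp] at ht1 ht2 ht3 ht4
    refine ⟨t, htr, htt, ht1, ?_⟩
    have : s = s₁ + a • u := by rw [hs₁]; abel
    rw [this, herm_add_right hF, herm_smul_right, ht1, ht3, mul_zero, add_zero]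

end exist

section lemmaA

variable {τ : (Fin n → F) → (Fin n → F)} (hτ : IsReal q τ) (h2 : (2 : F) ≠ 0)
  {X : Subgroup (SU n F q)} (hX : Hyp X τ)
include hτ hX h2

/-- step 1 -/
theorem step_one {u z s t : Fin n → F} (hsr : τ s = s)
    (hss : hermForm n F q s s = 0) (hsu : hermForm n F q s u = 0) (htr : τ t = t)
    (hts : hermForm n F q t s = 0) (htu : hermForm n F q t u = 0) (hz : InR hF X u z) :
    InR hF X u (hermForm n F q z s • t - (hermForm n F q t t / 2 * hermForm n F q z s +
      hermForm n F q z t) • s) := by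
  set k := siegel hF s t _ (isSiegel_real hτ hF h2 htr hss hts) with hk
  have hkX : k ∈ X := siegel_real_mem hτ hX hF h2 hsr htr hss hts
  have hku : act k u = u := by
    rw [hk]
    exact act_siegel_of_orth hF _ (herm_eq_zero_swap hF hsu) (herm_eq_zero_swap hF htu)
  have h1 := hz.map hF hkX
  rw [hku] at h1
  have h3 := h1.sub hF hz
  have h4 : act k z - z = hermForm n F q z s • t - (hermForm n F q t t / 2 * hermForm n F q z s +
      hermForm n F q z t) • s := by
    rw [hk, act_siegel]
    funext i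
    simp only [Pi.add_apply, Pi.sub_apply, Pi.smul_apply, smul_eq_mul]
    ring
  rwa [h4] at h3

/-- step 1b -/
theorem step_oneB {u z s t : Fin n → F} (hu : τ u = u) (hzi : τ z = -z) (hsr : τ s = s)
    (hss : hermForm n F q s s = 0) (hsu : hermForm n F q s u = 0) (htr : τ t = t)
    (hts : hermForm n F q t s = 0) (htu : hermForm n F q t u = 0)
    (htt : hermForm n F q t t ≠ 0) (hz : InR hF X u z) (hzs : hermForm n F q z s ≠ 0)
    {c : F} (hc : c ^ q = -c) : InR hF X u (c • s) := by
  set a := hermForm n F q z s with ha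
  set N := hermForm n F q t t with hN
  have haq : a ^ q = -a := hτ.herm_imag hF hzi hsr
  have hNq : N ^ q = N := hτ.herm_real htr htr
  have key : ∀ r : F, r ^ q = r → InR hF X u (-(r ^ 2 * N * a) • s) := by
    intro r hr
    have h3 := step_one hF hτ h2 hX hsr hss hsu (hτ.smul_real hr htr)
      (by rw [herm_smul_left, hts, mul_zero]) (by rw [herm_smul_left, htu, mul_zero]) hz
    have h4 := step_one hF hτ h2 hX (t := -(r • t)) hsr hss hsu
      (by rw [hτ.neg' hF, hτ.smul_real hr htr])
      (by rw [herm_neg_left, herm_smul_left, hts, mul_zero, neg_zero])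
      (by rw [herm_neg_left, herm_smul_left, htu, mul_zero, neg_zero]) hz
    have h5 := h3.add hF h4
    have h6 : (hermForm n F q z s • (r • t) - (hermForm n F q (r • t) (r • t) / 2 *
        hermForm n F q z s + hermForm n F q z (r • t)) • s) +
        (hermForm n F q z s • (-(r • t)) - (hermForm n F q (-(r • t)) (-(r • t)) / 2 *
        hermForm n F q z s + hermForm n F q z (-(r • t))) • s) = -(r ^ 2 * N * a) • s := by
      rw [herm_neg_left, herm_neg_right hF, herm_neg_right hF, herm_smul_left, herm_smul_right,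
        herm_smul_right, hr, ← ha, ← hN]
      funext i
      simp only [Pi.add_apply, Pi.sub_apply, Pi.smul_apply, Pi.neg_apply, smul_eq_mul]
      field_simp
      ring
    rwa [h6] at h5
  set ρ := -c / (N * a) with hρ
  have hρq : ρ ^ q = ρ := by
    rw [hρ, div_pow, mul_pow, neg_pow_q hF, hc, hNq, haq]
    field_simp
  have h22 := two_pow_q hF
  have e1 : ((ρ + 1) / 2) ^ q = (ρ + 1) / 2 := by
    rw [div_pow, add_pow_q hF, hρq, one_pow, h22]
  have e2 : ((ρ - 1) / 2) ^ q = (ρ - 1) / 2 := by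
    rw [div_pow, sub_pow_q hF, hρq, one_pow, h22]
  have h7 := (key _ e1).sub hF (key _ e2)
  have h8 : -(((ρ + 1) / 2) ^ 2 * N * a) • s - -(((ρ - 1) / 2) ^ 2 * N * a) • s = c • s := by
    rw [← sub_smul]
    congr 1
    have h9 : ρ * (N * a) = -c := by
      rw [hρ]
      field_simp
    field_simp
    linear_combination (-4 : F) * h9
  rwa [h8] at h7

/-- step 1c -/
theorem step_oneC {u z s t t₀ : Fin n → F} (hu : τ u = u) (hzi : τ z = -z) (hsr : τ s = s)
    (hss : hermForm n F q s s = 0) (hsu : hermForm n F q s u = 0) (ht₀r : τ t₀ = t₀)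
    (ht₀s : hermForm n F q t₀ s = 0) (ht₀u : hermForm n F q t₀ u = 0)
    (ht₀t₀ : hermForm n F q t₀ t₀ ≠ 0) (htr : τ t = t)
    (hts : hermForm n F q t s = 0) (htu : hermForm n F q t u = 0)
    (hz : InR hF X u z) (hzs : hermForm n F q z s ≠ 0)
    {c : F} (hc : c ^ q = -c) : InR hF X u (c • t) := by
  set a := hermForm n F q z s with ha
  have haq : a ^ q = -a := hτ.herm_imag hF hzi hsr
  set r := c / a with hr
  have hrq : r ^ q = r := by
    rw [hr, div_pow, hc, haq]
    field_simp
  have h3 := step_one hF hτ h2 hX hsr hss hsu (hτ.smul_real hrq htr)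
      (by rw [herm_smul_left, hts, mul_zero]) (by rw [herm_smul_left, htu, mul_zero]) hz
  have h4 : InR hF X u ((hermForm n F q (r • t) (r • t) / 2 * a +
        hermForm n F q z (r • t)) • s) := by
    apply step_oneB hF hτ h2 hX hu hzi hsr hss hsu ht₀r ht₀s ht₀u ht₀t₀ hz hzs
    rw [add_pow_q hF, mul_pow, div_pow, haq, herm_self_pow hF, two_pow_q hF,
      hτ.herm_imag hF hzi (hτ.smul_real hrq htr)]
    ring
  have h5 := h3.add hF h4
  rw [sub_add_cancel, smul_smul] at h5
  have h6 : a * r = c := by rw [hr]; field_simp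
  rwa [← ha, h6] at h5

/-- step 2 -/
theorem step_two (hn : 5 ≤ n) {u z s : Fin n → F} (hu : τ u = u) (hu0 : u ≠ 0)
    (huu : hermForm n F q u u = 0) (hzi : τ z = -z) (hz : InR hF X u z)
    (hzu : ∀ c : F, z ≠ c • u) (hsr : τ s = s) (hss : hermForm n F q s s = 0)
    (hsu : hermForm n F q s u = 0) {c : F} (hc : c ^ q = -c) : InR hF X u (c • s) := by
  have hz0 : hermForm n F q z u = 0 := by
    obtain ⟨μ, hs, -⟩ := hz
    exact hs.orth
  obtain ⟨s₀, hs₀r, hs₀s₀, hs₀u, hzs₀⟩ := exists_iso_perp hF hτ h2 hn hu hu0 huu hz0 hzu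
  obtain ⟨t₀, ht₀r, ht₀t₀, ht₀u, ht₀s₀⟩ := exists_aniso_perp hF hτ h2 hn hu hu0 huu hs₀r hs₀s₀ hs₀u
  by_cases h : hermForm n F q s s₀ = 0
  · exact step_oneC hF hτ h2 hX hu hzi hs₀r hs₀s₀ hs₀u ht₀r ht₀s₀ ht₀u ht₀t₀ hsr h hsu hz hzs₀ hc
  · obtain ⟨κ, hκ0, hκ⟩ := exists_kappa hF
    have h1 : InR hF X u (κ • s₀) :=
      step_oneB hF hτ h2 hX hu hzi hs₀r hs₀s₀ hs₀u ht₀r ht₀s₀ ht₀u ht₀t₀ hz hzs₀ hκ
    obtain ⟨t, htr, htt, htu, hts⟩ := exists_aniso_perp hF hτ h2 hn hu hu0 huu hsr hss hsu
    refine step_oneB hF hτ h2 hX hu (hτ.smul_real_imag hκ hs₀r) hsr hss hsu htr hts htu htt h1 ?_ hc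
    rw [herm_smul_left]
    exact mul_ne_zero hκ0 (fun h' => h (herm_eq_zero_swap hF h'))

/-- step 3 -/
theorem step_three (hn : 5 ≤ n) {u z y : Fin n → F} (hu : τ u = u) (hu0 : u ≠ 0)
    (huu : hermForm n F q u u = 0) (hzi : τ z = -z) (hz : InR hF X u z)
    (hzu : ∀ c : F, z ≠ c • u) (hyr : τ y = y)
    (hyu : hermForm n F q y u = 0) {c : F} (hc : c ^ q = -c) : InR hF X u (c • y) := by
  by_cases h : ∃ d : F, y = d • u
  · obtain ⟨d, rfl⟩ := h
    rw [smul_smul]
    exact InR.smul_self hF huu _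
  · push Not at h
    obtain ⟨s, hsr, hss, hsu, hys⟩ := exists_iso_perp hF hτ h2 hn hu hu0 huu hyu h
    set N := hermForm n F q y y with hN
    set a := hermForm n F q y s with ha
    have haq : a ^ q = a := hτ.herm_real hyr hsr
    have hNq : N ^ q = N := hτ.herm_real hyr hyr
    set ρ := N / (2 * a) with hρ
    have hρq : ρ ^ q = ρ := by
      rw [hρ, div_pow, mul_pow, hNq, haq, two_pow_q hF]
    have hsy : hermForm n F q s y = a := by rw [hτ.herm_symm hF hsr hyr]
    have h1 : InR hF X u (c • (y - ρ • s)) := by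
      apply step_two hF hτ h2 hX hn hu hu0 huu hzi hz hzu _ _ _ hc
      · rw [hτ.sub hF, hyr, hτ.smul_real hρq hsr]
      · rw [herm_sub_left, herm_sub_right hF, herm_sub_right hF, herm_smul_left, herm_smul_left,
          herm_smul_right, herm_smul_right, hρq, hss, hsy, ← ha, ← hN, hρ]
        field_simp
        ring
      · rw [herm_sub_left, herm_smul_left, hyu, hsu, mul_zero, sub_zero]
    have h3 : InR hF X u ((c * ρ) • s) := by
      apply step_two hF hτ h2 hX hn hu hu0 huu hzi hz hzu hsr hss hsu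
      rw [mul_pow, hc, hρq]
      ring
    have h4 := h1.add hF h3
    have h5 : c • (y - ρ • s) + (c * ρ) • s = c • y := by
      rw [smul_sub, smul_smul, sub_add_cancel]
    rwa [h5] at h4

/-- step 4 -/
theorem step_four (hn : 5 ≤ n) {u z w : Fin n → F} (hu : τ u = u) (hu0 : u ≠ 0)
    (huu : hermForm n F q u u = 0) (hzi : τ z = -z) (hz : InR hF X u z)
    (hzu : ∀ c : F, z ≠ c • u) (hwu : hermForm n F q w u = 0) : InR hF X u w := by
  obtain ⟨κ, hκ0, hκ⟩ := exists_kappa hF
  have hτwu : hermForm n F q (τ w) u = 0 := by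
    have h := hτ.herm w u
    rwa [hu, hwu, zero_pow_q hF] at h
  rw [IsReal.part_add (τ := τ) h2 w]
  apply InR.add
  · apply InR.of_real hτ hX hF h2 hu (hτ.real_part hF h2 w) huu
    rw [herm_smul_left, herm_add_left, hwu, hτwu]
    ring
  · have h1 : (2 : F)⁻¹ • (w - τ w) = κ⁻¹ • (κ • ((2 : F)⁻¹ • (w - τ w))) := by
      rw [smul_smul κ⁻¹, inv_mul_cancel₀ hκ0, one_smul]
    rw [h1]
    apply step_three hF hτ h2 hX hn hu hu0 huu hzi hz hzu (hτ.smul_imag hκ (hτ.imag_part hF h2 w))
    · rw [herm_smul_left, herm_smul_left, herm_sub_left, hwu, hτwu]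
      ring
    · rw [inv_pow, hκ]
      field_simp

/-- step 6 -/
theorem step_six (hn : 5 ≤ n) {u z : Fin n → F} (hu : τ u = u) (hu0 : u ≠ 0)
    (huu : hermForm n F q u u = 0) (hzi : τ z = -z) (hz : InR hF X u z)
    (hzu : ∀ c : F, z ≠ c • u) : Full hF X u := by
  have hw : ∀ w, hermForm n F q w u = 0 → InR hF X u w :=
    fun w => step_four hF hτ h2 hX hn hu hu0 huu hzi hz hzu
  -- transvections
  have htv : ∀ (c : F) (h : IsSiegel q u 0 c), siegel hF u 0 c h ∈ X := by
    intro c h
    have hc : c ^ q = -c := by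
      have := h.tr
      rw [herm_zero_left] at this
      linear_combination this
    -- two vectors orthogonal to `u` with product one
    obtain ⟨s, hsr, hss, hsu, hzs⟩ := exists_iso_perp hF hτ h2 hn hu hu0 huu (by
      obtain ⟨μ, hs, -⟩ := hz
      exact hs.orth) hzu
    set a := hermForm n F q z s with ha
    have haq : a ^ q = -a := hτ.herm_imag hF hzi hsr
    have hzu0 : hermForm n F q z u = 0 := by
      obtain ⟨μ, hs, -⟩ := hz
      exact hs.orth
    obtain ⟨μ₁, hs₁, hm₁⟩ := hw ((c / (2 * a)) • z) (by rw [herm_smul_left, hzu0, mul_zero])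
    obtain ⟨μ₂, hs₂, hm₂⟩ := hw s hsu
    have h3 := siegel_mul hF hs₁ hs₂
    have h4 := siegel_mul hF hs₂ hs₁
    have h5 := siegel_mul hF h (hs₂.mul hF hs₁)
    have e1 : hermForm n F q ((c / (2 * a)) • z) s = c / 2 := by
      rw [herm_smul_left, ← ha]
      field_simp
    have e2 : hermForm n F q s ((c / (2 * a)) • z) = -(c / 2) := by
      rw [herm_swap hF, e1, div_pow, hc, two_pow_q hF]
      ring
    have h6 : siegel hF u 0 c h = (siegel hF u ((c / (2 * a)) • z) μ₁ hs₁ * siegel hF u s μ₂ hs₂) *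
        (siegel hF u s μ₂ hs₂ * siegel hF u ((c / (2 * a)) • z) μ₁ hs₁)⁻¹ := by
      rw [eq_mul_inv_iff_mul_eq, h4, h3, h5]
      apply siegel_congr hF _ _ rfl
      · rw [zero_add, add_comm]
      · rw [e1, e2, herm_zero_right hF]
        field_simp
        ring
    rw [h6]
    exact X.mul_mem (X.mul_mem hm₁ hm₂) (X.inv_mem (X.mul_mem hm₂ hm₁))
  intro w μ hs
  obtain ⟨μ₁, hs₁, hm₁⟩ := hw w hs.orth
  have h0 : IsSiegel q u 0 (μ - μ₁) := by
    refine ⟨huu, herm_zero_left _, ?_⟩
    rw [herm_zero_left, sub_pow_q hF]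
    linear_combination hs.tr - hs₁.tr
  have h1 := siegel_mul hF h0 hs₁
  have h3 : siegel hF u w μ hs = siegel hF u 0 (μ - μ₁) h0 * siegel hF u w μ₁ hs₁ := by
    rw [h1]
    apply siegel_congr hF _ _ rfl
    · rw [zero_add]
    · rw [herm_zero_right hF]
      ring
  rw [h3]
  exact X.mul_mem (htv _ _) hm₁

/-- step 7 -/
theorem step_seven (hn : 5 ≤ n) {u : Fin n → F} (hu : τ u = u) (hu0 : u ≠ 0)
    (huu : hermForm n F q u u = 0) (hfull : Full hF X u) : X = ⊤ := by
  have hT : Nd q τ (⊤ : Submodule F (Fin n → F)) := Nd.top hF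
  obtain ⟨u', -, hu', hu'u', huu1⟩ := hT.exists_partner hF hτ h2 Submodule.mem_top hu hu0 huu
  have hu'u : hermForm n F q u' u = 1 := by rw [hτ.herm_symm hF hu' hu, huu1]
  have hW := hT.cutPair hF (w := u) (w' := u') Submodule.mem_top Submodule.mem_top huu hu'u'
    (by rw [huu1]; exact one_ne_zero) (fun x => pair_stable hF hτ h2 hu hu' x)
  have hd1 := finrank_inf_perp hF (⊤ : Submodule F (Fin n → F)) u
  have hd2 := finrank_inf_perp hF ((⊤ : Submodule F (Fin n → F)) ⊓ perp hF u) u'
  rw [finrank_top, Module.finrank_fin_fun] at hd1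
  obtain ⟨t, ⟨⟨-, htu⟩, htu'⟩, htr, htt⟩ := hW.exists_aniso hF hτ h2
      (Nd.ne_bot_of_finrank (by omega))
  rw [SetLike.mem_coe, mem_perp] at htu htu'
  set N := hermForm n F q t t with hN
  have hNq : N ^ q = N := hτ.herm_real htr htr
  have hut := herm_eq_zero_swap hF htu
  have hu't := herm_eq_zero_swap hF htu'
  set k₁ := siegel hF u' t _ (isSiegel_real hτ hF h2 htr hu'u' htu') with hk₁
  have hk₁X : k₁ ∈ X := siegel_real_mem hτ hX hF h2 hu' htr hu'u' htu'
  have hc2 : (2 / N) ^ q = 2 / N := by rw [div_pow, hNq, two_pow_q hF]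
  have ht2r : τ ((2 / N) • t) = (2 / N) • t := hτ.smul_real hc2 htr
  have ht2u : hermForm n F q ((2 / N) • t) u = 0 := by rw [herm_smul_left, htu, mul_zero]
  set k₂ := siegel hF u ((2 / N) • t) _ (isSiegel_real hτ hF h2 ht2r huu ht2u) with hk₂
  have hk₂X : k₂ ∈ X := hfull _ _ _
  have e1 : act k₁ u = u + t - (N / 2) • u' := by
    rw [hk₁, act_siegel, huu1, hut, ← hN]
    funext i
    simp only [Pi.add_apply, Pi.sub_apply, Pi.smul_apply, smul_eq_mul]
    ring
  have e2 : act k₂ (act k₁ u) = -(N / 2) • u' := by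
    rw [e1, hk₂, act_siegel]
    have a1 : hermForm n F q (u + t - (N / 2) • u') u = -(N / 2) := by
      rw [herm_sub_left, herm_add_left, herm_smul_left, huu, htu, hu'u]
      ring
    have a2 : hermForm n F q (u + t - (N / 2) • u') ((2 / N) • t) = 2 := by
      rw [herm_smul_right, hc2, herm_sub_left, herm_add_left, herm_smul_left, hut, hu't, ← hN]
      field_simp
      ring
    have a3 : hermForm n F q ((2 / N) • t) ((2 / N) • t) = 4 / N := by
      rw [herm_smul_right, hc2, herm_smul_left, ← hN]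
      field_simp
      norm_num
    rw [a1, a2, a3]
    funext i
    simp only [Pi.add_apply, Pi.sub_apply, Pi.smul_apply, smul_eq_mul]
    field_simp
    ring
  have hf2 : Full hF X (-(N / 2) • u') := by
    rw [← e2, ← act_mul]
    exact hfull.map hF (X.mul_mem hk₂X hk₁X)
  have hc0 : (-(N / 2)) ≠ 0 := neg_ne_zero.2 (div_ne_zero htt h2)
  have hf3 : Full hF X u' := by
    have := hf2.smul hF (inv_ne_zero hc0)
    rwa [smul_smul, inv_mul_cancel₀ hc0, one_smul] at this
  exact eq_top_of_full hF (by omega) huu hu'u' huu1 hfull hf3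

/-- **Lemma A.** If `X` is proper, every Siegel element of `X` attached to a real isotropic vector
commutes with the real structure. -/
theorem comm_of_siegel_mem (hn : 5 ≤ n) (hXtop : X ≠ ⊤) {u x : Fin n → F} {μ : F} (hu : τ u = u)
    (hu0 : u ≠ 0) (h : IsSiegel q u x μ) (hmem : siegel hF u x μ h ∈ X) (y : Fin n → F) :
    act (siegel hF u x μ h) (τ y) = τ (act (siegel hF u x μ h) y) := by
  have huu := h.iso
  have hxu := h.orth
  have hτxu : hermForm n F q (τ x) u = 0 := by
    have h := hτ.herm x u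
    rwa [hu, hxu, zero_pow_q hF] at h
  set x₁ := (2 : F)⁻¹ • (x + τ x) with hx₁
  set x₂ := (2 : F)⁻¹ • (x - τ x) with hx₂
  have hx₁r : τ x₁ = x₁ := hτ.real_part hF h2 x
  have hx₂i : τ x₂ = -x₂ := hτ.imag_part hF h2 x
  have hxx : x = x₁ + x₂ := IsReal.part_add h2 x
  have hx₁u : hermForm n F q x₁ u = 0 := by
    rw [hx₁, herm_smul_left, herm_add_left, hxu, hτxu]
    ring
  have hk := siegel_real_mem hτ hX hF h2 hu hx₁r huu hx₁u
  have hk' := isSiegel_real hτ hF h2 hx₁r huu hx₁u
  have hcomm := siegel_real_comm hτ hF h2 hu hx₁r huu hx₁u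
  -- the quotient
  have hR2 : InR hF X u x₂ := by
    have h3 : InR hF X u x := ⟨μ, h, hmem⟩
    have h4 : InR hF X u x₁ := ⟨_, _, hk⟩
    have h5 := h3.sub hF h4
    have h6 : x - x₁ = x₂ := by rw [hxx]; abel
    rwa [h6] at h5
  by_cases h7 : ∃ c : F, x₂ = c • u
  swap
  · push Not at h7
    exact absurd (step_seven hF hτ h2 hX hn hu hu0 huu
      (step_six hF hτ h2 hX hn hu hu0 huu hx₂i hR2 h7)) hXtop
  obtain ⟨c, hc⟩ := h7
  -- then the element is a transvection times a real Siegel element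
  set d := μ + hermForm n F q x₁ x₁ / 2 + (c - c ^ q) with hd
  have hxx1 : hermForm n F q x x = hermForm n F q x₁ x₁ := by
    have h3 : hermForm n F q x x = hermForm n F q (x₁ + c • u) (x₁ + c • u) := by
      rw [← hc, ← hxx]
    rw [h3, herm_add_left, herm_add_right hF, herm_add_right hF, herm_smul_left c,
      herm_smul_left c, herm_smul_right c, herm_smul_right c, huu, hx₁u,
      herm_eq_zero_swap hF hx₁u]
    ring
  have hdq : d + d ^ q = 0 := by
    rw [hd, add_pow_q hF, add_pow_q hF, sub_pow_q hF, pow_q_pow_q hF, div_pow, herm_self_pow hF,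
      two_pow_q hF]
    have := h.tr
    rw [hxx1] at this
    field_simp
    linear_combination (2 : F) * this
  have hst : IsSiegel q u 0 d := ⟨huu, herm_zero_left _, by rw [herm_zero_left, hdq, add_zero]⟩
  have hprod : siegel hF u x μ h = siegel hF u 0 d hst * siegel hF u x₁ _ hk' := by
    apply ext_act
    intro v
    rw [act_mul, act_siegel, act_siegel, act_siegel, hxx, hc]
    simp only [herm_add_left, herm_add_right hF, herm_smul_left, herm_smul_right, huu, hx₁u,
      herm_zero_right hF, hd]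
    funext i
    simp only [Pi.add_apply, Pi.smul_apply, Pi.zero_apply, smul_eq_mul]
    ring
  by_cases hd0 : d = 0
  · have h8 : siegel hF u 0 d hst = 1 := by
      apply ext_act
      intro v
      rw [act_siegel, act_one, hd0, herm_zero_right hF]
      simp
    rw [hprod, h8, one_mul]
    exact hcomm y
  -- otherwise `X` contains a transvection and then everything
  exfalso
  have htm : siegel hF u 0 d hst ∈ X := by
    have : siegel hF u 0 d hst = siegel hF u x μ h * (siegel hF u x₁ _ hk')⁻¹ := by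
      rw [hprod, mul_inv_cancel_right]
    rw [this]
    exact X.mul_mem hmem (X.inv_mem hk)
  have hT : Nd q τ (⊤ : Submodule F (Fin n → F)) := Nd.top hF
  obtain ⟨u', -, hu', hu'u', huu1⟩ := hT.exists_partner hF hτ h2 Submodule.mem_top hu hu0 huu
  have hu'u : hermForm n F q u' u = 1 := by rw [hτ.herm_symm hF hu' hu, huu1]
  have hW := hT.cutPair hF (w := u) (w' := u') Submodule.mem_top Submodule.mem_top huu hu'u'
    (by rw [huu1]; exact one_ne_zero) (fun x => pair_stable hF hτ h2 hu hu' x)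
  have hd1 := finrank_inf_perp hF (⊤ : Submodule F (Fin n → F)) u
  have hd2 := finrank_inf_perp hF ((⊤ : Submodule F (Fin n → F)) ⊓ perp hF u) u'
  rw [finrank_top, Module.finrank_fin_fun] at hd1
  obtain ⟨e, ⟨⟨-, heu⟩, heu'⟩, f, hf, her, hfr, hee, hff, hef⟩ := hW.exists_pair hF hτ h2 (by omega)
  rw [SetLike.mem_coe, mem_perp] at heu heu'
  have hue := herm_eq_zero_swap hF heu
  have hdq' : d ^ q = -d := by linear_combination hdq
  have key : ∀ e' : Fin n → F, τ e' = e' → hermForm n F q e' e' = 0 → hermForm n F q e' u = 0 →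
      hermForm n F q e' u' = 0 → ∃ hs : IsSiegel q (u + e') 0 d,
        siegel hF (u + e') 0 d hs ∈ X := by
    intro e' he' he'e' he'u he'u'
    have h9 := isSiegel_real hτ hF h2 he' hu'u' he'u'
    have h10 := siegel_real_mem hτ hX hF h2 hu' he' hu'u' he'u'
    have h11 : act (siegel hF u' e' _ h9) u = u + e' := by
      rw [act_siegel, huu1, he'e', herm_eq_zero_swap hF he'u]
      simp
    have h12 := hst.map (siegel hF u' e' _ h9)
    have h13 := conj_siegel hF hst (siegel hF u' e' _ h9)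
    have h14 : act (siegel hF u' e' _ h9) 0 = 0 := act_zero _
    rw [h11, h14] at h12
    refine ⟨h12, ?_⟩
    have h15 : siegel hF (u + e') 0 d h12 = siegel hF (act (siegel hF u' e' _ h9) u)
        (act (siegel hF u' e' _ h9) 0) d (hst.map _) :=
      siegel_congr hF _ _ h11.symm h14.symm rfl
    rw [h15, ← h13]
    exact X.mul_mem (X.mul_mem h10 htm) (X.inv_mem h10)
  obtain ⟨hs₁, hm₁⟩ := key e her hee heu heu'
  obtain ⟨hs₂, hm₂⟩ := key (-e) (by rw [hτ.neg' hF, her])
    (by rw [herm_neg_left, herm_neg_right hF, hee, neg_zero, neg_zero])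
    (by rw [herm_neg_left, heu, neg_zero]) (by rw [herm_neg_left, heu', neg_zero])
  have hs₃ : IsSiegel q u ((2 * d) • e) 0 := by
    refine ⟨huu, by rw [herm_smul_left, heu, mul_zero], ?_⟩
    rw [herm_smul_left, herm_smul_right, hee, zero_pow_q hF]
    ring
  have hm₃ : siegel hF u ((2 * d) • e) 0 hs₃ ∈ X := by
    have : siegel hF u ((2 * d) • e) 0 hs₃ = siegel hF (u + e) 0 d hs₁ *
        (siegel hF (u + -e) 0 d hs₂)⁻¹ := by
      rw [eq_mul_inv_iff_mul_eq]
      apply ext_act
      intro v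
      rw [act_mul, act_siegel, act_siegel, act_siegel]
      simp only [herm_add_left, herm_add_right hF, herm_smul_left, herm_smul_right, huu, heu,
        herm_zero_right hF, herm_zero_left, herm_neg_right hF, herm_neg_left, hue, hee, mul_pow,
        two_pow_q hF, hdq']
      funext i
      simp only [Pi.add_apply, Pi.smul_apply, Pi.neg_apply, Pi.zero_apply, smul_eq_mul]
      ring
    rw [this]
    exact X.mul_mem hm₁ (X.inv_mem hm₂)
  apply hXtop
  have hi : τ ((2 * d) • e) = -((2 * d) • e) := by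
    apply hτ.smul_real_imag _ her
    rw [mul_pow, two_pow_q hF, hdq']
    ring
  refine step_seven hF hτ h2 hX hn hu hu0 huu
      (step_six hF hτ h2 hX hn hu hu0 huu hi ⟨_, hs₃, hm₃⟩ ?_)
  intro c' hc'
  have h16 := congrArg (fun v => hermForm n F q v u') hc'
  simp only [herm_smul_left, heu', huu1, mul_zero, mul_one] at h16
  rw [← h16, zero_smul] at hc'
  have h17 : e ≠ 0 := by
    rintro rfl
    rw [herm_zero_left] at hef
    exact zero_ne_one hef
  exact (smul_ne_zero (mul_ne_zero h2 hd0) h17) hc'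

end lemmaA

end Cfsg.Agent.H927
end

-- part: H927/OrthB
section
/-!
# Proper subgroups of `SU_n(q)` containing the real isometries normalise the real structure

`X ≤ SU n F q` proper, containing every element commuting with the real structure `τ`, `q` odd,
`n ≥ 5`. Then every `g ∈ X` is a scalar multiple of an element commuting with `τ`
(`exists_comm_of_mem`).
-/

set_option autoImplicit false
set_option linter.unusedSectionVars false
set_option linter.unusedVariables false

namespace Cfsg.Agent.H927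

open Cfsg Cfsg.Agent.LieClassical.HermBasic Cfsg.Agent.LieClassical.HermSiegel

variable {F : Type*} [Field F] [Fintype F] {n q : ℕ} (hF : Fintype.card F = q ^ 2)

/-- Hilbert 90. -/
theorem exists_hilbert (hF : Fintype.card F = q ^ 2) {c : F} (hc : c * c ^ q = 1) :
    ∃ l : F, l ≠ 0 ∧ c ^ q * l ^ q = l := by
  by_contra hcon
  push Not at hcon
  have key : ∀ ξ : F, ξ + (c * ξ) ^ q = 0 := by
    intro ξ
    by_contra h
    apply hcon _ h
    rw [add_pow_q hF, pow_q_pow_q hF, mul_pow]
    linear_combination ξ * hc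
  have h1 := key 1
  rw [mul_one] at h1
  obtain ⟨ξ, hξ⟩ := exists_not_fixed hF
  apply hξ
  have h2 := key ξ
  rw [mul_pow] at h2
  linear_combination (-1 : F) * h2 + ξ ^ q * h1

theorem eq_of_forall_herm (hF : Fintype.card F = q ^ 2) {a b : Fin n → F}
    (h : ∀ x, hermForm n F q x a = hermForm n F q x b) : a = b := by
  by_contra hab
  obtain ⟨v, hv⟩ := exists_herm_ne_zero hF (sub_ne_zero.2 hab)
  apply hv
  apply herm_eq_zero_swap hF
  rw [herm_sub_right hF, h, sub_self]

section lemmaB

variable {τ : (Fin n → F) → (Fin n → F)} (hτ : IsReal q τ) (h2 : (2 : F) ≠ 0)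

/-- The symmetric bilinear form `h(gx, τ(gy))`. -/
def Phi (τ : (Fin n → F) → (Fin n → F)) (g : SU n F q) (x y : Fin n → F) : F :=
  hermForm n F q (act g x) (τ (act g y))

include hτ

omit [Fintype F] hτ in
theorem Phi_add_left (g : SU n F q) (x x' y : Fin n → F) :
    Phi τ g (x + x') y = Phi τ g x y + Phi τ g x' y := by
  unfold Phi
  rw [act_add, herm_add_left]

omit [Fintype F] hτ in
theorem Phi_smul_left (g : SU n F q) (c : F) (x y : Fin n → F) :
    Phi τ g (c • x) y = c * Phi τ g x y := by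
  unfold Phi
  rw [act_smul, herm_smul_left]

omit [Fintype F] hτ in
theorem Phi_sub_left (g : SU n F q) (x x' y : Fin n → F) :
    Phi τ g (x - x') y = Phi τ g x y - Phi τ g x' y := by
  unfold Phi
  rw [act_sub, herm_sub_left]

theorem Phi_symm (hF : Fintype.card F = q ^ 2) (g : SU n F q) (x y : Fin n → F) :
    Phi τ g y x = Phi τ g x y := by
  unfold Phi
  have h1 := hτ.herm (τ (act g y)) (act g x)
  rw [hτ.invol, herm_swap hF (act g x) (τ (act g y)), pow_q_pow_q hF] at h1
  exact h1

theorem Phi_add_right (hF : Fintype.card F = q ^ 2) (g : SU n F q) (x y y' : Fin n → F) :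
    Phi τ g x (y + y') = Phi τ g x y + Phi τ g x y' := by
  rw [Phi_symm hτ hF, Phi_add_left, Phi_symm hτ hF g y x, Phi_symm hτ hF g y' x]

theorem Phi_sub_right (hF : Fintype.card F = q ^ 2) (g : SU n F q) (x y y' : Fin n → F) :
    Phi τ g x (y - y') = Phi τ g x y - Phi τ g x y' := by
  rw [Phi_symm hτ hF, Phi_sub_left, Phi_symm hτ hF g y x, Phi_symm hτ hF g y' x]

theorem Phi_smul_right (hF : Fintype.card F = q ^ 2) (g : SU n F q) (c : F) (x y : Fin n → F) :
    Phi τ g x (c • y) = c * Phi τ g x y := by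
  rw [Phi_symm hτ hF, Phi_smul_left, Phi_symm hτ hF g y x]

include h2

theorem Phi_real_perp (hF : Fintype.card F = q ^ 2) (hn : 5 ≤ n) {g : SU n F q}
    (hiso : ∀ u, τ u = u → hermForm n F q u u = 0 → Phi τ g u u = 0) {u x : Fin n → F}
    (hu : τ u = u) (hu0 : u ≠ 0) (huu : hermForm n F q u u = 0) (hx : τ x = x)
    (hxu : hermForm n F q x u = 0) : Phi τ g x u = 0 := by
  have h1 : ∀ s, τ s = s → hermForm n F q s s = 0 → hermForm n F q s u = 0 → Phi τ g s u = 0 := by
    intro s hs hss hsu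
    have h3 := hiso (s + u) (by rw [hτ.add, hs, hu]) (by
      rw [herm_add_left, herm_add_right hF, herm_add_right hF, hss, hsu, huu,
        herm_eq_zero_swap hF hsu]
      ring)
    rw [Phi_add_left, Phi_add_right hτ hF, Phi_add_right hτ hF, hiso s hs hss, hiso u hu huu,
      Phi_symm hτ hF g s u] at h3
    have h4 : 2 * Phi τ g s u = 0 := by linear_combination h3
    exact (mul_eq_zero.1 h4).resolve_left h2
  by_cases h : ∃ d : F, x = d • u
  · obtain ⟨d, rfl⟩ := h
    rw [Phi_smul_left, hiso u hu huu, mul_zero]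
  · push Not at h
    obtain ⟨s, hsr, hss, hsu, hxs⟩ := exists_iso_perp hF hτ h2 hn hu hu0 huu hxu h
    set N := hermForm n F q x x with hN
    set a := hermForm n F q x s with ha
    have haq : a ^ q = a := hτ.herm_real hx hsr
    have hNq : N ^ q = N := hτ.herm_real hx hx
    set ρ := N / (2 * a) with hρ
    have hρq : ρ ^ q = ρ := by
      rw [hρ, div_pow, mul_pow, hNq, haq, two_pow_q hF]
    have hsx : hermForm n F q s x = a := by rw [hτ.herm_symm hF hsr hx]
    have h3 := h1 (x - ρ • s) (by rw [hτ.sub hF, hx, hτ.smul_real hρq hsr]) (by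
      rw [herm_sub_left, herm_sub_right hF, herm_sub_right hF, herm_smul_left, herm_smul_left,
          herm_smul_right, herm_smul_right, hρq, hss, hsx, ← ha, ← hN, hρ]
      field_simp
      ring) (by rw [herm_sub_left, herm_smul_left, hxu, hsu, mul_zero, sub_zero])
    rw [Phi_sub_left, Phi_smul_left, h1 s hsr hss hsu, mul_zero, sub_zero] at h3
    exact h3

theorem Phi_perp (hF : Fintype.card F = q ^ 2) (hn : 5 ≤ n) {g : SU n F q}
    (hiso : ∀ u, τ u = u → hermForm n F q u u = 0 → Phi τ g u u = 0) {u x : Fin n → F}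
    (hu : τ u = u) (hu0 : u ≠ 0) (huu : hermForm n F q u u = 0)
    (hxu : hermForm n F q x u = 0) : Phi τ g x u = 0 := by
  obtain ⟨κ, hκ0, hκ⟩ := exists_kappa hF
  have hτxu : hermForm n F q (τ x) u = 0 := by
    have h := hτ.herm x u
    rwa [hu, hxu, zero_pow_q hF] at h
  have h3 := Phi_real_perp hτ h2 hF hn hiso hu hu0 huu (hτ.real_part hF h2 x) (by
    rw [herm_smul_left, herm_add_left, hxu, hτxu]
    ring)
  have h4 := Phi_real_perp hτ h2 hF hn hiso hu hu0 huu
    (hτ.smul_imag hκ (hτ.imag_part hF h2 x)) (by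
    rw [herm_smul_left, herm_smul_left, herm_sub_left, hxu, hτxu]
    ring)
  rw [Phi_smul_left] at h4
  have h5 := (mul_eq_zero.1 h4).resolve_left hκ0
  rw [IsReal.part_add (τ := τ) h2 x, Phi_add_left, h3, h5, add_zero]

theorem Phi_iso (hF : Fintype.card F = q ^ 2) (hn : 5 ≤ n) {g : SU n F q}
    (hiso : ∀ u, τ u = u → hermForm n F q u u = 0 → Phi τ g u u = 0) {u u' : Fin n → F}
    (hu : τ u = u) (hu0 : u ≠ 0) (huu : hermForm n F q u u = 0)
    (hu'u : hermForm n F q u' u = 1) (x : Fin n → F) :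
    Phi τ g x u = hermForm n F q x u * Phi τ g u' u := by
  have h1 : Phi τ g (x - hermForm n F q x u • u') u = 0 :=
    Phi_perp hτ h2 hF hn hiso hu hu0 huu (by
      rw [herm_sub_left, herm_smul_left, hu'u, mul_one, sub_self])
  rw [Phi_sub_left, Phi_smul_left] at h1
  linear_combination h1

/-- the scalar of `g` -/
theorem exists_scalar (hF : Fintype.card F = q ^ 2) (hn : 5 ≤ n) {g : SU n F q}
    (hiso : ∀ u, τ u = u → hermForm n F q u u = 0 → Phi τ g u u = 0) :
    ∃ c : F, ∀ y, τ y = y → τ (act g y) = c ^ q • act g y := by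
  have hT : Nd q τ (⊤ : Submodule F (Fin n → F)) := Nd.top hF
  obtain ⟨e, -, f, -, her, hfr, hee, hff, hef⟩ := hT.exists_pair hF hτ h2 (by
    rw [finrank_top, Module.finrank_fin_fun]
    omega)
  have hfe : hermForm n F q f e = 1 := by rw [hτ.herm_symm hF hfr her, hef]
  have he0 : e ≠ 0 := by
    rintro rfl
    rw [herm_zero_left] at hef
    exact zero_ne_one hef
  have hf0 : f ≠ 0 := by
    rintro rfl
    rw [herm_zero_left] at hfe
    exact zero_ne_one hfe
  set c := Phi τ g f e with hc
  have hΦe : ∀ x, Phi τ g x e = hermForm n F q x e * c := Phi_iso hτ h2 hF hn hiso her he0 hee hfe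
  have hΦf : ∀ x, Phi τ g x f = hermForm n F q x f * c := by
    intro x
    rw [Phi_iso hτ h2 hF hn hiso hfr hf0 hff hef x, Phi_symm hτ hF g f e]
  refine ⟨c, fun y hy => ?_⟩
  have key : ∀ x, Phi τ g x y = hermForm n F q x y * c := by
    intro x
    set a := hermForm n F q y f with ha
    set b := hermForm n F q y e with hb
    have haq : a ^ q = a := hτ.herm_real hy hfr
    have hbq : b ^ q = b := hτ.herm_real hy her
    set y' := y - a • e - b • f with hy'
    have hy'r : τ y' = y' := by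
      rw [hy', hτ.sub hF, hτ.sub hF, hy, hτ.smul_real haq her, hτ.smul_real hbq hfr]
    have hy'e : hermForm n F q y' e = 0 := by
      rw [hy', herm_sub_left, herm_sub_left, herm_smul_left, herm_smul_left, hee, hfe, ← hb]
      ring
    have hy'f : hermForm n F q y' f = 0 := by
      rw [hy', herm_sub_left, herm_sub_left, herm_smul_left, herm_smul_left, hef, hff, ← ha]
      ring
    set N := hermForm n F q y' y' with hN
    have hNq : N ^ q = N := hτ.herm_real hy'r hy'r
    have hcq : (N / 2) ^ q = N / 2 := by rw [div_pow, hNq, two_pow_q hF]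
    have hfy' := herm_eq_zero_swap hF hy'f
    have hey' := herm_eq_zero_swap hF hy'e
    set u := e - (N / 2) • f + y' with hu
    have hur : τ u = u := by
      rw [hu, hτ.add, hτ.sub hF, her, hτ.smul_real hcq hfr, hy'r]
    have hfu : hermForm n F q f u = 1 := by
      rw [hu, herm_add_right hF, herm_sub_right hF, herm_smul_right, hcq, hfe, hff, hfy']
      ring
    have hu0 : u ≠ 0 := by
      intro h
      rw [h, herm_zero_right hF] at hfu
      exact zero_ne_one hfu
    have huu : hermForm n F q u u = 0 := by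
      simp only [hu, herm_add_left, herm_add_right hF, herm_sub_left, herm_sub_right hF,
        herm_smul_left, herm_smul_right, hee, hff, hef, hfe, hy'e, hy'f, hey', hfy', hcq, ← hN]
      field_simp
      ring
    have h1 := Phi_iso hτ h2 hF hn hiso hur hu0 huu hfu x
    have h3 : Phi τ g f u = c := by
      rw [hu, Phi_add_right hτ hF, Phi_sub_right hτ hF, Phi_smul_right hτ hF, ← hc, hΦf f, hff,
        ← Phi_symm hτ hF g f y', hΦf y', hy'f]
      ring
    rw [h3, hu, Phi_add_right hτ hF, Phi_sub_right hτ hF, Phi_smul_right hτ hF, hΦe x, hΦf x,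
      herm_add_right hF, herm_sub_right hF, herm_smul_right, hcq] at h1
    have h4 : Phi τ g x y' = hermForm n F q x y' * c := by linear_combination h1
    have h5 : y = y' + a • e + b • f := by rw [hy']; abel
    rw [h5, Phi_add_right hτ hF, Phi_add_right hτ hF, Phi_smul_right hτ hF, Phi_smul_right hτ hF,
      h4, hΦe x, hΦf x, herm_add_right hF, herm_add_right hF, herm_smul_right, herm_smul_right,
      haq, hbq]
    ring
  apply eq_of_forall_herm hF
  intro z
  have h1 := key (act g⁻¹ z)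
  unfold Phi at h1
  rw [act_act_inv] at h1
  rw [h1, herm_smul_right, pow_q_pow_q hF, ← herm_act g, act_act_inv, mul_comm]

/-- **Lemma B.** -/
theorem exists_comm_of_iso (hF : Fintype.card F = q ^ 2) (hn : 5 ≤ n) {g : SU n F q}
    (hiso : ∀ u, τ u = u → hermForm n F q u u = 0 → Phi τ g u u = 0) :
    ∃ l : F, l ≠ 0 ∧ ∀ y, τ (l • act g y) = l • act g (τ y) := by
  obtain ⟨c, hc⟩ := exists_scalar hτ h2 hF hn hiso
  have hT : Nd q τ (⊤ : Submodule F (Fin n → F)) := Nd.top hF
  obtain ⟨e, -, her, hee⟩ := hT.exists_aniso hF hτ h2 (Nd.ne_bot_of_finrank (by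
    rw [finrank_top, Module.finrank_fin_fun]
    omega))
  have he0 : act g e ≠ 0 := by
    intro h
    rw [act_eq_zero] at h
    rw [h, herm_zero_left] at hee
    exact hee rfl
  have hcc : c * c ^ q = 1 := by
    have h1 := congrArg τ (hc e her)
    rw [hτ.invol, hτ.smul, pow_q_pow_q hF, hc e her, smul_smul] at h1
    have h3 : (c * c ^ q - 1) • act g e = 0 := by
      rw [sub_smul, one_smul, ← h1, sub_self]
    rcases smul_eq_zero.1 h3 with h4 | h4
    · exact sub_eq_zero.1 h4
    · exact absurd h4 he0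
  obtain ⟨l, hl0, hl⟩ := exists_hilbert hF hcc
  refine ⟨l, hl0, fun y => ?_⟩
  have hreal : ∀ y, τ y = y → τ (l • act g y) = l • act g y := by
    intro y hy
    rw [hτ.smul, hc y hy, smul_smul, mul_comm, hl]
  obtain ⟨κ, hκ0, hκ⟩ := exists_kappa hF
  have h3 := hreal _ (hτ.real_part hF h2 y)
  have h4 := hreal _ (hτ.smul_imag hκ (hτ.imag_part hF h2 y))
  set y₁ := (2 : F)⁻¹ • (y + τ y) with hy₁
  set y₂ := (2 : F)⁻¹ • (y - τ y) with hy₂
  have hy₁r : τ y₁ = y₁ := hτ.real_part hF h2 y
  have hy₂i : τ y₂ = -y₂ := hτ.imag_part hF h2 y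
  have hy : y = y₁ + y₂ := IsReal.part_add h2 y
  have h5 : τ (l • act g y₂) = -(l • act g y₂) := by
    have h6 : l • act g (κ • y₂) = κ • (l • act g y₂) := by
      rw [act_smul, smul_comm]
    rw [h6, hτ.smul, hκ] at h4
    have h7 : κ • (τ (l • act g y₂) + l • act g y₂) = 0 := by
      rw [smul_add, ← h4]
      rw [neg_smul]
      abel
    rcases smul_eq_zero.1 h7 with h8 | h8
    · exact absurd h8 hκ0
    · exact eq_neg_of_add_eq_zero_left h8
  rw [hy, act_add, smul_add, hτ.add, h3, h5, hτ.add, hy₁r, hy₂i, act_add, smul_add, act_neg,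
    smul_neg]

end lemmaB

section conjR

/-- the conjugate of a real structure -/
def conjR (g : SU n F q) (τ : (Fin n → F) → (Fin n → F)) : (Fin n → F) → (Fin n → F) :=
  fun x => act g (τ (act g⁻¹ x))

variable {τ : (Fin n → F) → (Fin n → F)} (hτ : IsReal q τ)
include hτ

theorem IsReal.conjR (g : SU n F q) : IsReal q (conjR g τ) where
  add x y := by
    unfold H927.conjR
    rw [act_add, hτ.add, act_add]
  smul c x := by
    unfold H927.conjR
    rw [act_smul, hτ.smul, act_smul]
  invol x := by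
    unfold H927.conjR
    rw [act_inv_act, hτ.invol, act_act_inv]
  herm x y := by
    unfold H927.conjR
    rw [herm_act, hτ.herm, herm_act]

omit hτ in
theorem conjR_act (g : SU n F q) (x : Fin n → F) :
    H927.conjR g τ (act g x) = act g (τ x) := by
  unfold H927.conjR
  rw [act_inv_act]

omit hτ in
theorem Hyp.conjR {X : Subgroup (SU n F q)} (hX : Hyp X τ) {g : SU n F q} (hg : g ∈ X) :
    Hyp X (H927.conjR g τ) := by
  intro k hk
  have h1 : g⁻¹ * k * g ∈ X := by
    apply hX
    intro x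
    have h3 := hk (act g x)
    rw [conjR_act] at h3
    unfold H927.conjR at h3
    rw [act_mul, act_mul, act_mul, act_mul, h3, act_inv_act]
  have h4 : k = g * (g⁻¹ * k * g) * g⁻¹ := by group
  rw [h4]
  exact X.mul_mem (X.mul_mem hg h1) (X.inv_mem hg)

end conjR

section lemmaC

variable {τ : (Fin n → F) → (Fin n → F)} (hτ : IsReal q τ) (h2 : (2 : F) ≠ 0)
  {X : Subgroup (SU n F q)} (hX : Hyp X τ)
include hτ hX h2

/-- If `τ'` is a second real structure with the same property and `w` is `τ'`-real isotropic,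
elements commuting with `τ` and fixing `w` commute with `τ'` on `w^⊥`. -/
theorem comm_perp (hF : Fintype.card F = q ^ 2) (hn : 5 ≤ n) (hXtop : X ≠ ⊤)
    {τ' : (Fin n → F) → (Fin n → F)} (hτ' : IsReal q τ') (hX' : Hyp X τ') {w : Fin n → F}
    (hw : τ' w = w) (hw0 : w ≠ 0) (hww : hermForm n F q w w = 0) {k : SU n F q}
    (hk : ∀ x, act k (τ x) = τ (act k x)) (hkw : act k w = w) {x : Fin n → F}
    (hxw : hermForm n F q x w = 0) : act k (τ' x) = τ' (act k x) := by
  have hkX : k ∈ X := hX k hk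
  have key : ∀ x, τ' x = x → hermForm n F q x w = 0 → τ' (act k x) = act k x := by
    intro x hx hxw
    have hs := isSiegel_real hτ' hF h2 hx hww hxw
    have hm := siegel_real_mem hτ' hX' hF h2 hw hx hww hxw
    have h1 : siegel hF (act k w) (act k x) _ (hs.map k) ∈ X := by
      rw [← conj_siegel hF hs]
      exact X.mul_mem (X.mul_mem hkX hm) (X.inv_mem hkX)
    have hs' : IsSiegel q w (act k x) (-(hermForm n F q x x / 2)) := by
      have := hs.map k
      rwa [hkw] at this
    have h3 : siegel hF w (act k x) _ hs' ∈ X := by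
      have : siegel hF w (act k x) _ hs' = siegel hF (act k w) (act k x) _ (hs.map k) :=
        siegel_congr hF _ _ hkw.symm rfl rfl
      rw [this]
      exact h1
    have h4 := comm_of_siegel_mem hF hτ' h2 hX' hn hXtop hw hw0 hs' h3
    obtain ⟨w', -, hw'r, hw'w', hww1⟩ := (Nd.top (q := q) (τ := τ') hF).exists_partner hF hτ' h2
      Submodule.mem_top hw hw0 hww
    have hw'w : hermForm n F q w' w = 1 := by rw [hτ'.herm_symm hF hw'r hw, hww1]
    have h5 := h4 w'
    rw [tau_siegel hτ' hw hs' hF, act_siegel, act_siegel, hw'r, hw'w, one_smul, one_smul] at h5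
    have hμq : (-(hermForm n F q x x / 2)) ^ q = -(hermForm n F q x x / 2) := by
      rw [neg_pow_q hF, div_pow, two_pow_q hF, herm_self_pow hF]
    rw [hμq] at h5
    -- `τ'(k x) = k x + m w`
    obtain ⟨m, hm'⟩ : ∃ m, m = hermForm n F q w' (τ' (act k x)) - hermForm n F q w' (act k x) :=
      ⟨_, rfl⟩
    have h6 : τ' (act k x) = act k x + m • w := by
      funext i
      have := congrFun h5 i
      simp only [Pi.add_apply, Pi.smul_apply, smul_eq_mul] at this ⊢
      rw [hm']
      linear_combination (-1 : F) * this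
    have h9 : m ^ q = -m := by
      have e1 := hτ'.herm w' (τ' (act k x))
      have e2 := hτ'.herm w' (act k x)
      rw [hw'r] at e1 e2
      rw [hτ'.invol] at e1
      rw [hm', sub_pow_q hF, ← e1, ← e2]
      ring
    have h10 : m = m ^ q := by
      have e1 := hm'
      rw [h6, herm_add_right hF, herm_smul_right, hw'w] at e1
      linear_combination e1
    have h11 : m = 0 := by
      have : 2 * m = 0 := by linear_combination h10 + h9
      exact (mul_eq_zero.1 this).resolve_left h2
    rw [h6, h11, zero_smul, add_zero]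
  obtain ⟨κ, hκ0, hκ⟩ := exists_kappa hF
  have hτxw : hermForm n F q (τ' x) w = 0 := by
    have h := hτ'.herm x w
    rwa [hw, hxw, zero_pow_q hF] at h
  set x₁ := (2 : F)⁻¹ • (x + τ' x) with hx₁
  set x₂ := (2 : F)⁻¹ • (x - τ' x) with hx₂
  have hx₁r : τ' x₁ = x₁ := hτ'.real_part hF h2 x
  have hx₂i : τ' x₂ = -x₂ := hτ'.imag_part hF h2 x
  have hx : x = x₁ + x₂ := IsReal.part_add h2 x
  have h3 := key x₁ hx₁r (by
    rw [hx₁, herm_smul_left, herm_add_left, hxw, hτxw]
    ring)
  have h4 := key (κ • x₂) (hτ'.smul_imag hκ hx₂i) (by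
    rw [hx₂, herm_smul_left, herm_smul_left, herm_sub_left, hxw, hτxw]
    ring)
  have h5 : τ' (act k x₂) = -(act k x₂) := by
    rw [act_smul, hτ'.smul, hκ] at h4
    have h7 : κ • (τ' (act k x₂) + act k x₂) = 0 := by
      rw [smul_add, ← h4, neg_smul]
      abel
    rcases smul_eq_zero.1 h7 with h8 | h8
    · exact absurd h8 hκ0
    · exact eq_neg_of_add_eq_zero_left h8
  rw [hx, hτ'.add, act_add, act_add, hτ'.add, hx₁r, hx₂i, h3, h5, act_neg]

/-- **Lemma C.** -/
theorem Phi_eq_zero_of_mem (hF : Fintype.card F = q ^ 2) (hn : 5 ≤ n) (hXtop : X ≠ ⊤)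
    {g : SU n F q} (hg : g ∈ X) {u : Fin n → F} (hu : τ u = u) (huu : hermForm n F q u u = 0) :
    Phi τ g u u = 0 := by
  by_contra hne
  unfold Phi at hne
  have hu0 : u ≠ 0 := by
    rintro rfl
    rw [act_zero, herm_zero_left] at hne
    exact hne rfl
  have hτ' : IsReal q (H927.conjR g τ) := hτ.conjR g
  have hX' : Hyp X (H927.conjR g τ) := hX.conjR hg
  set τ' := H927.conjR g τ with hτ'def
  set w := act g u with hw
  have hw0 : w ≠ 0 := by
    rw [hw, Ne, act_eq_zero]
    exact hu0
  have hwr : τ' w = w := by rw [hτ'def, hw, conjR_act, hu]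
  have hww : hermForm n F q w w = 0 := by rw [hw, herm_act, huu]
  have hτww : hermForm n F q (τ w) (τ w) = 0 := by rw [hτ.herm, hww, zero_pow_q hF]
  -- the orthogonal of `w, τ w`
  have hT : Nd q τ (⊤ : Submodule F (Fin n → F)) := Nd.top hF
  have hW := hT.cutPair hF (w := w) (w' := τ w) Submodule.mem_top Submodule.mem_top hww hτww hne
    (fun x h1 h1' => by
      constructor
      · have h := hτ.herm x (τ w)
        rwa [hτ.invol, h1', zero_pow_q hF] at h
      · have h := hτ.herm x w
        rwa [h1, zero_pow_q hF] at h)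
  have hd1 := finrank_inf_perp hF (⊤ : Submodule F (Fin n → F)) w
  have hd2 := finrank_inf_perp hF ((⊤ : Submodule F (Fin n → F)) ⊓ perp hF w) (τ w)
  rw [finrank_top, Module.finrank_fin_fun] at hd1
  obtain ⟨e, heW, f, hfW, her, hfr, hee, hff, hef⟩ := hW.exists_pair hF hτ h2 (by omega)
  have hW2 := hW.cutPair hF (w := e) (w' := f) heW hfW hee hff
    (by rw [hef]; exact one_ne_zero) (fun x => pair_stable hF hτ h2 her hfr x)
  have hd3 := finrank_inf_perp hF ((⊤ : Submodule F (Fin n → F)) ⊓ perp hF w ⊓ perp hF (τ w)) e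
  have hd4 := finrank_inf_perp hF
    ((⊤ : Submodule F (Fin n → F)) ⊓ perp hF w ⊓ perp hF (τ w) ⊓ perp hF e) f
  obtain ⟨⟨-, hew⟩, heτw⟩ := heW
  obtain ⟨⟨-, hfw⟩, hfτw⟩ := hfW
  rw [SetLike.mem_coe, mem_perp] at hew heτw hfw hfτw
  have hfe : hermForm n F q f e = 1 := by rw [hτ.herm_symm hF hfr her, hef]
  have he0 : e ≠ 0 := by
    rintro rfl
    rw [herm_zero_left] at hef
    exact zero_ne_one hef
  have hτ'ew : hermForm n F q (τ' e) w = 0 := by
    have h := hτ'.herm e w
    rwa [hwr, hew, zero_pow_q hF] at h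
  -- the elements `k_t`
  have hk : ∀ t : Fin n → F, τ t = t → hermForm n F q t w = 0 → hermForm n F q t e = 0 →
      ∃ hs : IsSiegel q e t (-(hermForm n F q t t / 2)), ∀ x, hermForm n F q x w = 0 →
      act (siegel hF e t _ hs) (τ' x) = τ' (act (siegel hF e t _ hs) x) := by
    intro t ht htw hte
    have hs := isSiegel_real hτ hF h2 ht hee hte
    refine ⟨hs, fun x hx => ?_⟩
    refine comm_perp hτ h2 hX hF hn hXtop hτ' hX' hwr hw0 hww
      (siegel_real_comm hτ hF h2 her ht hee hte) ?_ hx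
    exact act_siegel_of_orth hF _ (herm_eq_zero_swap hF hew) (herm_eq_zero_swap hF htw)
  -- `τ' e` is orthogonal to `e` and to the real vectors of `W2`
  have h1 : ∀ t : Fin n → F, τ t = t → hermForm n F q t w = 0 → hermForm n F q t e = 0 →
      hermForm n F q (τ' e) e • t + (-(hermForm n F q t t / 2) * hermForm n F q (τ' e) e -
        hermForm n F q (τ' e) t) • e = 0 := by
    intro t ht htw hte
    obtain ⟨hs, hcomm⟩ := hk t ht htw hte
    have h3 := hcomm e hew
    rw [act_siegel_of_orth hF hs hee (herm_eq_zero_swap hF hte), act_siegel] at h3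
    rw [add_assoc] at h3
    exact add_eq_left.1 h3
  obtain ⟨t, htW, htr, htt⟩ := hW2.exists_aniso hF hτ h2 (Nd.ne_bot_of_finrank (by omega))
  have hτ'ee : hermForm n F q (τ' e) e = 0 := by
    obtain ⟨⟨⟨⟨-, htw⟩, htτw⟩, hte⟩, htf⟩ := htW
    rw [SetLike.mem_coe, mem_perp] at htw htτw hte htf
    have h3 := congrArg (fun v => hermForm n F q v t) (h1 t htr htw hte)
    simp only [herm_add_left, herm_smul_left, herm_zero_left, herm_eq_zero_swap hF hte, mul_zero,
      add_zero] at h3
    exact (mul_eq_zero.1 h3).resolve_right htt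
  have hτ'et : ∀ t : Fin n → F, τ t = t → hermForm n F q t w = 0 → hermForm n F q t e = 0 →
      hermForm n F q (τ' e) t = 0 := by
    intro t ht htw hte
    have h3 := h1 t ht htw hte
    rw [hτ'ee, zero_smul, mul_zero, zero_sub, zero_add] at h3
    have h4 := (smul_eq_zero.1 h3).resolve_right he0
    exact neg_eq_zero.1 h4
  -- `τ' e` is orthogonal to `τ w`
  have hτ'eτw : hermForm n F q (τ' e) (τ w) = 0 := by
    obtain ⟨⟨⟨⟨-, htw⟩, htτw⟩, hte⟩, htf⟩ := htW
    rw [SetLike.mem_coe, mem_perp] at htw htτw hte htf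
    obtain ⟨hs, hcomm⟩ := hk t htr htw hte
    have h3 := hcomm t htw
    rw [act_siegel, act_siegel, hte, zero_smul, mul_zero, zero_sub, add_zero, hτ'.add,
      hτ'.smul] at h3
    have h4 := congrArg (fun v => hermForm n F q v (τ w)) h3
    simp only [herm_add_left, herm_smul_left, htτw, heτw, mul_zero, add_zero] at h4
    have hNq : hermForm n F q t t ^ q = hermForm n F q t t := hτ.herm_real htr htr
    rw [neg_pow_q hF, hNq] at h4
    have h5 : hermForm n F q t t * hermForm n F q (τ' e) (τ w) = 0 := by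
      linear_combination h4
    exact (mul_eq_zero.1 h5).resolve_left htt
  -- hence `τ' e = α e`
  obtain ⟨α, hα⟩ : ∃ α, α = hermForm n F q (τ' e) f := ⟨_, rfl⟩
  have hτ'e : τ' e = α • e := by
    by_contra hne'
    have h3 : τ' e - α • e ≠ 0 := sub_ne_zero.2 hne'
    obtain ⟨y, ⟨⟨⟨⟨-, hyw⟩, hyτw⟩, hye⟩, hyf⟩, hyr, hy⟩ := hW2.exists_real hF hτ h2
      (x := τ' e - α • e) (by
        refine ⟨⟨⟨⟨Submodule.mem_top, ?_⟩, ?_⟩, ?_⟩, ?_⟩
        · change hermForm n F q _ w = 0
          rw [herm_sub_left, herm_smul_left, hτ'ew, hew, mul_zero, sub_zero]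
        · change hermForm n F q _ (τ w) = 0
          rw [herm_sub_left, herm_smul_left, hτ'eτw, heτw, mul_zero, sub_zero]
        · change hermForm n F q _ e = 0
          rw [herm_sub_left, herm_smul_left, hτ'ee, hee, mul_zero, sub_zero]
        · change hermForm n F q _ f = 0
          rw [herm_sub_left, herm_smul_left, ← hα, hef, mul_one, sub_self]) h3
    rw [SetLike.mem_coe, mem_perp] at hyw hyτw hye hyf
    apply hy
    rw [herm_sub_left, herm_smul_left, hτ'et y hyr hyw hye, herm_eq_zero_swap hF hye, mul_zero,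
      sub_zero]
  have hαα : α ^ q * (α ^ q) ^ q = 1 := by
    have h3 := congrArg τ' hτ'e
    rw [hτ'.invol, hτ'.smul, hτ'e, smul_smul] at h3
    have h4 : (α ^ q * α - 1) • e = 0 := by
      rw [sub_smul, one_smul, ← h3, sub_self]
    rw [pow_q_pow_q hF]
    rcases smul_eq_zero.1 h4 with h5 | h5
    · exact sub_eq_zero.1 h5
    · exact absurd h5 he0
  obtain ⟨ν, hν0, hν⟩ := exists_hilbert hF hαα
  rw [pow_q_pow_q hF] at hν
  have hνe : τ' (ν • e) = ν • e := by
    rw [hτ'.smul, hτ'e, smul_smul, mul_comm, hν]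
  have hνee : hermForm n F q (ν • e) (ν • e) = 0 := by
    rw [herm_smul_left, herm_smul_right, hee, mul_zero, mul_zero]
  have hwνe : hermForm n F q w (ν • e) = 0 := by
    rw [herm_smul_right, herm_eq_zero_swap hF hew, mul_zero]
  have hm := siegel_real_mem hτ' hX' hF h2 hνe hwr hνee hwνe
  have hs : IsSiegel q e (ν ^ q • w) 0 := by
    refine ⟨hee, by rw [herm_smul_left, herm_eq_zero_swap hF hew, mul_zero], ?_⟩
    rw [herm_smul_left, herm_smul_right, hww, zero_pow_q hF]
    ring
  have hm' : siegel hF e (ν ^ q • w) 0 hs ∈ X := by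
    have h3 : siegel hF e (ν ^ q • w) 0 hs =
        siegel hF (ν • e) w _ (isSiegel_real hτ' hF h2 hwr hνee hwνe) := by
      apply ext_act
      intro v
      rw [act_siegel, act_siegel, herm_smul_right, herm_smul_right, hww, pow_q_pow_q hF]
      funext i
      simp only [Pi.add_apply, Pi.smul_apply, smul_eq_mul]
      ring
    rw [h3]
    exact hm
  have h5 := comm_of_siegel_mem hF hτ h2 hX hn hXtop her he0 hs hm' f
  rw [act_siegel, act_siegel, hfr, hfe, hτ.add, hτ.add, hτ.smul, hτ.smul, hτ.smul, hfr, her,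
    herm_smul_right, hfw] at h5
  have h6 : ν ^ q • w = ν • τ w := by
    simp only [mul_zero, sub_zero, zero_mul, zero_smul, add_zero, one_smul, one_pow,
      pow_q_pow_q hF, zero_pow_q hF] at h5
    exact add_left_cancel h5
  apply hne
  have h7 := congrArg (fun v => hermForm n F q w v) h6
  simp only [herm_smul_right, hww, mul_zero] at h7
  exact (mul_eq_zero.1 h7.symm).resolve_left (pow_ne_zero _ hν0)

/-- A proper subgroup containing all elements commuting with `τ` consists of scalar multiples of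
such elements. -/
theorem exists_comm_of_mem (hF : Fintype.card F = q ^ 2) (hn : 5 ≤ n) (hXtop : X ≠ ⊤)
    {g : SU n F q} (hg : g ∈ X) : ∃ l : F, l ≠ 0 ∧ ∀ y, τ (l • act g y) = l • act g (τ y) :=
  exists_comm_of_iso hτ h2 hF hn
    (fun u hu huu => Phi_eq_zero_of_mem hτ h2 hX hF hn hXtop hg hu huu)

end lemmaC

end Cfsg.Agent.H927
end

-- part: H927/OrthMax
section
/-!
# `O_n(q)` is maximal in `SU_n(q)`, `q` odd, `n ≥ 5`

`orthogonal_maximal`: `|F| = q²`, `q` odd, `n ≥ 5`, `P` a basis on whose `F₀`-span the standard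
Hermitian form takes values in `F₀`; then `subfieldSubgroup F₀ P ⊓ SU_n(q)` is maximal in `SU_n(q)`.
-/

set_option autoImplicit false
set_option linter.unusedSectionVars false
set_option linter.unusedVariables false

namespace Cfsg.Agent.H927

open Cfsg Cfsg.Agent.LieClassical.HermBasic Cfsg.Agent.LieClassical.HermSiegel
open Matrix

variable {F : Type*} [Field F] [Fintype F] {n q : ℕ}

/-- entrywise Frobenius -/
def frob (q : ℕ) (a : Fin n → F) : Fin n → F := fun i => a i ^ q

omit [Fintype F] in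
theorem frob_apply (a : Fin n → F) (i : Fin n) : frob q a i = a i ^ q := rfl

theorem frob_add (hF : Fintype.card F = q ^ 2) (a b : Fin n → F) :
    frob q (a + b) = frob q a + frob q b := by
  funext i
  simp only [frob_apply, Pi.add_apply, add_pow_q hF]

omit [Fintype F] in
theorem frob_smul (c : F) (a : Fin n → F) : frob q (c • a) = c ^ q • frob q a := by
  funext i
  simp only [frob_apply, Pi.smul_apply, smul_eq_mul, mul_pow]

theorem frob_frob (hF : Fintype.card F = q ^ 2) (a : Fin n → F) : frob q (frob q a) = a := by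
  funext i
  simp only [frob_apply, pow_q_pow_q hF]

theorem frob_single (hF : Fintype.card F = q ^ 2) (j : Fin n) :
    frob q (Pi.single j (1 : F)) = Pi.single j 1 := by
  funext i
  by_cases h : i = j
  · subst h
    simp [frob_apply]
  · simp [frob_apply, Pi.single_eq_of_ne h, zero_pow_q hF]

omit [Fintype F] in
theorem mulVec_eq_sum_single (M : Matrix (Fin n) (Fin n) F) (a : Fin n → F) :
    M *ᵥ a = ∑ i, a i • (M *ᵥ Pi.single i (1 : F)) := by
  conv_lhs => rw [pi_eq_sum_univ a]
  rw [Matrix.mulVec_sum]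
  apply Finset.sum_congr rfl
  intro i _
  rw [Matrix.mulVec_smul]
  congr 2
  funext j
  simp [Pi.single_apply, eq_comm]

theorem herm_mulVec_mulVec (hF : Fintype.card F = q ^ 2) (M : Matrix (Fin n) (Fin n) F)
    (a b : Fin n → F) : hermForm n F q (M *ᵥ a) (M *ᵥ b) = ∑ i, ∑ j, a i * (b j ^ q *
      hermForm n F q (M *ᵥ Pi.single i (1 : F)) (M *ᵥ Pi.single j (1 : F))) := by
  conv_lhs => rw [mulVec_eq_sum_single M a, herm_sum_left]
  apply Finset.sum_congr rfl
  intro i _
  rw [herm_smul_left, mulVec_eq_sum_single M b, herm_sum_right hF, Finset.mul_sum]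
  apply Finset.sum_congr rfl
  intro j _
  rw [herm_smul_right]

/-- The real structure of the basis `P`. -/
def tauP (q : ℕ) (P : Matrix.GeneralLinearGroup (Fin n) F) (x : Fin n → F) : Fin n → F :=
  (P : Matrix (Fin n) (Fin n) F) *ᵥ
    frob q (((P⁻¹ : Matrix.GeneralLinearGroup (Fin n) F) : Matrix (Fin n) (Fin n) F) *ᵥ x)

omit [Fintype F] in
theorem inv_mulVec_mulVec (P : Matrix.GeneralLinearGroup (Fin n) F) (x : Fin n → F) :
    ((P⁻¹ : Matrix.GeneralLinearGroup (Fin n) F) : Matrix (Fin n) (Fin n) F) *ᵥ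
      ((P : Matrix (Fin n) (Fin n) F) *ᵥ x) = x := by
  rw [Matrix.mulVec_mulVec, ← Units.val_mul, inv_mul_cancel, Units.val_one, Matrix.one_mulVec]

omit [Fintype F] in
theorem mulVec_inv_mulVec (P : Matrix.GeneralLinearGroup (Fin n) F) (x : Fin n → F) :
    (P : Matrix (Fin n) (Fin n) F) *ᵥ
      (((P⁻¹ : Matrix.GeneralLinearGroup (Fin n) F) : Matrix (Fin n) (Fin n) F) *ᵥ x) = x := by
  rw [Matrix.mulVec_mulVec, ← Units.val_mul, mul_inv_cancel, Units.val_one, Matrix.one_mulVec]

theorem card_subfield (hF : Fintype.card F = q ^ 2) {F₀ : Subfield F}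
    (hcard : Fintype.card F = Nat.card F₀ ^ 2) : Nat.card F₀ = q := by
  have h1 : Nat.card F₀ ^ 2 = q ^ 2 := by rw [← hcard, hF]
  exact Nat.pow_left_injective (n := 2) (by norm_num) h1

theorem mem_iff_pow (hF : Fintype.card F = q ^ 2) {F₀ : Subfield F}
    (hcard : Fintype.card F = Nat.card F₀ ^ 2) (x : F) : x ∈ F₀ ↔ x ^ q = x := by
  rw [H914.mem_subfield_iff_pow, card_subfield hF hcard]

theorem isReal_tauP (hF : Fintype.card F = q ^ 2) {F₀ : Subfield F}
    (hcard : Fintype.card F = Nat.card F₀ ^ 2) {P : Matrix.GeneralLinearGroup (Fin n) F}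
    (hP : Cfsg.Geo.IsFormRationalStructure (Cfsg.hermForm n F q) F₀ 1 P) :
    IsReal q (tauP q P) where
  add x y := by
    unfold tauP
    rw [Matrix.mulVec_add, frob_add hF, Matrix.mulVec_add]
  smul c x := by
    unfold tauP
    rw [Matrix.mulVec_smul, frob_smul, Matrix.mulVec_smul]
  invol x := by
    unfold tauP
    rw [inv_mulVec_mulVec, frob_frob hF, mulVec_inv_mulVec]
  herm x y := by
    obtain ⟨a, rfl⟩ : ∃ a, x = (P : Matrix (Fin n) (Fin n) F) *ᵥ a := ⟨_, (mulVec_inv_mulVec P x).symm⟩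
    obtain ⟨b, rfl⟩ : ∃ b, y = (P : Matrix (Fin n) (Fin n) F) *ᵥ b := ⟨_, (mulVec_inv_mulVec P y).symm⟩
    unfold tauP
    rw [inv_mulVec_mulVec, inv_mulVec_mulVec, herm_mulVec_mulVec hF, herm_mulVec_mulVec hF,
      sum_pow_q hF]
    apply Finset.sum_congr rfl
    intro i _
    rw [sum_pow_q hF]
    apply Finset.sum_congr rfl
    intro j _
    have h1 := hP (Pi.single i 1) (Pi.single j 1) (fun k => by
      by_cases h : k = i
      · subst h
        simp [F₀.one_mem]
      · simp [Pi.single_eq_of_ne h, F₀.zero_mem]) (fun k => by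
      by_cases h : k = j
      · subst h
        simp [F₀.one_mem]
      · simp [Pi.single_eq_of_ne h, F₀.zero_mem])
    rw [one_mul, mem_iff_pow hF hcard] at h1
    rw [mul_pow, mul_pow, h1, frob_apply, frob_apply]

/-- elements of `SU` which are scalar multiples of maps commuting with `τ` lie in the subfield
group -/
theorem mem_subfieldSubgroup_of_comm (hF : Fintype.card F = q ^ 2) {F₀ : Subfield F}
    (hcard : Fintype.card F = Nat.card F₀ ^ 2) {P : Matrix.GeneralLinearGroup (Fin n) F}
    {g : SU n F q} {l : F} (hl : l ≠ 0)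
    (h : ∀ y, tauP q P (l • act g y) = l • act g (tauP q P y)) :
    H918.suHom n F q g ∈ Cfsg.Geo.subfieldSubgroup F₀ P := by
  rw [H914.mem_subfieldSubgroup_iff]
  refine ⟨l, hl, fun i j => ?_⟩
  rw [mem_iff_pow hF hcard]
  have h1 := h ((P : Matrix (Fin n) (Fin n) F) *ᵥ Pi.single j 1)
  unfold tauP at h1
  rw [inv_mulVec_mulVec, frob_single hF] at h1
  have h2 := congrArg (fun v =>
    ((P⁻¹ : Matrix.GeneralLinearGroup (Fin n) F) : Matrix (Fin n) (Fin n) F) *ᵥ v) h1
  simp only [inv_mulVec_mulVec] at h2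
  have h3 : ((P⁻¹ * H918.suHom n F q g * P : Matrix.GeneralLinearGroup (Fin n) F) :
      Matrix (Fin n) (Fin n) F) *ᵥ Pi.single j 1 =
      ((P⁻¹ : Matrix.GeneralLinearGroup (Fin n) F) : Matrix (Fin n) (Fin n) F) *ᵥ
        act g ((P : Matrix (Fin n) (Fin n) F) *ᵥ Pi.single j 1) := by
    rw [Units.val_mul, Units.val_mul, ← Matrix.mulVec_mulVec, ← Matrix.mulVec_mulVec]
    rfl
  simp only [Matrix.mulVec_smul] at h2
  rw [← h3] at h2
  have h4 := congrFun h2 i
  rw [frob_apply, Pi.smul_apply, smul_eq_mul, Matrix.mulVec_single_one, Matrix.col_apply] at h4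
  exact h4

/-- **`O_n(q)` in `SU_n(q)`** -/
theorem orthogonal_maximal (hF : Fintype.card F = q ^ 2) (hn : 5 ≤ n) (hodd : Odd q)
    (F₀ : Subfield F) (hcard : Fintype.card F = Nat.card F₀ ^ 2)
    (P : Matrix.GeneralLinearGroup (Fin n) F)
    (hP : Cfsg.Geo.IsFormRationalStructure (Cfsg.hermForm n F q) F₀ 1 P) :
    Cfsg.Geo.IsMaximalIn (Cfsg.GU n F q ⊓ Cfsg.Geo.specialLinear (Fin n) F)
      (Cfsg.Geo.subfieldSubgroup F₀ P ⊓ (Cfsg.GU n F q ⊓ Cfsg.Geo.specialLinear (Fin n) F)) := by
  have hτ : IsReal q (tauP q P) := isReal_tauP hF hcard hP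
  have h2 : (2 : F) ≠ 0 := two_ne_zero_of_odd hF hodd
  have hF₀ : F₀ ≠ ⊤ := by
    rintro rfl
    have h1 := card_subfield hF hcard
    have h3 : Nat.card (⊤ : Subfield F) = Nat.card F := Nat.card_congr Subfield.topEquiv.toEquiv
    rw [h3, Nat.card_eq_fintype_card, hF] at h1
    have h4 := two_le hF
    nlinarith
  refine ⟨lt_of_le_of_ne inf_le_right (fun h => ?_), fun M hHM hM => ?_⟩
  · refine H918.SUg_not_le_subfieldSubgroup hF (by omega) (by omega) hF₀ P ?_
    exact inf_eq_right.1 h
  · by_cases hX : M.comap (H918.suHom n F q) = ⊤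
    · right
      apply le_antisymm hM
      intro g hg
      obtain ⟨A, rfl⟩ := H918.exists_suHom hg
      have : A ∈ M.comap (H918.suHom n F q) := by
        rw [hX]
        trivial
      exact this
    · left
      apply le_antisymm _ hHM
      intro g hg
      obtain ⟨A, rfl⟩ := H918.exists_suHom (hM hg)
      have hyp : Hyp (M.comap (H918.suHom n F q)) (tauP q P) := by
        intro k hk
        rw [Subgroup.mem_comap]
        apply hHM
        refine ⟨?_, H918.suHom_mem k⟩
        apply mem_subfieldSubgroup_of_comm hF hcard (l := 1) one_ne_zero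
        intro y
        rw [one_smul, one_smul, hk]
      obtain ⟨l, hl, hcomm⟩ := exists_comm_of_mem hτ h2 hyp hF hn hX (g := A) hg
      exact ⟨mem_subfieldSubgroup_of_comm hF hcard hl hcomm, H918.suHom_mem A⟩

end Cfsg.Agent.H927
end
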