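import Cfsg.Agent.KFacts.TwF4.Torus
import Cfsg.Agent.H67.TwFFourOdd
import Cfsg.Agent.H905.MdH_m3
import Cfsg.Agent.Mrg.Omega.Lie.End.RowFE_m3
import Cfsg.Agent.S1112
import Cfsg.Agent.FastGrp
import Cfsg.Agent.Prune
set_option linter.all false
prune_inst 0x7f00000000000000000000000000000000000000000000000000000000000000000000000000000000000000000000000000000000000000000000000000000000000000000000000000000000000000003fffffffffffffffffffffffffffbeffbdffffffff
open scoped Cfsg.Agent.FastGrp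

/-!
# `²F₄(q)` has no nontrivial projective representation of degree less than `16` in characteristic `2`

The group contains commuting elements `A`, `B` of order `5`, elements `g_a`, `g_b` with `g_a A = A³ g_a`, `g_a B = B g_a`,
`g_b B = B³ g_b`, `g_b A = A g_b`, and an element `c` with `c A = A² B c`, `c B = A B² c`.  So in every nontrivial representation
in characteristic `≠ 5` all sixteen characters of `⟨A, B⟩` which are nontrivial on both factors occur.
-/

set_option autoImplicit false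
set_option linter.unusedSectionVars false
set_option linter.style.haveILetI false

namespace Cfsg.Agent.H927.LDTwF4

open Cfsg.Lie Cfsg.Agent.ChevalleyStructure.TwF4.Rel Cfsg.Agent.ChevalleyStructure.TwF4.RankOne
open Cfsg.Agent.ChevalleyStructure.TwF4.Bits Cfsg.Agent.ChevalleyStructure.TwF4.Tables
open Cfsg.Agent.ChevalleyStructure.TwF4.TwistedFix Cfsg.Agent.KFacts.TwF4.Inst
open Cfsg.Agent.Octagon.KRel

/-! ### words -/

/-- the word of `e a 0 1` -/
def w01 (a : ZMod 8) : List ℕ := [eC a, eD a]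
/-- the word of `e a 1 0` -/
def w10 (a : ZMod 8) : List ℕ := [eA a, eB a, eC a]
/-- the word of `o a 1` -/
def wo (a : ZMod 8) : List ℕ := [oA a, oB a]

def wA : List ℕ := w01 4 ++ w01 0
def wB : List ℕ := w01 6 ++ w01 2
def wga : List ℕ := w10 4
def wgb : List ℕ := w10 6
def wc : List ℕ := w10 5 ++ wo 1 ++ wo 0 ++ w10 5 ++ w10 1

def ok (l : List ℕ) : Bool := l.all fun r => decide (r < 48)

def same (l l' : List ℕ) : Bool := ok l && ok l' && (mat1 l == mat1 l')

theorem chk1 : same (wA ++ wA ++ wA ++ wA ++ wA) [] = true := by decide +kernel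
theorem chk2 : same (wA ++ wB) (wB ++ wA) = true := by decide +kernel
theorem chk3 : same (wga ++ wA) (wA ++ wA ++ wA ++ wga) = true := by decide +kernel
theorem chk4 : same (wgb ++ wB) (wB ++ wB ++ wB ++ wgb) = true := by decide +kernel
theorem chk5 : same (wga ++ wB) (wB ++ wga) = true := by decide +kernel
theorem chk6 : same (wgb ++ wA) (wA ++ wgb) = true := by decide +kernel
theorem chk7 : same (wc ++ wA) (wA ++ wA ++ wB ++ wc) = true := by decide +kernel
theorem chk8 : same (wc ++ wB) (wA ++ wB ++ wB ++ wc) = true := by decide +kernel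
theorem chk9 : same (wB ++ wB ++ wB ++ wB ++ wB) [] = true := by decide +kernel

section words

variable {K : Type*} [Field K] [CharP K 2]

theorem same_eq {l l' : List ℕ} (h : same l l' = true) : W1 K l = W1 K l' := by
  unfold same ok at h
  simp only [Bool.and_eq_true, List.all_eq_true, decide_eq_true_eq, beq_iff_eq] at h
  apply Units.ext
  rw [coe_W1 _ h.1.1, coe_W1 _ h.1.2, h.2]

theorem W1_nil : W1 K [] = 1 := rfl

theorem ge01 (φ : K →+* K) (a : ZMod 8) : ge φ a 0 1 = W1 K (w01 a) := by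
  unfold ge xe w01
  rw [map_zero, map_one, X_zero, X_zero, zero_mul, zero_add, one_mul, one_mul, W1_cons, W1_cons, W1_nil, mul_one]

theorem ge10 (φ : K →+* K) (a : ZMod 8) : ge φ a 1 0 = W1 K (w10 a) := by
  unfold ge xe w10
  rw [map_zero, map_one, X_zero, mul_one, one_mul, add_zero, W1_cons, W1_cons, W1_cons, W1_nil, mul_one, mul_assoc]

theorem go1 (φ : K →+* K) (a : ZMod 8) : go φ a 1 = W1 K (wo a) := by
  unfold go xo wo
  rw [map_one, W1_cons, W1_cons, W1_nil, mul_one]

theorem wA_ne : W1 K wA ≠ 1 := by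
  intro h
  have h1 : ok wA = true := by decide +kernel
  unfold ok at h1
  simp only [List.all_eq_true, decide_eq_true_eq] at h1
  have h2 := congrArg (fun g : GL chevF4.Idx K => (g : Matrix chevF4.Idx chevF4.Idx K) (Sum.inl (1 : Fin 4)) (Sum.inl (0 : Fin 4))) h
  simp only [coe_W1 _ h1, sem_apply, Units.val_one] at h2
  have h3 : (mat1 wA).testBit 52 = true := by decide +kernel
  have h4 : 52 * pos (Sum.inl (1 : Fin 4) : chevF4.Idx) + pos (Sum.inl (0 : Fin 4) : chevF4.Idx) = 52 := rfl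
  rw [h4, h3, if_pos rfl, Matrix.one_apply_ne (by decide)] at h2
  exact one_ne_zero h2

end words

/-! ### the elements -/

/-- the relations used -/
structure Rels {G : Type*} [Group G] (A B ga gb c : G) : Prop where
  A5 : A * A * A * A * A = 1
  B5 : B * B * B * B * B = 1
  AB : A * B = B * A
  gaA : ga * A = A * A * A * ga
  gbB : gb * B = B * B * B * gb
  gaB : ga * B = B * ga
  gbA : gb * A = A * gb
  cA : c * A = A * A * B * c
  cB : c * B = A * B * B * c

theorem exists_rels {K : Type*} [Field K] [CharP K 2] [Finite K] {φ : K →+* K} {e : ℕ} (hφ : Rln φ e) :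
    ∃ A B ga gb c : ↥(twistedF4 K e), Rels A B ga gb c ∧ A ≠ 1 := by
  obtain ⟨A, hA⟩ : ∃ g : ↥(twistedF4 K e), (g : GL chevF4.Idx K) = W1 K wA := by
    refine ⟨re hφ 4 0 1 * re hφ 0 0 1, ?_⟩
    change ge φ 4 0 1 * ge φ 0 0 1 = _
    rw [ge01, ge01, ← W1_append]
    rfl
  obtain ⟨B, hB⟩ : ∃ g : ↥(twistedF4 K e), (g : GL chevF4.Idx K) = W1 K wB := by
    refine ⟨re hφ 6 0 1 * re hφ 2 0 1, ?_⟩
    change ge φ 6 0 1 * ge φ 2 0 1 = _
    rw [ge01, ge01, ← W1_append]
    rfl
  obtain ⟨ga, ha⟩ : ∃ g : ↥(twistedF4 K e), (g : GL chevF4.Idx K) = W1 K wga := ⟨re hφ 4 1 0, ge10 φ 4⟩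
  obtain ⟨gb, hb⟩ : ∃ g : ↥(twistedF4 K e), (g : GL chevF4.Idx K) = W1 K wgb := ⟨re hφ 6 1 0, ge10 φ 6⟩
  obtain ⟨c, hc⟩ : ∃ g : ↥(twistedF4 K e), (g : GL chevF4.Idx K) = W1 K wc := by
    refine ⟨re hφ 5 1 0 * ro hφ 1 1 * ro hφ 0 1 * re hφ 5 1 0 * re hφ 1 1 0, ?_⟩
    change ge φ 5 1 0 * go φ 1 1 * go φ 0 1 * ge φ 5 1 0 * ge φ 1 1 0 = _
    rw [ge10, go1, go1, ge10, ← W1_append, ← W1_append, ← W1_append, ← W1_append]
    rfl
  refine ⟨A, B, ga, gb, c, ⟨?_, ?_, ?_, ?_, ?_, ?_, ?_, ?_, ?_⟩, ?_⟩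
  · apply Subtype.ext
    simp only [Subgroup.coe_mul, Subgroup.coe_one, hA, ← W1_append]
    exact same_eq chk1
  · apply Subtype.ext
    simp only [Subgroup.coe_mul, Subgroup.coe_one, hB, ← W1_append]
    exact same_eq chk9
  · apply Subtype.ext
    simp only [Subgroup.coe_mul, hA, hB, ← W1_append]
    exact same_eq chk2
  · apply Subtype.ext
    simp only [Subgroup.coe_mul, hA, ha, ← W1_append]
    exact same_eq chk3
  · apply Subtype.ext
    simp only [Subgroup.coe_mul, hB, hb, ← W1_append]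
    exact same_eq chk4
  · apply Subtype.ext
    simp only [Subgroup.coe_mul, hB, ha, ← W1_append]
    exact same_eq chk5
  · apply Subtype.ext
    simp only [Subgroup.coe_mul, hA, hb, ← W1_append]
    exact same_eq chk6
  · apply Subtype.ext
    simp only [Subgroup.coe_mul, hA, hB, hc, ← W1_append]
    exact same_eq chk7
  · apply Subtype.ext
    simp only [Subgroup.coe_mul, hA, hB, hc, ← W1_append]
    exact same_eq chk8
  · intro h
    rw [h] at hA
    exact wA_ne hA.symm

/-! ### eigenvalues -/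

section eig

variable {k V G : Type*} [Field k] [AddCommGroup V] [Module k V] [Group G]

theorem exists_eig [IsAlgClosed k] [FiniteDimensional k V] {f : Module.End k V} {S : Submodule k V} (hS : S ≠ ⊥)
    (hf : ∀ v ∈ S, f v ∈ S) : ∃ x : k, ∃ v ∈ S, v ≠ 0 ∧ f v = x • v := by
  haveI : Nontrivial S := Submodule.nontrivial_iff_ne_bot.2 hS
  obtain ⟨x, hx⟩ := Module.End.exists_eigenvalue (f.restrict hf)
  obtain ⟨v, hv⟩ := hx.exists_hasEigenvector
  refine ⟨x, v, v.2, fun h => hv.2 (Subtype.ext h), ?_⟩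
  have h1 := congrArg (Subtype.val) hv.apply_eq_smul
  exact h1

theorem pow_mod {x : k} (hx : x ^ 5 = 1) (n : ℕ) : x ^ n = x ^ (n % 5) := by
  conv_lhs => rw [← Nat.div_add_mod n 5, pow_add, pow_mul, hx, one_pow, one_mul]

theorem inj_pow {x : k} (hx : x ^ 5 = 1) (h1 : x ≠ 1) : Function.Injective fun i : Fin 4 => x ^ 3 ^ (i : ℕ) := by
  have hp : IsPrimitiveRoot x 5 := by
    haveI : Fact (Nat.Prime 5) := ⟨by norm_num⟩
    have := IsPrimitiveRoot.orderOf x
    rwa [orderOf_eq_prime hx h1] at this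
  intro i j h
  have h2 : x ^ (3 ^ (i : ℕ) % 5) = x ^ (3 ^ (j : ℕ) % 5) := by
    rw [← pow_mod hx, ← pow_mod hx]; exact h
  have h3 := hp.pow_inj (Nat.mod_lt _ (by norm_num)) (Nat.mod_lt _ (by norm_num)) h2
  have h4 : ∀ i j : Fin 4, 3 ^ (i : ℕ) % 5 = 3 ^ (j : ℕ) % 5 → i = j := by decide
  exact h4 i j h3

/-- **Sixteen characters.** -/
theorem sixteen_le [IsAlgClosed k] [FiniteDimensional k V] (h5 : (5 : k) ≠ 0) (ρ : G →* Module.End k V)
    {A B ga gb c : G} (h : Rels A B ga gb c) (hA : ρ A ≠ 1) : 16 ≤ Module.finrank k V := by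
  have hmul : ∀ (g g' : G) (v : V), ρ (g * g') v = ρ g (ρ g' v) := fun g g' v => by rw [map_mul]; rfl
  have hinj : ∀ (g : G) (v : V), v ≠ 0 → ρ g v ≠ 0 := by
    intro g v hv h0
    apply hv
    have h1 := hmul g⁻¹ g v
    rw [inv_mul_cancel, map_one, h0, map_zero] at h1
    exact h1
  -- the eigenvector
  obtain ⟨x, y, v, hv0, hxv, hyv, hx1⟩ : ∃ x y : k, ∃ v : V, v ≠ 0 ∧ ρ A v = x • v ∧ ρ B v = y • v ∧ x ≠ 1 := by
    set L : Submodule k V := LinearMap.range (ρ A - 1) with hL
    have hL0 : L ≠ ⊥ := by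
      intro h0
      rw [hL, LinearMap.range_eq_bot, sub_eq_zero] at h0
      exact hA h0
    have hLA : ∀ w ∈ L, ρ A w ∈ L := by
      rintro _ ⟨w, rfl⟩
      refine ⟨ρ A w, ?_⟩
      simp
    obtain ⟨x, w, hw, hw0, hxw⟩ := exists_eig hL0 hLA
    have hLB : ∀ w ∈ L ⊓ LinearMap.ker (ρ A - x • 1), ρ B w ∈ L ⊓ LinearMap.ker (ρ A - x • 1) := by
      rintro w ⟨⟨u, rfl⟩, hw⟩
      have hcomm : ∀ z, ρ A (ρ B z) = ρ B (ρ A z) := fun z => by rw [← hmul, h.AB, hmul]
      refine ⟨⟨ρ B u, ?_⟩, ?_⟩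
      · simp [hcomm]
      · rw [SetLike.mem_coe, LinearMap.mem_ker, LinearMap.sub_apply, sub_eq_zero] at hw ⊢
        rw [hcomm, hw]
        simp
    have hne : L ⊓ LinearMap.ker (ρ A - x • 1) ≠ ⊥ := by
      rw [Submodule.ne_bot_iff]
      refine ⟨w, ⟨hw, ?_⟩, hw0⟩
      rw [SetLike.mem_coe, LinearMap.mem_ker, LinearMap.sub_apply, sub_eq_zero]
      simpa using hxw
    obtain ⟨y, v, hv, hv0, hyv⟩ := exists_eig hne hLB
    have hxv : ρ A v = x • v := by
      have := hv.2
      rw [SetLike.mem_coe, LinearMap.mem_ker, LinearMap.sub_apply, sub_eq_zero] at this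
      simpa using this
    refine ⟨x, y, v, hv0, hxv, hyv, ?_⟩
    rintro rfl
    -- `v = a u - u`, and `(1 + a + a² + a³ + a⁴) v = 0`
    obtain ⟨u, hu⟩ := hv.1
    have hu' : ρ A u - u = v := by simpa using hu
    rw [one_smul] at hxv
    have h1 : ρ A u = u + v := by rw [← hu']; abel
    have h2 := congrArg (fun g => ρ g u) h.A5
    simp only [hmul, h1, map_add, hxv, map_one, Module.End.one_apply] at h2
    have h3 : (5 : k) • v = 0 := by
      have h4 : u + v + v + v + v + v = u := h2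
      have h5 : (5 : k) • v = (u + v + v + v + v + v) - u := by
        rw [show (5 : k) = 1 + 1 + 1 + 1 + 1 by norm_num]
        simp only [add_smul, one_smul]
        abel
      rw [h5, h4, sub_self]
    exact (smul_ne_zero h5 hv0) h3
  have hx5 : ∀ (x : k) (v : V) (g : G), v ≠ 0 → g * g * g * g * g = 1 → ρ g v = x • v → x ^ 5 = 1 := by
    intro x v g hv0 hg hgv
    have h2 := congrArg (fun g => ρ g v) hg
    simp only [hmul, hgv, map_smul, map_one, Module.End.one_apply, smul_smul] at h2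
    have h3 : (x ^ 5 - 1) • v = 0 := by
      rw [sub_smul, one_smul, sub_eq_zero, ← h2]
      congr 1
      ring
    rcases smul_eq_zero.1 h3 with h4 | h4
    · exact sub_eq_zero.1 h4
    · exact absurd h4 hv0
  -- both eigenvalues nontrivial
  obtain ⟨x, y, v, hv0, hxv, hyv, hx1, hy1⟩ : ∃ x y : k, ∃ v : V, v ≠ 0 ∧ ρ A v = x • v ∧ ρ B v = y • v ∧ x ≠ 1 ∧ y ≠ 1 := by
    by_cases hy : y = 1
    · subst hy
      have hxx := hx5 x v A hv0 h.A5 hxv
      refine ⟨x ^ 2, x, ρ c⁻¹ v, hinj _ _ hv0, ?_, ?_, ?_, hx1⟩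
      · have e : A * c⁻¹ = c⁻¹ * (A * A * B) := by
          have := h.cA
          calc A * c⁻¹ = c⁻¹ * (c * A) * c⁻¹ := by group
            _ = _ := by rw [this]; group
        rw [← hmul, e, hmul, hmul, hmul, hyv, one_smul, hxv, map_smul, hxv, smul_smul, map_smul]
        congr 1; ring
      · have e : B * c⁻¹ = c⁻¹ * (A * B * B) := by
          have := h.cB
          calc B * c⁻¹ = c⁻¹ * (c * B) * c⁻¹ := by group
            _ = _ := by rw [this]; group
        rw [← hmul, e, hmul, hmul, hmul, hyv, one_smul, hyv, one_smul, hxv, map_smul]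
      · intro h2
        apply hx1
        calc x = x ^ 5 * x := by rw [hxx, one_mul]
          _ = (x ^ 2) ^ 3 := by ring
          _ = 1 := by rw [h2, one_pow]
    · exact ⟨x, y, v, hv0, hxv, hyv, hx1, hy⟩
  have hx := hx5 x v A hv0 h.A5 hxv
  have hy := hx5 y v B hv0 h.B5 hyv
  -- all sixteen
  have all : ∀ i j : ℕ, ∃ w : V, w ≠ 0 ∧ ρ A w = x ^ 3 ^ i • w ∧ ρ B w = y ^ 3 ^ j • w := by
    intro i
    induction i with
    | zero =>
      intro j
      induction j with
      | zero => exact ⟨v, hv0, by simpa using hxv, by simpa using hyv⟩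
      | succ j ih =>
        obtain ⟨w, hw0, hw1, hw2⟩ := ih
        refine ⟨ρ gb⁻¹ w, hinj _ _ hw0, ?_, ?_⟩
        · have e : A * gb⁻¹ = gb⁻¹ * A := by
            have := h.gbA
            calc A * gb⁻¹ = gb⁻¹ * (gb * A) * gb⁻¹ := by group
              _ = _ := by rw [this]; group
          rw [← hmul, e, hmul, hw1, map_smul]
        · have e : B * gb⁻¹ = gb⁻¹ * (B * B * B) := by
            have := h.gbB
            calc B * gb⁻¹ = gb⁻¹ * (gb * B) * gb⁻¹ := by group
              _ = _ := by rw [this]; group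
          rw [← hmul, e, hmul, hmul, hmul, hw2, map_smul, hw2, smul_smul, map_smul, hw2, smul_smul, map_smul]
          congr 1; ring
    | succ i ih =>
      intro j
      obtain ⟨w, hw0, hw1, hw2⟩ := ih j
      refine ⟨ρ ga⁻¹ w, hinj _ _ hw0, ?_, ?_⟩
      · have e : A * ga⁻¹ = ga⁻¹ * (A * A * A) := by
          have := h.gaA
          calc A * ga⁻¹ = ga⁻¹ * (ga * A) * ga⁻¹ := by group
            _ = _ := by rw [this]; group
        rw [← hmul, e, hmul, hmul, hmul, hw1, map_smul, hw1, smul_smul, map_smul, hw1, smul_smul, map_smul]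
        congr 1; ring
      · have e : B * ga⁻¹ = ga⁻¹ * B := by
          have := h.gaB
          calc B * ga⁻¹ = ga⁻¹ * (ga * B) * ga⁻¹ := by group
            _ = _ := by rw [this]; group
        rw [← hmul, e, hmul, hw2, map_smul]
  have h4 : ∀ i : Fin 4, 4 ≤ Module.finrank k (Module.End.eigenspace (ρ A) (x ^ 3 ^ (i : ℕ))) := by
    intro i
    choose w hw0 hw1 hw2 using fun j : Fin 4 => all i j
    have hli := Module.End.eigenvectors_linearIndependent' (ρ B) (fun j : Fin 4 => y ^ 3 ^ (j : ℕ)) (inj_pow hy hy1) w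
      (fun j => ⟨Module.End.mem_eigenspace_iff.2 (hw2 j), hw0 j⟩)
    have hli' : LinearIndependent k fun j : Fin 4 =>
        (⟨w j, Module.End.mem_eigenspace_iff.2 (hw1 j)⟩ : Module.End.eigenspace (ρ A) (x ^ 3 ^ (i : ℕ))) :=
      LinearIndependent.of_comp (Submodule.subtype _) hli
    have := hli'.fintype_card_le_finrank
    rwa [Fintype.card_fin] at this
  have h6 := Cfsg.Agent.H905.DC.sum_finrank_le
    ((Module.End.eigenspaces_iSupIndep (ρ A)).comp (inj_pow hx hx1))
  have h7 : ∑ _i : Fin 4, 4 ≤ ∑ i : Fin 4, Module.finrank k ((Module.End.eigenspace (ρ A) ∘ fun i : Fin 4 => x ^ 3 ^ (i : ℕ)) i) :=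
    Finset.sum_le_sum fun i _ => h4 i
  have h8 : ∑ _i : Fin 4, 4 = 16 := by decide
  omega

end eig

/-! ### `²F₄(q)` -/

open Cfsg Cfsg.Geo Cfsg.Agent.H905.Md Cfsg.Agent.H67

/-- every nontrivial representation of `²F₄(q)` over an algebraically closed field of characteristic `≠ 5` has degree `≥ 16` -/
theorem rep_le {k V : Type*} [Field k] [IsAlgClosed k] (h5 : (5 : k) ≠ 0) [AddCommGroup V] [Module k V] [FiniteDimensional k V]
    {K : Type*} [Field K] [Fintype K] {m : ℕ} (hK : Fintype.card K = 2 ^ (2 * m + 1))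
    (ρ : ↥(twistedF4 K (2 ^ m)) →* Module.End k V) (hρ : ∀ g, ρ g = 1 → g = 1) : 16 ≤ Module.finrank k V := by
  haveI := Cfsg.Agent.ChevalleyStructure.TwF4.Twisted.charP_two hK
  obtain ⟨φ, hφ⟩ := exists_rln hK
  obtain ⟨A, B, ga, gb, c, h, hA⟩ := exists_rels hφ
  exact sixteen_le h5 ρ h fun h1 => hA (hρ A h1)

variable {F : Type*} [Field F] {ι : Type} [Fintype ι] [DecidableEq ι] {P : Subgroup (GL ι F)}

/-- **`²F₄(q)` in characteristic `2`.** A perfect `P ≤ GL(ι, F)`, `char F = 2`, with `P/scalars ≅ ²F₄(q)` has `|ι| ≥ 16`. -/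
theorem card_le [Finite F] [CharP F 2] (hperf : ⁅P, P⁆ = P) {K : Type*} [Field K] [Fintype K] {m : ℕ} (hm : 1 ≤ m)
    (hK : Fintype.card K = 2 ^ (2 * m + 1)) (Φ : (P ⧸ (scalars ι F).subgroupOf P) ≃* ↥(twistedF4 K (2 ^ m))) :
    16 ≤ Fintype.card ι := by
  haveI : Fact (Nat.Prime 2) := ⟨Nat.prime_two⟩
  obtain ⟨φ, -, hker, -⟩ := exists_cover (p := 2) hperf Φ (Cfsg.Agent.S1112.result hK hm)
    (fun r hr hr2 => Cfsg.Agent.H67.TwFFourOdd.noPCov_odd hm hK hr hr2) (πG := MonoidHom.id _) Function.surjective_id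
    (by rw [MonoidHom.ker_id]; exact bot_le)
  have h5 : (5 : AlgebraicClosure F) ≠ 0 := by
    haveI : CharP (AlgebraicClosure F) 2 := charP_of_injective_algebraMap (algebraMap F _).injective 2
    have h2 : (2 : AlgebraicClosure F) = 0 := CharTwo.two_eq_zero
    have h3 : (5 : AlgebraicClosure F) = 1 := by
      rw [show (5 : AlgebraicClosure F) = 2 * 2 + 1 by norm_num, h2]; ring
    rw [h3]
    exact one_ne_zero
  have h1 := rep_le h5 hK (Cfsg.Agent.H911.lin (acRep φ)) ?_
  · rwa [Module.finrank_pi] at h1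
  · intro g hg
    have h6 : φ g = 1 := by
      apply Units.ext
      have h7 : acRep φ g = 1 := by
        have := congrArg LinearMap.toMatrix' hg
        simpa [Cfsg.Agent.H911.lin] using this
      rw [acRep_apply] at h7
      apply Matrix.map_injective (algebraMap F (AlgebraicClosure F)).injective
      refine h7.trans ?_
      ext i j
      simp [Matrix.one_apply, apply_ite (algebraMap F (AlgebraicClosure F))]
    have h8 : g ∈ φ.ker := h6
    have h9 := hker h8
    rwa [MonoidHom.ker_id, Subgroup.mem_bot] at h9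

/-- **`²F₄(q)` in characteristic `2`** (as it appears in the lists). -/
theorem card_le_iso [Finite F] {p : ℕ} (hp2 : p = 2) [CharP F p] (hperf : ⁅P, P⁆ = P)
    (h : Lie.Iso2F4 (P ⧸ (scalars ι F).subgroupOf P)) : 16 ≤ Fintype.card ι := by
  subst hp2
  obtain ⟨K, _, _, m, hm, hK, ⟨e⟩⟩ := h
  exact card_le hperf hm hK e

end Cfsg.Agent.H927.LDTwF4

private theorem dce_ceea725adf7e : _root_.True := by
  try have : _root_.True := by simp only [_root_.Cfsg.Agent.H911.lin.eq_1]
  try have : _root_.True := by simp only [_root_.Cfsg.Agent.ChevalleyStructure.TwF4.RankOne.W1.congr_simp]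
  exact _root_.True.intro
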