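import Cfsg.Agent.H638.G2Iso
import Cfsg.Agent.H64.CrossChev
import Cfsg.Agent.Nodes.RGDChev
import Cfsg.Agent.H887.DS.SixFive
import Cfsg.Agent.ChevalleyStructure.G2Mono
import Mathlib
import Cfsg.Agent.H48.DsChev
import Cfsg.Agent.H905.MdR
import Cfsg.Agent.FastGrp
import Cfsg.Agent.Prune
set_option linter.all false

section
prune_inst 0x7ffcedfaabbcbddfdfff7e7ffed6dffdb9b91fffe6fffd437fe06bff0b9f13888dc5fba589e010fe1ff7e214103a7853ff7eeeffea6bde7ffffd5ff41ffbee4ff5f7b50851dc8cb40fbc0ff703f0778e7f3fffffffffffffffffffffffffffbeffbfffffffff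

-- part: H927/G2Tab
section
prune_inst 0x22000000000012000000000800009000030000000000040040202200002640000000000000040000000000001000000000000000000000000000000000000001000000000080000000000000000000000000000000000000000000000000000
set_option linter.all false
open scoped Cfsg.Agent.FastGrp

-- part: H927/G2Th
section
/-!
# The groups `G₂(K)`: the representations of degree 8 and 14 (helper927)

* `th : chevG2.group K →* GL₈(K)`, `x_r(t) ↦ y_r(t)`; `a8 g x`, `a14 g z` : the action on vectors;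
* `a8_r` : the formulas for `x_r(t)`;
* `col r s`, `a14_e` : the columns of `x_r(t)` as lists; `row r u`, `a14_row` : the rows.
-/

set_option autoImplicit false
set_option linter.unusedSectionVars false
set_option linter.style.haveILetI false

namespace Cfsg.Agent.H927.G2

open Cfsg.Lie Matrix Cfsg.Agent.H638.G2Rep Cfsg.Agent.H638.G2Mem
open Cfsg.Agent.H638

variable {K : Type} [Field K]

theorem inList : Cfsg.Agent.ChevalleyStructure.Elts.InList chevG2 := by simp [Cfsg.Agent.ChevalleyStructure.Elts.InList]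

/-- the group -/
abbrev GK (K : Type) [Field K] := ↥(chevG2.group K)

/-- the root elements -/
def xg (r : ℕ) (t : K) : GK K :=
  ⟨Cfsg.Agent.ChevalleyStructure.Elts.xG inList r t, Cfsg.Agent.ChevalleyStructure.Elts.xG_mem_group _ _ _⟩

theorem coe_xg (r : ℕ) (hr : r < 12) (t : K) :
    (((xg r t : GK K) : GL chevG2.Idx K) : Matrix chevG2.Idx chevG2.Idx K) = chevG2.xMat K ⟨r, hr⟩ t := by
  change chevG2.x K r t = _
  exact Cfsg.Agent.ChevalleyStructure.Elts.x_of_lt (D := chevG2) (show r < chevG2.nroots from hr) t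

section finite

variable [Finite K]

theorem toChev_bijective : Function.Bijective (G2Link.toChev K) := by
  haveI : Finite (GL (Fin 8) K × GL chevG2.Idx K) := inferInstance
  have h0 : Function.Surjective (G2Link.toChev K) := G2Link.toChev_surjective
  have h1 : Nat.card (G2Link.Link K) ≤ Nat.card (Cfsg.Lie.G2 K) := Nat.card_le_card_of_injective _ G2Link.toG2_injective
  have h2 : Nat.card (chevG2.group K) ≤ Nat.card (G2Link.Link K) := Nat.card_le_card_of_surjective _ h0
  obtain ⟨e⟩ := G2Iso.equiv (F := K)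
  have h3 : Nat.card (Cfsg.Lie.G2 K) = Nat.card (chevG2.group K) := Nat.card_congr e.toEquiv
  exact (Nat.bijective_iff_surjective_and_card _).2 ⟨h0, by omega⟩

/-- the representation of degree 8 -/
noncomputable def th (K : Type) [Field K] [Finite K] : GK K →* GL (Fin 8) K :=
  (MonoidHom.fst _ _).comp ((G2Link.Link K).subtype.comp
    (MulEquiv.ofBijective (G2Link.toChev K) toChev_bijective).symm.toMonoidHom)

theorem th_xg (r : ℕ) (hr : r < 12) (t : K) : th K (xg r t) = G2Link.yG ⟨r, hr⟩ t := by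
  have hm : ((G2Link.yG ⟨r, hr⟩ t, G2Link.xG ⟨r, hr⟩ t) : GL (Fin 8) K × GL chevG2.Idx K) ∈ G2Link.Link K :=
    Subgroup.subset_closure ⟨⟨r, hr⟩, t, rfl⟩
  have h1 : G2Link.toChev K ⟨_, hm⟩ = xg r t := by
    apply Subtype.ext
    apply Units.ext
    rw [coe_xg r hr]
    rfl
  have h2 : (MulEquiv.ofBijective (G2Link.toChev K) toChev_bijective).symm (xg r t) = ⟨_, hm⟩ := by
    rw [MulEquiv.symm_apply_eq]
    exact h1.symm
  change ((MulEquiv.ofBijective (G2Link.toChev K) toChev_bijective).symm (xg r t)).1.1 = _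
  rw [h2]

/-- the action on vectors of length 8 -/
noncomputable def a8 (K : Type) [Field K] [Finite K] : GK K →* Module.End K (Fin 8 → K) where
  toFun g := Matrix.toLin' (th K g : Matrix (Fin 8) (Fin 8) K)
  map_one' := by rw [map_one, Units.val_one, Matrix.toLin'_one]; rfl
  map_mul' a b := by rw [map_mul, Units.val_mul, Matrix.toLin'_mul]; rfl

theorem a8_apply (g : GK K) (x : Fin 8 → K) : a8 K g x = (th K g : Matrix (Fin 8) (Fin 8) K) *ᵥ x :=
  Matrix.toLin'_apply _ _

theorem a8_xg (r : ℕ) (hr : r < 12) (t : K) (x : Fin 8 → K) : a8 K (xg r t) x = ev t (tabY.getD r []) *ᵥ x := by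
  rw [a8_apply, th_xg r hr]
  rfl

theorem a8_0 (t : K) (x : Fin 8 → K) : a8 K (xg 0 t) x = ![x 0, x 1, x 2, x 3 - t * x 2, x 4, x 5 + t * x 6, x 6, x 7] := by
  rw [a8_xg 0 (by norm_num), mulVec_0]
theorem a8_1 (t : K) (x : Fin 8 → K) : a8 K (xg 1 t) x = ![x 0, x 1, x 2, x 3 - t * x 1, x 4 + t * x 6, x 5, x 6, x 7] := by
  rw [a8_xg 1 (by norm_num), mulVec_1]
theorem a8_2 (t : K) (x : Fin 8 → K) : a8 K (xg 2 t) x =
    ![x 0 - t * x 6, x 1, x 2, x 3 + t * x 0 - t * x 7 - t ^ 2 * x 6, x 4 - t * x 2, x 5 + t * x 1, x 6, x 7 + t * x 6] := by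
  rw [a8_xg 2 (by norm_num), mulVec_2]
theorem a8_3 (t : K) (x : Fin 8 → K) : a8 K (xg 3 t) x =
    ![x 0 - t * x 2, x 1 + t * x 6, x 2, x 3 - t * x 4, x 4, x 5 + t * x 0 - t * x 7 - t ^ 2 * x 2, x 6, x 7 + t * x 2] := by
  rw [a8_xg 3 (by norm_num), mulVec_3]
theorem a8_4 (t : K) (x : Fin 8 → K) : a8 K (xg 4 t) x =
    ![x 0 - t * x 1, x 1, x 2 - t * x 6, x 3 + t * x 5, x 4 + t * x 0 - t * x 7 - t ^ 2 * x 1, x 5, x 6, x 7 + t * x 1] := by
  rw [a8_xg 4 (by norm_num), mulVec_4]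
theorem a8_5 (t : K) (x : Fin 8 → K) : a8 K (xg 5 t) x = ![x 0, x 1 + t * x 2, x 2, x 3, x 4, x 5 - t * x 4, x 6, x 7] := by
  rw [a8_xg 5 (by norm_num), mulVec_5]
theorem a8_6 (t : K) (x : Fin 8 → K) : a8 K (xg 6 t) x = ![x 0, x 1, x 2 + t * x 1, x 3, x 4 - t * x 5, x 5, x 6, x 7] := by
  rw [a8_xg 6 (by norm_num), mulVec_6]
theorem a8_7 (t : K) (x : Fin 8 → K) : a8 K (xg 7 t) x =
    ![x 0 + t * x 4, x 1 - t * x 0 + t * x 7 - t ^ 2 * x 4, x 2, x 3, x 4, x 5 + t * x 3, x 6 - t * x 2, x 7 - t * x 4] := by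
  rw [a8_xg 7 (by norm_num), mulVec_7]
theorem a8_8 (t : K) (x : Fin 8 → K) : a8 K (xg 8 t) x =
    ![x 0 + t * x 5, x 1, x 2 - t * x 0 + t * x 7 - t ^ 2 * x 5, x 3, x 4 - t * x 3, x 5, x 6 + t * x 1, x 7 - t * x 5] := by
  rw [a8_xg 8 (by norm_num), mulVec_8]
theorem a8_9 (t : K) (x : Fin 8 → K) : a8 K (xg 9 t) x =
    ![x 0 + t * x 3, x 1 + t * x 5, x 2 - t * x 4, x 3, x 4, x 5, x 6 - t * x 0 + t * x 7 - t ^ 2 * x 3, x 7 - t * x 3] := by
  rw [a8_xg 9 (by norm_num), mulVec_9]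
theorem a8_10 (t : K) (x : Fin 8 → K) : a8 K (xg 10 t) x = ![x 0, x 1 - t * x 3, x 2, x 3, x 4, x 5, x 6 + t * x 4, x 7] := by
  rw [a8_xg 10 (by norm_num), mulVec_10]
theorem a8_11 (t : K) (x : Fin 8 → K) : a8 K (xg 11 t) x = ![x 0, x 1, x 2 - t * x 3, x 3, x 4, x 5, x 6 + t * x 5, x 7] := by
  rw [a8_xg 11 (by norm_num), mulVec_11]

end finite

/-! ### degree 14 -/

/-- the action on vectors of length 14 -/
def a14 (K : Type) [Field K] : GK K →* Module.End K (chevG2.Idx → K) where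
  toFun g := Matrix.toLin' ((g : GL chevG2.Idx K) : Matrix chevG2.Idx chevG2.Idx K)
  map_one' := by
    change Matrix.toLin' (1 : Matrix chevG2.Idx chevG2.Idx K) = _
    rw [Matrix.toLin'_one]; rfl
  map_mul' a b := by
    change Matrix.toLin' (((a : GL chevG2.Idx K) : Matrix chevG2.Idx chevG2.Idx K) *
      ((b : GL chevG2.Idx K) : Matrix chevG2.Idx chevG2.Idx K)) = _
    rw [Matrix.toLin'_mul]; rfl

theorem a14_apply (g : GK K) (x : chevG2.Idx → K) :
    a14 K g x = ((g : GL chevG2.Idx K) : Matrix chevG2.Idx chevG2.Idx K) *ᵥ x := Matrix.toLin'_apply _ _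

/-- root index -/
def rv (r : Fin 12) : chevG2.Idx := Sum.inr (show Fin chevG2.nroots from r)
/-- coroot index -/
def hv (r : Fin 2) : chevG2.Idx := Sum.inl (show Fin chevG2.rank from r)

/-- basis vectors -/
def e (s : chevG2.Idx) : chevG2.Idx → K := Pi.single s 1

/-- coordinates -/
def l (s : chevG2.Idx) : (chevG2.Idx → K) →ₗ[K] K := LinearMap.proj s

theorem l_apply (s : chevG2.Idx) (x : chevG2.Idx → K) : l s x = x s := rfl

theorem l_e (s u : chevG2.Idx) : l s (e u : chevG2.Idx → K) = if s = u then 1 else 0 := by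
  rw [l_apply, e, Pi.single_apply]

/-- the nonzero part of a list -/
def nz (L : List (ℕ × ℤ)) : List (ℕ × ℤ) := L.filter fun p => p.2 ≠ 0

theorem sum_nz (t : K) (L : List (ℕ × ℤ)) : ((nz L).map fun km => ((km.2 : ℤ) : K) * t ^ km.1).sum =
    (L.map fun km => ((km.2 : ℤ) : K) * t ^ km.1).sum := by
  induction L with
  | nil => rfl
  | cons p L ih =>
    unfold nz at *
    rw [List.filter_cons]
    split_ifs with h
    · rw [List.map_cons, List.sum_cons, ih, List.map_cons, List.sum_cons]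
    · rw [ih, List.map_cons, List.sum_cons]
      have : p.2 = 0 := by simpa using h
      rw [this, Int.cast_zero, zero_mul, zero_add]

/-- the column `s` of `x_r(t)` -/
def col (r : Fin 12) (s : chevG2.Idx) : List (chevG2.Idx × ℕ × ℤ) :=
  allIdx.flatMap fun u => (nz (colD r s u)).map fun km => (u, km.1, km.2)

/-- the row `u` of `x_r(t)` -/
def row (r : Fin 12) (u : chevG2.Idx) : List (chevG2.Idx × ℕ × ℤ) :=
  allIdx.flatMap fun s => (nz (colD r s u)).map fun km => (s, km.1, km.2)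

theorem sum_flatMap {M α β : Type*} [AddCommMonoid M] (L : List α) (f : α → List β) (g : β → M) :
    ((L.flatMap f).map g).sum = (L.map fun a => ((f a).map g).sum).sum := by
  induction L with
  | nil => rfl
  | cons a L ih => rw [List.flatMap_cons, List.map_append, List.sum_append, ih, List.map_cons, List.sum_cons]

theorem a14_e (r : Fin 12) (s : chevG2.Idx) (t : K) :
    a14 K (xg r t) (e s) = ((col r s).map fun p => ((p.2.2 : K) * t ^ p.2.1) • (e p.1 : chevG2.Idx → K)).sum := by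
  rw [a14_apply, coe_xg r r.2, e, Matrix.mulVec_single_one, col, sum_flatMap, G2Link.sum_allIdx]
  funext u
  rw [Finset.sum_apply, Finset.sum_eq_single u]
  · rw [List.map_map]
    have h1 : ∀ L : List (ℕ × ℤ), ((L.map ((fun p : chevG2.Idx × ℕ × ℤ => ((p.2.2 : K) * t ^ p.2.1) •
        (e p.1 : chevG2.Idx → K)) ∘ fun km => (u, km.1, km.2))).sum) u =
        (L.map fun km => ((km.2 : ℤ) : K) * t ^ km.1).sum := by
      intro L
      induction L with
      | nil => rfl
      | cons p L ih =>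
        rw [List.map_cons, List.sum_cons, List.map_cons, List.sum_cons, Pi.add_apply, ih]
        simp [e]
    rw [h1, sum_nz]
    exact xMat_apply (F := K) (show Fin chevG2.nroots from r) t u s
  · intro u' _ hu
    rw [List.map_map]
    generalize nz (colD r s u') = L
    induction L with
    | nil => rfl
    | cons p L ih =>
      rw [List.map_cons, List.sum_cons, Pi.add_apply, ih]
      simp [e, hu.symm]
  · intro h
    exact absurd (Finset.mem_univ u) h

theorem a14_row (r : Fin 12) (u : chevG2.Idx) (t : K) :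
    l u ∘ₗ a14 K (xg r t) = ((row r u).map fun p => ((p.2.2 : K) * t ^ p.2.1) • (l p.1 : (chevG2.Idx → K) →ₗ[K] K)).sum := by
  refine LinearMap.ext fun x => ?_
  rw [LinearMap.comp_apply, l_apply, a14_apply, coe_xg r r.2, row, sum_flatMap, G2Link.sum_allIdx]
  rw [LinearMap.sum_apply]
  change ∑ s, chevG2.xMat K (show Fin chevG2.nroots from r) t u s * x s = _
  refine Finset.sum_congr rfl fun s _ => ?_
  have h0 := xMat_apply (F := K) (show Fin chevG2.nroots from r) t u s
  rw [← sum_nz] at h0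
  refine (congrArg (fun z => z * x s) h0).trans ?_
  rw [List.map_map]
  generalize nz (colD r s u) = L
  induction L with
  | nil => simp
  | cons p L ih =>
    rw [List.map_cons, List.sum_cons, List.map_cons, List.sum_cons, LinearMap.add_apply, ← ih, add_mul]
    rfl

end Cfsg.Agent.H927.G2
end

-- part: H927/LDMaster
section
/-!
# The coefficient of a simple module in its own characteristic (helper927)

* `master` : `φ (ρ g v) = Ξ g` for every function `Ξ` with the right invariance (any root group datum);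
* `le_finrank_of` : lower bounds for the dimension from "vertices" and "extras".
-/

set_option autoImplicit false
set_option linter.unusedSectionVars false
set_option linter.style.haveILetI false

namespace Cfsg.Agent.H927.LD

open CoxeterSystem Cfsg.Agent.ChevalleyStructure.CoxeterGeom Cfsg.Agent.Tits.Roots Cfsg.Agent.Tits.Core
  Cfsg.Agent.Tits.Exchange Cfsg.Agent.Nodes.Reps Cfsg.Agent.Nodes.BNOf Cfsg.Agent.Nodes.StabComb
  Cfsg.Agent.Nodes.Bruhat Cfsg.Agent.Nodes.OppDec Cfsg.Agent.Nodes.LeviDec Cfsg.Agent.KFacts.RgdOpp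
  Cfsg.Agent.Omega.CR Cfsg.Agent.Omega.FOne.Lift.Sd Cfsg.Agent.Nodes.RGDLib
open Cfsg.Agent.H905.Md Module
open Cfsg.Agent.H887.DS (rSt lSt)

section gen

variable {I W Y : Type*} [Fintype I] [DecidableEq I] [Group W] [Group Y] {M : CoxeterMatrix I}
  {cs : CoxeterSystem M W} {A : I → I → ℤ} {h : IsCartan M A} {p : ℕ} {T : Subgroup Y} {n : I → Y}
  {X : (I → ℤ) → Subgroup Y} {k V : Type*} [Field k] [AddCommGroup V] [Module k V]

/-- **The master formula.** -/
theorem master (R : RGD cs h p T n X) [Finite Y] [Finite W] [Fact p.Prime] [CharP k p] [IsAlgClosed k]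
    [FiniteDimensional k V] [Nontrivial V] {ρ : Y →* Module.End k V}
    (hirr : ∀ L : Submodule k V, Ivt ρ (GG cs h T X) L → L = ⊥ ∨ L = ⊤)
    (hT : ∀ s ∈ T, ∀ t ∈ T, s * t = t * s) (hG : G1 cs h X = ⊤)
    {Ξ : Y → k} (hΞ : Ξ 1 = 1)
    (hU : ∀ x, RGD.Pos cs h x → ∀ u ∈ X x, ∀ g, Ξ (g * u) = Ξ g)
    (hN : ∀ x, RGD.Pos cs h x → ∀ u ∈ X (-x), ∀ g, Ξ (u * g) = Ξ g)
    (hTl : ∀ t ∈ T, ∀ g, Ξ (t * g) = Ξ t * Ξ g) (hTr : ∀ t ∈ T, ∀ g, Ξ (g * t) = Ξ g * Ξ t)
    (hns : ∀ i ∈ Jx cs h X ρ, ∀ g, Ξ (n i * g) = Ξ g)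
    {v : V} (hv : v ∈ D cs h X ρ) (hnv : ∀ i ∈ Jx cs h X ρ, ρ (n i) v = v)
    (hz : ∀ w g, Rp cs R.nsys w g → Ξ g ≠ 0 → w ∈ WJ cs (Jx cs h X ρ))
    (hχ : ∀ t ∈ T, ρ t v = Ξ t • v)
    {φ : Module.Dual k V} (hφ : φ ∈ fx ((dualRep ρ :)) (UN cs h X)) (h1 : φ v = 1)
    (g : Y) : φ (ρ g v) = Ξ g := by
  have hT0 : ∀ t ∈ T, Ξ t ≠ 0 := by
    intro t ht h0
    have h2 := hTl t ht t⁻¹
    rw [mul_inv_cancel, hΞ, h0, zero_mul] at h2
    exact one_ne_zero h2
  -- the torus on `φ`
  have hφT : ∀ t ∈ T, ∀ x, φ (ρ t x) = Ξ t * φ x := by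
    intro t ht
    have e1 : Module.finrank k (D cs h (fun x => X (-x)) ((dualRep ρ :))) = 1 :=
      finrank_D (opp R) (H905.Md.hirr_opp R hirr) hT
    have e2 : φ ∈ D cs h (fun x => X (-x)) ((dualRep ρ :)) := by rw [D_opp]; exact hφ
    have e3 : dualRep ρ t⁻¹ φ ∈ D cs h (fun x => X (-x)) ((dualRep ρ :)) := by
      haveI : Nontrivial (Module.Dual k V) := inferInstance
      exact D_ivt (opp R) (H905.Md.hirr_opp R hirr) t⁻¹ (inv_mem ht) φ e2
    have hφ0 : φ ≠ 0 := by rintro rfl; exact one_ne_zero h1.symm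
    obtain ⟨c, hc⟩ := (finrank_eq_one_iff_of_nonzero' (⟨φ, e2⟩ : D cs h (fun x => X (-x)) ((dualRep ρ :)))
      (by intro e; exact hφ0 (congrArg Subtype.val e))).1 e1 ⟨_, e3⟩
    have hc' : c • φ = dualRep ρ t⁻¹ φ := congrArg Subtype.val hc
    have h2 : c = Ξ t := by
      have h3 := congrArg (fun ψ : Module.Dual k V => ψ v) hc'
      simp only [LinearMap.smul_apply, h1, smul_eq_mul, mul_one] at h3
      rw [dualRep_apply, inv_inv, hχ t ht, map_smul, h1, smul_eq_mul, mul_one] at h3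
      exact h3
    intro x
    have h3 := congrArg (fun ψ : Module.Dual k V => ψ x) hc'
    simp only [LinearMap.smul_apply, smul_eq_mul] at h3
    rw [dualRep_apply, inv_inv, h2] at h3
    exact h3.symm
  -- representatives of `W_J`
  have hWJ : ∀ w ∈ WJ cs (Jx cs h X ρ), ∀ g, Rp cs R.nsys w g → ρ g v = Ξ g • v := by
    intro w hw g hg
    obtain ⟨ω, hω, rfl⟩ := exists_word_of_mem_WJ cs hw
    clear hw
    induction ω generalizing g with
    | nil =>
      rw [wordProd_nil] at hg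
      exact hχ g hg.mem_of_one
    | cons i ω ih =>
      rw [wordProd_cons] at hg
      have hi : i ∈ Jx cs h X ρ := hω i List.mem_cons_self
      have h1 := (rp_simple cs R.nsys i).inv.mul hg
      rw [inv_mul_cancel_left] at h1
      have h2 := ih _ (fun j hj => hω j (List.mem_cons_of_mem _ hj)) h1
      have e : g = n i * ((n i)⁻¹ * g) := by rw [mul_inv_cancel_left]
      rw [e, rho_mul, h2, map_smul, hnv i hi, hns i hi]
  -- the monomial elements
  have hmono : ∀ w m, Rp cs R.nsys w m → φ (ρ m v) = Ξ m := by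
    intro w m hm
    by_cases hw : w ∈ WJ cs (Jx cs h X ρ)
    · rw [hWJ w hw m hm, map_smul, h1, smul_eq_mul, mul_one]
    · have h2 : Ξ m = 0 := by
        by_contra hne
        exact hw (hz w m hm hne)
      rw [h2]
      by_contra hne
      exact hw (mem_WJ_of_pair R hirr hφ hm hv hne)
  -- unipotent elements
  have hUU : ∀ u ∈ RGD.Sup X (RGD.Pos cs h), ∀ g, Ξ (g * u) = Ξ g := by
    have h2 : RGD.Sup X (RGD.Pos cs h) ≤ rSt Ξ := RGD.Sup_le fun z hz x hx g => hU z hz x hx g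
    exact fun u hu g => h2 hu g
  have hNN : ∀ u ∈ UN cs h X, ∀ g, Ξ (u * g) = Ξ g := by
    have h2 : UN cs h X ≤ lSt Ξ := by
      refine RGD.Sup_le fun z hz x hx g => ?_
      have := hN (-z) ⟨hz.1.neg, neg_nonneg.2 hz.2⟩ x (by rwa [neg_neg]) g
      exact this
    exact fun u hu g => h2 hu g
  -- stabilisers
  have hL : BN cs h T X ≤ lSt (fun g => (φ (ρ g v) = Ξ g : Prop)) := by
    refine sup_le ?_ ?_
    · intro t ht g
      apply propext
      change φ (ρ (t * g) v) = Ξ (t * g) ↔ φ (ρ g v) = Ξ g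
      rw [rho_mul, hφT t ht, hTl t ht]
      exact mul_right_inj' (hT0 t ht)
    · intro u hu g
      apply propext
      change φ (ρ (u * g) v) = Ξ (u * g) ↔ φ (ρ g v) = Ξ g
      rw [rho_mul, dual_fx_pair R hφ hu, hNN u hu]
  have hR : RGD.B cs h T X ≤ rSt (fun g => (φ (ρ g v) = Ξ g : Prop)) := by
    refine sup_le ?_ ?_
    · intro t ht g
      apply propext
      change φ (ρ (g * t) v) = Ξ (g * t) ↔ φ (ρ g v) = Ξ g
      rw [rho_mul, hχ t ht, map_smul, map_smul, smul_eq_mul, mul_comm, hTr t ht]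
      exact mul_left_inj' (hT0 t ht)
    · intro u hu g
      apply propext
      change φ (ρ (g * u) v) = Ξ (g * u) ↔ φ (ρ g v) = Ξ g
      rw [rho_mul, hv u hu, hUU u hu]
  obtain ⟨k0, hk0⟩ := exists_rp cs R.nsys (w0 cs)
  have hg : k0 * g ∈ GG cs h T X := by rw [gg_eq_top hG]; trivial
  obtain ⟨w, b₁, hb₁, m, hm, b₂, hb₂, e⟩ := (mem_GG R).1 hg
  have h2 : k0⁻¹ * b₁ * k0 ∈ BN cs h T X := by
    rw [← cj_BN R hk0, mem_cj] at hb₁
    exact hb₁
  have h3 : g = (k0⁻¹ * b₁ * k0) * (k0⁻¹ * m * b₂) := by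
    rw [← mul_right_inj k0, e]
    group
  have h4 := hmono _ _ (hk0.inv.mul hm)
  have h5 : (φ (ρ (k0⁻¹ * m * b₂) v) = Ξ (k0⁻¹ * m * b₂)) :=
    (iff_of_eq (hR hb₂ (k0⁻¹ * m))).2 h4
  rw [h3]
  exact (iff_of_eq (hL h2 _)).2 h5

end gen

end Cfsg.Agent.H927.LD
end

-- part: H927/G2Co
section
/-!
# The coefficient of a simple module of `G₂(K)` in its own characteristic (helper927)

`exists_coef` : `φ (ρ g v) = Fa (θ(g)₆₆) * Fb (g₁₁,₁₁)`.
-/

set_option autoImplicit false
set_option linter.unusedSectionVars false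
set_option linter.style.haveILetI false

namespace Cfsg.Agent.H927.G2

open Cfsg.Lie Matrix Cfsg.Agent.H638.G2Rep Cfsg.Agent.H638.G2Mem
open Cfsg.Agent.H638
open CoxeterSystem Cfsg.Agent.ChevalleyStructure.CoxeterGeom Cfsg.Agent.Tits.Roots Cfsg.Agent.Tits.Core
  Cfsg.Agent.Tits.Exchange Cfsg.Agent.Nodes.Reps Cfsg.Agent.Nodes.BNOf Cfsg.Agent.Nodes.StabComb
  Cfsg.Agent.Nodes.Bruhat Cfsg.Agent.Nodes.OppDec Cfsg.Agent.Nodes.LeviDec Cfsg.Agent.KFacts.RgdOpp
  Cfsg.Agent.Omega.CR Cfsg.Agent.Omega.FOne.Lift.Sd Cfsg.Agent.Nodes.RGDLib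
open Cfsg.Agent.H905.Md Cfsg.Agent.H64.CrossChev Cfsg.Agent.Nodes.RGDChev

variable {K : Type} [Field K]

/-! ### the root group datum -/

/-- the Coxeter system -/
abbrev cs2 : CoxeterSystem CoxeterMatrix.G₂ CoxeterMatrix.G₂.Group := CoxeterMatrix.G₂.toCoxeterSystem

theorem ht : IsType chevG2 2 CoxeterMatrix.G₂ := isType_G2

theorem hc2 : IsCartan CoxeterMatrix.G₂ (Cfsg.Agent.ChevalleyStructure.CoxeterGeomTypes.cartanOf chevG2 2) := ht.isCartan

/-- the torus -/
abbrev T2 (K : Type) [Field K] : Subgroup (GK K) := (chevG2.diagonalSubgroup K).subgroupOf (chevG2.group K)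
/-- the reflections -/
abbrev n2 (K : Type) [Field K] (i : Fin 2) : GK K := ⟨_root_.Cfsg.Agent.Nodes.RGDChev.nn ht K i, nn_mem_group ht i⟩
/-- the root groups -/
abbrev X2 (K : Type) [Field K] (x : Fin 2 → ℤ) : Subgroup (GK K) := (XV chevG2 2 K x).subgroupOf (chevG2.group K)

instance instFiniteG2W : Finite CoxeterMatrix.G₂.Group := finite_W ht cs2

theorem rgd2 [Finite K] (p : ℕ) [Fact p.Prime] [CharP K p] : RGD cs2 hc2 p (T2 K) (n2 K) (X2 K) := rgd ht cs2 p

theorem gen2 : G1 cs2 hc2 (X2 K) = ⊤ := G1_eq_top ht cs2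

theorem simple0 : chevG2.simple 0 = 7 := by decide +kernel
theorem simple1 : chevG2.simple 1 = 6 := by decide +kernel
theorem neg_lt {r : ℕ} (hr : r < 12) : chevG2.neg r = 11 - r := Cfsg.Agent.ChevalleyStructure.G2N.neg_eq hr

theorem n2_0 : n2 K 0 = xg 7 1 * (xg 4 (-1) * xg 7 1) := by
  apply Subtype.ext
  change Cfsg.Agent.ChevalleyStructure.Elts.nG ht.inList (chevG2.simple ((0 : Fin 2) : ℕ)) 1 = _
  rw [Cfsg.Agent.ChevalleyStructure.Elts.nG_def, show chevG2.simple ((0 : Fin 2) : ℕ) = 7 from simple0,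
    show chevG2.neg 7 = 4 from neg_lt (by norm_num), inv_one]
  rfl

theorem n2_1 : n2 K 1 = xg 6 1 * (xg 5 (-1) * xg 6 1) := by
  apply Subtype.ext
  change Cfsg.Agent.ChevalleyStructure.Elts.nG ht.inList (chevG2.simple ((1 : Fin 2) : ℕ)) 1 = _
  rw [Cfsg.Agent.ChevalleyStructure.Elts.nG_def, show chevG2.simple ((1 : Fin 2) : ℕ) = 6 from simple1,
    show chevG2.neg 6 = 5 from neg_lt (by norm_num), inv_one]
  rfl

/-- the torus elements -/
noncomputable def hh (K : Type) [Field K] (i : Fin 2) (c : K) : GK K :=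
  Cfsg.Agent.KFacts.MulOdd.InstChev.psiG ht K i (Cfsg.Agent.Nodes.RGDFoldSL.hS c)

theorem coe_hh (i : Fin 2) (c : K) : ((hh K i c : GK K) : GL chevG2.Idx K) =
    Cfsg.Agent.ChevalleyStructure.Elts.hG ht.inList (chevG2.simple i) c :=
  Cfsg.Agent.Nodes.RGDFoldSL.psi_hS ht.inList (Cfsg.Agent.ChevalleyStructure.NPerm.simple_lt ht.inList (lt_rank ht i)) c

theorem hh_0 (c : K) : hh K 0 c = xg 7 c * (xg 4 (-c⁻¹) * xg 7 c) * (xg 7 (-1) * (xg 4 1 * xg 7 (-1))) := by
  apply Subtype.ext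
  rw [coe_hh, Cfsg.Agent.ChevalleyStructure.Elts.hG_def, Cfsg.Agent.ChevalleyStructure.Elts.nG_def,
    Cfsg.Agent.ChevalleyStructure.Elts.nG_def, show chevG2.simple ((0 : Fin 2) : ℕ) = 7 from simple0,
    show chevG2.neg 7 = 4 from neg_lt (by norm_num), show -(-1 : K)⁻¹ = 1 by rw [inv_neg, inv_one, neg_neg]]
  rfl

theorem hh_1 (c : K) : hh K 1 c = xg 6 c * (xg 5 (-c⁻¹) * xg 6 c) * (xg 6 (-1) * (xg 5 1 * xg 6 (-1))) := by
  apply Subtype.ext
  rw [coe_hh, Cfsg.Agent.ChevalleyStructure.Elts.hG_def, Cfsg.Agent.ChevalleyStructure.Elts.nG_def,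
    Cfsg.Agent.ChevalleyStructure.Elts.nG_def, show chevG2.simple ((1 : Fin 2) : ℕ) = 6 from simple1,
    show chevG2.neg 6 = 5 from neg_lt (by norm_num), show -(-1 : K)⁻¹ = 1 by rw [inv_neg, inv_one, neg_neg]]
  rfl

/-- induction on the torus -/
theorem T_induction [Finite K] {P : GK K → Prop} (h1 : P 1) (hm : ∀ a b, P a → P b → P (a * b))
    (hi : ∀ (i : Fin 2) (c : K), c ≠ 0 → P (hh K i c)) {t : GK K} (htt : t ∈ T2 K) : P t := by
  obtain ⟨p, hp⟩ := CharP.exists K
  haveI : Fact p.Prime := ⟨CharP.char_is_prime K p⟩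
  have R := rgd2 (K := K) p
  have h2 := Cfsg.Agent.KFacts.MulOdd.Shrink.torus_le R gen2 htt
  unfold Cfsg.Agent.KFacts.MulOdd.Shrink.TT at h2
  refine Subgroup.iSup_induction _ (C := P) h2 (fun i x hx => ?_) h1 (fun a b => hm a b)
  obtain ⟨c, hc, e⟩ := (nd ht Cfsg.Agent.KFacts.MulOdd.InstChev.parity_G2 K i).exists_hS R (Subgroup.mem_inf.1 hx).1
    (Subgroup.mem_inf.1 hx).2
  rw [e]
  exact hi i c hc

section a8

variable [Finite K]

theorem a8_mul (g h : GK K) (x : Fin 8 → K) : a8 K (g * h) x = a8 K g (a8 K h x) := by rw [map_mul]; rfl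

theorem a8_n0 (x : Fin 8 → K) : a8 K (n2 K 0) x = ![x 7, -x 4, x 6, -x 5, -x 1, x 3, -x 2, x 0] := by
  rw [n2_0, a8_mul, a8_mul, a8_7, a8_4, a8_7]
  ext i
  (revert i; simp only [_root_.Fin.forall_fin_succ, _root_.Nat.succ_eq_add_one, Nat.reduceAdd, Fin.isValue, _root_.one_mul, _root_.one_pow, _root_.Matrix.cons_val_zero, _root_.Matrix.cons_val_one, _root_.neg_mul, _root_.neg_sub, _root_.Matrix.cons_val, _root_.sub_sub_cancel, _root_.neg_add_rev, _root_.add_neg_cancel_left, _root_.even_two, _root_.Even.neg_pow, _root_.sub_add_sub_cancel, _root_.sub_add_cancel_right, _root_.mul_neg, _root_.add_neg_cancel_comm, _root_.sub_sub_cancel_left, _root_.Matrix.cons_val_succ, _root_.Matrix.cons_val_fin_one, _root_.forall_const, _root_.true_and]) <;> (repeat' with_reducible apply And.intro) <;> ring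

theorem a8_n1 (x : Fin 8 → K) : a8 K (n2 K 1) x = ![x 0, -x 2, x 1, x 3, -x 5, x 4, x 6, x 7] := by
  rw [n2_1, a8_mul, a8_mul, a8_6, a8_5, a8_6]
  ext i
  (revert i; simp [_root_.Fin.forall_fin_succ])

theorem a8_na {c d : K} (hc : c ≠ 0) (hd : d = -c⁻¹) (x : Fin 8 → K) : a8 K (xg 7 c * (xg 4 d * xg 7 c)) x =
    ![x 7, -c ^ 2 * x 4, c⁻¹ * x 6, -c⁻¹ * x 5, -(c ^ 2)⁻¹ * x 1, c * x 3, -c * x 2, x 0] := by
  rw [a8_mul, a8_mul, a8_7, a8_4, a8_7, hd]
  ext i
  fin_cases i
  · simp only [_root_.Nat.succ_eq_add_one, _root_.Nat.reduceAdd, _root_.Fin.isValue, _root_.Matrix.cons_val_zero, _root_.Matrix.cons_val_one, _root_.neg_mul, _root_.sub_neg_eq_add, _root_.Matrix.cons_val, _root_.even_two, _root_.Even.neg_pow, _root_.inv_pow, _root_.Fin.zero_eta]; field_simp; ring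
  · simp only [_root_.Nat.succ_eq_add_one, _root_.Nat.reduceAdd, _root_.Fin.isValue, _root_.Matrix.cons_val_zero, _root_.Matrix.cons_val_one, _root_.neg_mul, _root_.sub_neg_eq_add, _root_.Matrix.cons_val, _root_.even_two, _root_.Even.neg_pow, _root_.inv_pow, _root_.Fin.mk_one]; field_simp; ring
  · simp only [_root_.Nat.succ_eq_add_one, _root_.Nat.reduceAdd, _root_.Fin.isValue, _root_.Matrix.cons_val_zero, _root_.Matrix.cons_val_one, _root_.neg_mul, _root_.sub_neg_eq_add, _root_.Matrix.cons_val, _root_.even_two, _root_.Even.neg_pow, _root_.inv_pow, _root_.Fin.reduceFinMk]; field_simp; ring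
  · simp only [_root_.Nat.succ_eq_add_one, _root_.Nat.reduceAdd, _root_.Fin.isValue, _root_.Matrix.cons_val_zero, _root_.Matrix.cons_val_one, _root_.neg_mul, _root_.sub_neg_eq_add, _root_.Matrix.cons_val, _root_.even_two, _root_.Even.neg_pow, _root_.inv_pow, _root_.Fin.reduceFinMk]; field_simp; ring
  · simp only [_root_.Nat.succ_eq_add_one, _root_.Nat.reduceAdd, _root_.Fin.isValue, _root_.Matrix.cons_val_zero, _root_.Matrix.cons_val_one, _root_.neg_mul, _root_.sub_neg_eq_add, _root_.Matrix.cons_val, _root_.even_two, _root_.Even.neg_pow, _root_.inv_pow, _root_.Fin.reduceFinMk]; field_simp; ring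
  · simp only [_root_.Nat.succ_eq_add_one, _root_.Nat.reduceAdd, _root_.Fin.isValue, _root_.Matrix.cons_val_zero, _root_.Matrix.cons_val_one, _root_.neg_mul, _root_.sub_neg_eq_add, _root_.Matrix.cons_val, _root_.even_two, _root_.Even.neg_pow, _root_.inv_pow, _root_.Fin.reduceFinMk]; field_simp; ring
  · simp only [_root_.Nat.succ_eq_add_one, _root_.Nat.reduceAdd, _root_.Fin.isValue, _root_.Matrix.cons_val_zero, _root_.Matrix.cons_val_one, _root_.neg_mul, _root_.sub_neg_eq_add, _root_.Matrix.cons_val, _root_.even_two, _root_.Even.neg_pow, _root_.inv_pow, _root_.Fin.reduceFinMk]; field_simp; ring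
  · simp only [_root_.Nat.succ_eq_add_one, _root_.Nat.reduceAdd, _root_.Fin.isValue, _root_.Matrix.cons_val_zero, _root_.Matrix.cons_val_one, _root_.neg_mul, _root_.sub_neg_eq_add, _root_.Matrix.cons_val, _root_.even_two, _root_.Even.neg_pow, _root_.inv_pow, _root_.Fin.reduceFinMk]; field_simp; ring

theorem a8_nb {c d : K} (hc : c ≠ 0) (hd : d = -c⁻¹) (x : Fin 8 → K) : a8 K (xg 6 c * (xg 5 d * xg 6 c)) x =
    ![x 0, -c⁻¹ * x 2, c * x 1, x 3, -c * x 5, c⁻¹ * x 4, x 6, x 7] := by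
  rw [a8_mul, a8_mul, a8_6, a8_5, a8_6, hd]
  ext i
  fin_cases i
  · simp only [_root_.Nat.succ_eq_add_one, _root_.Nat.reduceAdd, _root_.Fin.isValue, _root_.Matrix.cons_val_zero, _root_.Matrix.cons_val_one, _root_.Matrix.cons_val, _root_.neg_mul, _root_.sub_neg_eq_add, _root_.Fin.zero_eta]
  · simp only [_root_.Nat.succ_eq_add_one, _root_.Nat.reduceAdd, _root_.Fin.isValue, _root_.Matrix.cons_val_zero, _root_.Matrix.cons_val_one, _root_.Matrix.cons_val, _root_.neg_mul, _root_.sub_neg_eq_add, _root_.Fin.mk_one]; field_simp; ring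
  · simp only [_root_.Nat.succ_eq_add_one, _root_.Nat.reduceAdd, _root_.Fin.isValue, _root_.Matrix.cons_val_zero, _root_.Matrix.cons_val_one, _root_.Matrix.cons_val, _root_.neg_mul, _root_.sub_neg_eq_add, _root_.Fin.reduceFinMk]; field_simp; ring
  · simp only [_root_.Nat.succ_eq_add_one, _root_.Nat.reduceAdd, _root_.Fin.isValue, _root_.Matrix.cons_val_zero, _root_.Matrix.cons_val_one, _root_.Matrix.cons_val, _root_.neg_mul, _root_.sub_neg_eq_add, _root_.Fin.reduceFinMk]
  · simp only [_root_.Nat.succ_eq_add_one, _root_.Nat.reduceAdd, _root_.Fin.isValue, _root_.Matrix.cons_val_zero, _root_.Matrix.cons_val_one, _root_.Matrix.cons_val, _root_.neg_mul, _root_.sub_neg_eq_add, _root_.Fin.reduceFinMk]; field_simp; ring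
  · simp only [_root_.Nat.succ_eq_add_one, _root_.Nat.reduceAdd, _root_.Fin.isValue, _root_.Matrix.cons_val_zero, _root_.Matrix.cons_val_one, _root_.Matrix.cons_val, _root_.neg_mul, _root_.sub_neg_eq_add, _root_.Fin.reduceFinMk]; field_simp; ring
  · simp only [_root_.Nat.succ_eq_add_one, _root_.Nat.reduceAdd, _root_.Fin.isValue, _root_.Matrix.cons_val_zero, _root_.Matrix.cons_val_one, _root_.Matrix.cons_val, _root_.neg_mul, _root_.sub_neg_eq_add, _root_.Fin.reduceFinMk]
  · simp only [_root_.Nat.succ_eq_add_one, _root_.Nat.reduceAdd, _root_.Fin.isValue, _root_.Matrix.cons_val_zero, _root_.Matrix.cons_val_one, _root_.Matrix.cons_val, _root_.neg_mul, _root_.sub_neg_eq_add, _root_.Fin.reduceFinMk]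

theorem a8_h0 {c : K} (hc : c ≠ 0) (x : Fin 8 → K) : a8 K (hh K 0 c) x =
    ![x 0, c ^ 2 * x 1, c⁻¹ * x 2, c⁻¹ * x 3, (c ^ 2)⁻¹ * x 4, c * x 5, c * x 6, x 7] := by
  rw [hh_0, a8_mul, a8_na hc rfl, a8_na (neg_ne_zero.2 one_ne_zero) (by rw [inv_neg, inv_one, neg_neg])]
  ext i
  (revert i; simp only [_root_.Fin.forall_fin_succ, _root_.Nat.succ_eq_add_one, _root_.Nat.reduceAdd, _root_.Fin.isValue, _root_.even_two, _root_.Even.neg_pow, _root_.one_pow, _root_.neg_mul, _root_.one_mul, _root_.inv_neg, _root_.inv_one, _root_.neg_neg, _root_.Matrix.cons_val, _root_.mul_neg, _root_.Matrix.cons_val_one, _root_.Matrix.cons_val_zero, _root_.implies_true])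

theorem a8_h1 {c : K} (hc : c ≠ 0) (x : Fin 8 → K) : a8 K (hh K 1 c) x =
    ![x 0, c⁻¹ * x 1, c * x 2, x 3, c * x 4, c⁻¹ * x 5, x 6, x 7] := by
  rw [hh_1, a8_mul, a8_nb hc rfl, a8_nb (neg_ne_zero.2 one_ne_zero) (by rw [inv_neg, inv_one, neg_neg])]
  ext i
  (revert i; simp only [_root_.Fin.forall_fin_succ, _root_.Nat.succ_eq_add_one, _root_.Nat.reduceAdd, _root_.Fin.isValue, _root_.inv_neg, _root_.inv_one, _root_.neg_neg, _root_.one_mul, _root_.neg_mul, _root_.Matrix.cons_val_zero, _root_.Matrix.cons_val, _root_.mul_neg, _root_.Matrix.cons_val_one, _root_.implies_true])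

end a8

/-! ### the coordinates `x1`, `x2` -/

/-- the highest vector in degree 8 -/
def e8 (K : Type) [Field K] : Fin 8 → K := Pi.single 6 1
/-- the top coordinate in degree 8 -/
def l8 (K : Type) [Field K] : (Fin 8 → K) →ₗ[K] K := LinearMap.proj 6
/-- the highest vector in degree 14 -/
def e14 (K : Type) [Field K] : chevG2.Idx → K := e (rv 11)
/-- the top coordinate in degree 14 -/
def l14 (K : Type) [Field K] : (chevG2.Idx → K) →ₗ[K] K := l (rv 11)

theorem a14_mul (g h : GK K) (x : chevG2.Idx → K) : a14 K (g * h) x = a14 K g (a14 K h x) := by rw [map_mul]; rfl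

theorem col_11 : ∀ r : Fin 12, (6 ≤ r.val ∨ r.val = 4) → col r (rv 11) = [(rv 11, 0, 1)] := by decide +kernel
theorem row_11 : ∀ r : Fin 12, (r.val < 6 ∨ r.val = 7) → row r (rv 11) = [(rv 11, 0, 1)] := by decide +kernel

theorem a14_pos {r : ℕ} (hr : r < 12) (h : 6 ≤ r ∨ r = 4) (t : K) : a14 K (xg r t) (e14 K) = e14 K := by
  have := a14_e (K := K) ⟨r, hr⟩ (rv 11) t
  rw [col_11 ⟨r, hr⟩ h] at this
  unfold e14
  simpa only [_root_.Fin.isValue, _root_.List.map_cons, _root_.Int.cast_one, _root_.pow_zero, _root_.mul_one, _root_.one_smul, _root_.List.map_nil, _root_.List.sum_cons, _root_.List.sum_nil, _root_.add_zero] using this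

theorem a14_neg {r : ℕ} (hr : r < 12) (h : r < 6 ∨ r = 7) (t : K) (x : chevG2.Idx → K) :
    l14 K (a14 K (xg r t) x) = l14 K x := by
  have := a14_row (K := K) ⟨r, hr⟩ (rv 11) t
  rw [row_11 ⟨r, hr⟩ h] at this
  have h2 := LinearMap.congr_fun this x
  unfold l14
  simpa only [_root_.Fin.isValue, _root_.LinearMap.coe_comp, _root_.Function.comp_apply, _root_.List.map_cons, _root_.Int.cast_one, _root_.pow_zero, _root_.mul_one, _root_.one_smul, _root_.List.map_nil, _root_.List.sum_cons, _root_.List.sum_nil, _root_.add_zero] using h2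

section a8

variable [Finite K]

theorem a8_pos {r : ℕ} (hr : r < 12) (h : 5 ≤ r) (t : K) : a8 K (xg r t) (e8 K) = e8 K := by
  interval_cases r
  · rw [a8_5]; ext i; (revert i; simp only [e8, _root_.Fin.forall_fin_succ, _root_.Nat.succ_eq_add_one, Nat.reduceAdd, Fin.isValue, _root_.ne_eq, Fin.reduceEq, _root_.not_false_eq_true, _root_.Pi.single_eq_of_ne, _root_.MulZeroClass.mul_zero, _root_.add_zero, _root_.sub_self, _root_.Pi.single_eq_same, _root_.Matrix.cons_val_zero, _root_.Matrix.cons_val_succ, _root_.Fin.succ_zero_eq_one, _root_.Fin.succ_one_eq_two, Fin.reduceSucc, _root_.Matrix.cons_val_fin_one, _root_.IsEmpty.forall_iff, _root_.and_self])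
  · rw [a8_6]; ext i; (revert i; simp only [e8, _root_.Fin.forall_fin_succ, _root_.Nat.succ_eq_add_one, Nat.reduceAdd, Fin.isValue, _root_.ne_eq, Fin.reduceEq, _root_.not_false_eq_true, _root_.Pi.single_eq_of_ne, _root_.MulZeroClass.mul_zero, _root_.add_zero, _root_.sub_self, _root_.Pi.single_eq_same, _root_.Matrix.cons_val_zero, _root_.Matrix.cons_val_succ, _root_.Fin.succ_zero_eq_one, _root_.Fin.succ_one_eq_two, Fin.reduceSucc, _root_.Matrix.cons_val_fin_one, _root_.IsEmpty.forall_iff, _root_.and_self])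
  · rw [a8_7]; ext i; (revert i; simp only [e8, _root_.Fin.forall_fin_succ, _root_.Nat.succ_eq_add_one, Nat.reduceAdd, Fin.isValue, _root_.ne_eq, Fin.reduceEq, _root_.not_false_eq_true, _root_.Pi.single_eq_of_ne, _root_.MulZeroClass.mul_zero, _root_.add_zero, _root_.sub_self, _root_.Pi.single_eq_same, _root_.sub_zero, _root_.Matrix.cons_val_zero, _root_.Matrix.cons_val_succ, _root_.Fin.succ_zero_eq_one, _root_.Fin.succ_one_eq_two, Fin.reduceSucc, _root_.Matrix.cons_val_fin_one, _root_.IsEmpty.forall_iff, _root_.and_self])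
  · rw [a8_8]; ext i; (revert i; simp only [e8, _root_.Fin.forall_fin_succ, _root_.Nat.succ_eq_add_one, Nat.reduceAdd, Fin.isValue, _root_.ne_eq, Fin.reduceEq, _root_.not_false_eq_true, _root_.Pi.single_eq_of_ne, _root_.MulZeroClass.mul_zero, _root_.add_zero, _root_.sub_self, _root_.Pi.single_eq_same, _root_.Matrix.cons_val_zero, _root_.Matrix.cons_val_succ, _root_.Fin.succ_zero_eq_one, _root_.Fin.succ_one_eq_two, Fin.reduceSucc, _root_.Matrix.cons_val_fin_one, _root_.IsEmpty.forall_iff, _root_.and_self])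
  · rw [a8_9]; ext i; (revert i; simp only [e8, _root_.Fin.forall_fin_succ, _root_.Nat.succ_eq_add_one, Nat.reduceAdd, Fin.isValue, _root_.ne_eq, Fin.reduceEq, _root_.not_false_eq_true, _root_.Pi.single_eq_of_ne, _root_.MulZeroClass.mul_zero, _root_.add_zero, _root_.sub_self, _root_.Pi.single_eq_same, _root_.sub_zero, _root_.Matrix.cons_val_zero, _root_.Matrix.cons_val_succ, _root_.Fin.succ_zero_eq_one, _root_.Fin.succ_one_eq_two, Fin.reduceSucc, _root_.Matrix.cons_val_fin_one, _root_.IsEmpty.forall_iff, _root_.and_self])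
  · rw [a8_10]; ext i; (revert i; simp only [e8, _root_.Fin.forall_fin_succ, _root_.Nat.succ_eq_add_one, Nat.reduceAdd, Fin.isValue, _root_.ne_eq, Fin.reduceEq, _root_.not_false_eq_true, _root_.Pi.single_eq_of_ne, _root_.MulZeroClass.mul_zero, _root_.sub_self, _root_.Pi.single_eq_same, _root_.add_zero, _root_.Matrix.cons_val_zero, _root_.Matrix.cons_val_succ, _root_.Fin.succ_zero_eq_one, _root_.Fin.succ_one_eq_two, Fin.reduceSucc, _root_.Matrix.cons_val_fin_one, _root_.IsEmpty.forall_iff, _root_.and_self])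
  · rw [a8_11]; ext i; (revert i; simp only [e8, _root_.Fin.forall_fin_succ, _root_.Nat.succ_eq_add_one, Nat.reduceAdd, Fin.isValue, _root_.ne_eq, Fin.reduceEq, _root_.not_false_eq_true, _root_.Pi.single_eq_of_ne, _root_.MulZeroClass.mul_zero, _root_.sub_self, _root_.Pi.single_eq_same, _root_.add_zero, _root_.Matrix.cons_val_zero, _root_.Matrix.cons_val_succ, _root_.Fin.succ_zero_eq_one, _root_.Fin.succ_one_eq_two, Fin.reduceSucc, _root_.Matrix.cons_val_fin_one, _root_.IsEmpty.forall_iff, _root_.and_self])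

theorem a8_neg {r : ℕ} (h : r < 7) (t : K) (x : Fin 8 → K) : l8 K (a8 K (xg r t) x) = l8 K x := by
  interval_cases r
  · rw [a8_0]; simp [l8]
  · rw [a8_1]; simp [l8]
  · rw [a8_2]; simp [l8]
  · rw [a8_3]; simp [l8]
  · rw [a8_4]; simp [l8]
  · rw [a8_5]; simp [l8]
  · rw [a8_6]; simp [l8]

/-- `θ(g)₆₆` -/
noncomputable def x1 (g : GK K) : K := l8 K (a8 K g (e8 K))

end a8

/-- `g₁₁,₁₁` -/
noncomputable def x2 (g : GK K) : K := l14 K (a14 K g (e14 K))

theorem x2_mul_pos {r : ℕ} (hr : r < 12) (h : 6 ≤ r) (t : K) (g : GK K) : x2 (g * xg r t) = x2 g := by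
  unfold x2
  rw [a14_mul, a14_pos hr (Or.inl h)]

theorem x2_neg_mul {r : ℕ} (h : r < 6) (t : K) (g : GK K) : x2 (xg r t * g) = x2 g := by
  unfold x2
  rw [a14_mul, a14_neg (by omega) (Or.inl h)]

theorem x2_n0_mul (g : GK K) : x2 (n2 K 0 * g) = x2 g := by
  unfold x2
  rw [n2_0, a14_mul, a14_mul, a14_mul, a14_neg (by norm_num) (Or.inr rfl), a14_neg (by norm_num) (Or.inl (by norm_num)),
    a14_neg (by norm_num) (Or.inr rfl)]

section a8

variable [Finite K]

theorem x1_mul_pos {r : ℕ} (hr : r < 12) (h : 6 ≤ r) (t : K) (g : GK K) : x1 (g * xg r t) = x1 g := by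
  unfold x1
  rw [a8_mul, a8_pos hr (by omega)]

theorem x1_neg_mul {r : ℕ} (h : r < 6) (t : K) (g : GK K) : x1 (xg r t * g) = x1 g := by
  unfold x1
  rw [a8_mul, a8_neg (by omega)]

theorem x1_n1_mul (g : GK K) : x1 (n2 K 1 * g) = x1 g := by
  unfold x1
  rw [n2_1, a8_mul, a8_mul, a8_mul, a8_neg (by norm_num), a8_neg (by norm_num), a8_neg (by norm_num)]

end a8

/-! ### the torus -/

/-- diagonal elements -/
theorem a14_hh (i : Fin 2) {c : K} (hc : c ≠ 0) (x : chevG2.Idx → K) : a14 K (hh K i c) x = fun s =>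
    (Sum.elim (fun _ => (1 : K)) (fun s : Fin chevG2.nroots =>
      c ^ Cfsg.Agent.ChevalleyStructure.HMatDiagAll.expo chevG2 (chevG2.simple i) s.val)) s * x s := by
  rw [a14_apply, coe_hh, Cfsg.Agent.ChevalleyStructure.Elts.coe_hG,
    Cfsg.Agent.ChevalleyStructure.HMatDiagAll.hMat_eq_diagonal ht.inList
      (Cfsg.Agent.ChevalleyStructure.NPerm.simple_lt ht.inList (lt_rank ht i)) hc]
  funext s
  exact Matrix.mulVec_diagonal _ _ _

theorem expo_0 : Cfsg.Agent.ChevalleyStructure.HMatDiagAll.expo chevG2 (chevG2.simple 0) 11 = 0 := by decide +kernel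
theorem expo_1 : Cfsg.Agent.ChevalleyStructure.HMatDiagAll.expo chevG2 (chevG2.simple 1) 11 = 1 := by decide +kernel

/-- the torus in degree 14 -/
theorem T14 [Finite K] {t : GK K} (htt : t ∈ T2 K) : ∃ c : K, c ≠ 0 ∧ a14 K t (e14 K) = c • e14 K ∧
    ∀ x, l14 K (a14 K t x) = c * l14 K x := by
  refine T_induction (P := fun t => ∃ c : K, c ≠ 0 ∧ a14 K t (e14 K) = c • e14 K ∧
    ∀ x, l14 K (a14 K t x) = c * l14 K x) ⟨1, one_ne_zero, ?_, fun x => ?_⟩ ?_ ?_ htt
  · rw [map_one, one_smul]; rfl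
  · rw [map_one, one_mul]; rfl
  · rintro a b ⟨c, hc, h1, h2⟩ ⟨d, hd, h3, h4⟩
    refine ⟨c * d, mul_ne_zero hc hd, ?_, fun x => ?_⟩
    · rw [a14_mul, h3, map_smul, h1, smul_smul, mul_comm]
    · rw [a14_mul, h2, h4, mul_assoc]
  · intro i c hc
    refine ⟨c ^ Cfsg.Agent.ChevalleyStructure.HMatDiagAll.expo chevG2 (chevG2.simple i) 11, zpow_ne_zero _ hc, ?_, fun x => ?_⟩
    · rw [a14_hh i hc]
      funext s
      by_cases hs : s = rv 11
      · subst hs
        simp [e14, e, rv]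
        rfl
      · simp [e14, e, Pi.single_eq_of_ne hs]
    · rw [a14_hh i hc]
      rfl

theorem x2_hh (i : Fin 2) {c : K} (hc : c ≠ 0) : x2 (hh K i c) = if i = 1 then c else 1 := by
  have h1 : x2 (hh K i c) = c ^ Cfsg.Agent.ChevalleyStructure.HMatDiagAll.expo chevG2 (chevG2.simple i) 11 := by
    unfold x2
    rw [a14_hh i hc]
    change _ * (e14 K) (rv 11) = _
    simp [e14, e]
    rfl
  rw [h1]
  fin_cases i
  · change c ^ Cfsg.Agent.ChevalleyStructure.HMatDiagAll.expo chevG2 (chevG2.simple 0) 11 = _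
    rw [expo_0]
    simp
  · change c ^ Cfsg.Agent.ChevalleyStructure.HMatDiagAll.expo chevG2 (chevG2.simple 1) 11 = _
    rw [expo_1]
    simp

section a8

variable [Finite K]

/-- the torus in degree 8 -/
theorem T8 {t : GK K} (htt : t ∈ T2 K) : ∃ d : Fin 8 → K, (∀ j, d j ≠ 0) ∧ ∀ x, a8 K t x = fun j => d j * x j := by
  refine T_induction (P := fun t => ∃ d : Fin 8 → K, (∀ j, d j ≠ 0) ∧ ∀ x, a8 K t x = fun j => d j * x j)
    ⟨1, fun _ => one_ne_zero, fun x => ?_⟩ ?_ ?_ htt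
  · rw [map_one]
    funext j
    rw [Pi.one_apply, one_mul]
    rfl
  · rintro a b ⟨c, hc, h1⟩ ⟨d, hd, h2⟩
    refine ⟨c * d, fun j => mul_ne_zero (hc j) (hd j), fun x => ?_⟩
    rw [a8_mul, h2, h1]
    funext j
    rw [Pi.mul_apply, mul_assoc]
  · intro i c hc
    fin_cases i
    · refine ⟨![1, c ^ 2, c⁻¹, c⁻¹, (c ^ 2)⁻¹, c, c, 1], fun j => ?_, fun x => ?_⟩
      · (revert j; simp only [hc, _root_.Fin.forall_fin_succ, _root_.ne_eq, Fin.isValue, _root_.Matrix.cons_val_zero, _root_.one_ne_zero, _root_.not_false_eq_true, _root_.Matrix.cons_val_succ, _root_.OfNat.ofNat_ne_zero, _root_.pow_eq_zero_iff, _root_.inv_eq_zero, _root_.Matrix.cons_val_fin_one, _root_.implies_true, _root_.and_self])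
      · change a8 K (hh K 0 c) x = _
        rw [a8_h0 hc]
        funext j
        (revert j; simp only [_root_.Fin.forall_fin_succ, _root_.Nat.succ_eq_add_one, Nat.reduceAdd, Fin.isValue, _root_.Matrix.cons_val_zero, _root_.one_mul, _root_.Matrix.cons_val_succ, _root_.Fin.succ_zero_eq_one, _root_.Fin.succ_one_eq_two, Fin.reduceSucc, _root_.Matrix.cons_val_fin_one, _root_.IsEmpty.forall_iff, _root_.and_self])
    · refine ⟨![1, c⁻¹, c, 1, c, c⁻¹, 1, 1], fun j => ?_, fun x => ?_⟩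
      · (revert j; simp only [hc, _root_.Fin.forall_fin_succ, _root_.ne_eq, Fin.isValue, _root_.Matrix.cons_val_zero, _root_.one_ne_zero, _root_.not_false_eq_true, _root_.Matrix.cons_val_succ, _root_.inv_eq_zero, _root_.Matrix.cons_val_fin_one, _root_.implies_true, _root_.and_self])
      · change a8 K (hh K 1 c) x = _
        rw [a8_h1 hc]
        funext j
        (revert j; simp only [_root_.Fin.forall_fin_succ, _root_.Nat.succ_eq_add_one, Nat.reduceAdd, Fin.isValue, _root_.Matrix.cons_val_zero, _root_.one_mul, _root_.Matrix.cons_val_succ, _root_.Fin.succ_zero_eq_one, _root_.Fin.succ_one_eq_two, Fin.reduceSucc, _root_.Matrix.cons_val_fin_one, _root_.IsEmpty.forall_iff, _root_.and_self])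

theorem T8' {t : GK K} (htt : t ∈ T2 K) : ∃ c : K, c ≠ 0 ∧ a8 K t (e8 K) = c • e8 K ∧
    ∀ x, l8 K (a8 K t x) = c * l8 K x := by
  obtain ⟨d, hd, h⟩ := T8 htt
  refine ⟨d 6, hd 6, ?_, fun x => ?_⟩
  · rw [h]
    funext j
    by_cases hj : j = 6
    · subst hj; simp [e8]
    · simp [e8, Pi.single_eq_of_ne hj]
  · rw [h]; rfl

theorem x1_hh (i : Fin 2) {c : K} (hc : c ≠ 0) : x1 (hh K i c) = if i = 0 then c else 1 := by
  unfold x1
  fin_cases i
  · change l8 K (a8 K (hh K 0 c) (e8 K)) = _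
    rw [a8_h0 hc]
    simp [l8, e8]
  · change l8 K (a8 K (hh K 1 c) (e8 K)) = _
    rw [a8_h1 hc]
    simp [l8, e8]

theorem x1_one : x1 (1 : GK K) = 1 := by
  unfold x1
  rw [map_one]
  simp [l8, e8]

theorem x1_T_mul {t : GK K} (htt : t ∈ T2 K) (g : GK K) : x1 (t * g) = x1 t * x1 g := by
  obtain ⟨c, -, h1, h2⟩ := T8' htt
  unfold x1
  rw [a8_mul, h2, h1, map_smul, smul_eq_mul]
  simp only [l8, e8, _root_.Cfsg.Agent.H927.G2.l8, _root_.Fin.isValue, _root_.Cfsg.Agent.H927.G2.e8, _root_.LinearMap.coe_proj, _root_.Function.eval, _root_.Pi.single_eq_same, _root_.mul_one]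

theorem x1_mul_T {t : GK K} (htt : t ∈ T2 K) (g : GK K) : x1 (g * t) = x1 g * x1 t := by
  obtain ⟨c, -, h1, h2⟩ := T8' htt
  unfold x1
  rw [a8_mul, h1, map_smul, map_smul, map_smul, smul_eq_mul, smul_eq_mul]
  simp only [l8, e8, mul_comm, _root_.Cfsg.Agent.H927.G2.l8, _root_.Fin.isValue, _root_.Cfsg.Agent.H927.G2.e8, _root_.LinearMap.coe_proj, _root_.Function.eval, _root_.Pi.single_eq_same, _root_.mul_one, _root_.mul_comm]

theorem x2_one : x2 (1 : GK K) = 1 := by
  unfold x2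
  rw [map_one]
  simp [l14, e14, l_e]

theorem x2_T_mul {t : GK K} (htt : t ∈ T2 K) (g : GK K) : x2 (t * g) = x2 t * x2 g := by
  obtain ⟨c, -, h1, h2⟩ := T14 htt
  unfold x2
  rw [a14_mul, h2, h1, map_smul, smul_eq_mul]
  simp only [l14, e14, l_e, _root_.Cfsg.Agent.H927.G2.l14, _root_.Fin.isValue, _root_.Cfsg.Agent.H927.G2.e14, _root_.Cfsg.Agent.H927.G2.l_e, ↓ _root_.reduceIte, _root_.mul_one]

theorem x2_mul_T {t : GK K} (htt : t ∈ T2 K) (g : GK K) : x2 (g * t) = x2 g * x2 t := by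
  obtain ⟨c, -, h1, h2⟩ := T14 htt
  unfold x2
  rw [a14_mul, h1, map_smul, map_smul, map_smul, smul_eq_mul, smul_eq_mul]
  simp only [l14, e14, l_e, mul_comm, _root_.Cfsg.Agent.H927.G2.l14, _root_.Fin.isValue, _root_.Cfsg.Agent.H927.G2.e14, _root_.Cfsg.Agent.H927.G2.l_e, ↓ _root_.reduceIte, _root_.mul_one, _root_.mul_comm]

end a8

end Cfsg.Agent.H927.G2
end

-- part: H927/G2Co2
section
/-!
# The coefficient of a simple module of `G₂(K)`: the Weyl group (helper927)
-/

set_option autoImplicit false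
set_option linter.unusedSectionVars false
set_option linter.style.haveILetI false

namespace Cfsg.Agent.H927.G2

open Cfsg.Lie Matrix Cfsg.Agent.H638.G2Rep Cfsg.Agent.H638.G2Mem
open Cfsg.Agent.H638
open CoxeterSystem Cfsg.Agent.ChevalleyStructure.CoxeterGeom Cfsg.Agent.Tits.Roots Cfsg.Agent.Tits.Core
  Cfsg.Agent.Tits.Exchange Cfsg.Agent.Nodes.Reps Cfsg.Agent.Nodes.BNOf Cfsg.Agent.Nodes.StabComb
  Cfsg.Agent.Nodes.Bruhat Cfsg.Agent.Nodes.OppDec Cfsg.Agent.Nodes.LeviDec Cfsg.Agent.KFacts.RgdOpp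
  Cfsg.Agent.Omega.CR Cfsg.Agent.Omega.FOne.Lift.Sd Cfsg.Agent.Nodes.RGDLib
open Cfsg.Agent.H905.Md Cfsg.Agent.H64.CrossChev Cfsg.Agent.Nodes.RGDChev
open Cfsg.Agent.ChevalleyStructure.G2Perm (HasPerm wP hasPerm_n_one)

variable {K : Type} [Field K]

/-! ### the Weyl group on `ℤ²` -/

/-- the Cartan matrix -/
theorem cartan_val : ∀ i j : Fin 2, Cfsg.Agent.ChevalleyStructure.CoxeterGeomTypes.cartanOf chevG2 2 i j =
    ((![![2, -3], ![-1, 2]] : Fin 2 → Fin 2 → ℤ) i j) := by decide +kernel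

/-- the invariant form -/
def bf (x y : Fin 2 → ℤ) : ℤ := 2 * x 0 * y 0 - 3 * x 0 * y 1 - 3 * x 1 * y 0 + 6 * x 1 * y 1

theorem rep0 (x : Fin 2 → ℤ) : rep cs2 hc2 (cs2.simple 0) x = ![-x 0 + 3 * x 1, x 1] := by
  rw [rep_simple_eq]
  funext j
  unfold pairing
  rw [Fin.sum_univ_two, cartan_val, cartan_val]
  fin_cases j
  · simp [sr]; ring
  · simp [sr]

theorem rep1 (x : Fin 2 → ℤ) : rep cs2 hc2 (cs2.simple 1) x = ![x 0, x 0 - x 1] := by
  rw [rep_simple_eq]
  funext j
  unfold pairing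
  rw [Fin.sum_univ_two, cartan_val, cartan_val]
  fin_cases j
  · simp [sr]
  · simp [sr]; ring

theorem bf_rep (w : CoxeterMatrix.G₂.Group) (x y : Fin 2 → ℤ) : bf (rep cs2 hc2 w x) (rep cs2 hc2 w y) = bf x y := by
  obtain ⟨ω, rfl⟩ := cs2.wordProd_surjective w
  induction ω generalizing x y with
  | nil => rw [wordProd_nil, map_one]; rfl
  | cons i ω ih =>
    rw [wordProd_cons, rep_mul_apply, rep_mul_apply]
    refine Eq.trans ?_ (ih x y)
    generalize rep cs2 hc2 (cs2.wordProd ω) x = x'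
    generalize rep cs2 hc2 (cs2.wordProd ω) y = y'
    fin_cases i
    · change bf (rep cs2 hc2 (cs2.simple 0) x') (rep cs2 hc2 (cs2.simple 0) y') = _
      rw [rep0, rep0]
      simp [bf]
      ring
    · change bf (rep cs2 hc2 (cs2.simple 1) x') (rep cs2 hc2 (cs2.simple 1) y') = _
      rw [rep1, rep1]
      simp [bf]
      ring

theorem coord0_of_fix {w : CoxeterMatrix.G₂.Group} (h : rep cs2 hc2 w ![2, 1] = ![2, 1]) (x : Fin 2 → ℤ) :
    rep cs2 hc2 w x 0 = x 0 := by
  have h1 := bf_rep w x ![2, 1]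
  rw [h] at h1
  simp only [bf, _root_.Cfsg.Agent.H927.G2.bf, _root_.Fin.isValue, _root_.Nat.succ_eq_add_one, _root_.Nat.reduceAdd, _root_.Matrix.cons_val_zero, _root_.Matrix.cons_val_one, _root_.Matrix.cons_val_fin_one, _root_.mul_one] at h1
  linarith

theorem coord1_of_fix {w : CoxeterMatrix.G₂.Group} (h : rep cs2 hc2 w ![3, 2] = ![3, 2]) (x : Fin 2 → ℤ) :
    rep cs2 hc2 w x 1 = x 1 := by
  have h1 := bf_rep w x ![3, 2]
  rw [h] at h1
  simp only [bf, _root_.Cfsg.Agent.H927.G2.bf, _root_.Fin.isValue, _root_.Nat.succ_eq_add_one, _root_.Nat.reduceAdd, _root_.Matrix.cons_val_zero, _root_.Matrix.cons_val_one, _root_.Matrix.cons_val_fin_one] at h1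
  linarith

/-! ### the monomial elements in degree 14 -/

theorem nG_eq (r : ℕ) : Cfsg.Agent.ChevalleyStructure.Elts.nG ht.inList r (1 : K) =
    Cfsg.Agent.ChevalleyStructure.G2N.nG r (1 : K) := by
  apply Units.ext
  rw [Cfsg.Agent.ChevalleyStructure.Elts.coe_nG, Cfsg.Agent.ChevalleyStructure.G2N.coe_nG]

/-- the vector of a root index -/
abbrev rt2 (s : Fin 12) : Fin 2 → ℤ := _root_.Cfsg.Agent.Nodes.RGDChev.vec chevG2 2 s.val

theorem rt_tab : ∀ s : Fin 12, ∀ i : Fin 2, rt2 s i = ((![![-3, -2], ![-3, -1], ![-2, -1], ![-1, -1], ![-1, 0], ![0, -1],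
    ![0, 1], ![1, 0], ![1, 1], ![2, 1], ![3, 1], ![3, 2]] : Fin 12 → Fin 2 → ℤ) s i) := by decide +kernel

theorem wP_tab0 : ∀ s : Fin 12, ∀ i : Fin 2, rt2 (wP 7 s) i = (![-(rt2 s 0) + 3 * rt2 s 1, rt2 s 1] : Fin 2 → ℤ) i := by
  decide +kernel

theorem wP_tab1 : ∀ s : Fin 12, ∀ i : Fin 2, rt2 (wP 6 s) i = (![rt2 s 0, rt2 s 0 - rt2 s 1] : Fin 2 → ℤ) i := by
  decide +kernel

theorem hasPerm_n2 (i : Fin 2) : ∃ π : Equiv.Perm (Fin 12), HasPerm ((n2 K i : GK K) : GL chevG2.Idx K) π ∧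
    ∀ s, rt2 (π s) = rep cs2 hc2 (cs2.simple i) (rt2 s) := by
  fin_cases i
  · refine ⟨wP 7, ?_, fun s => ?_⟩
    · have := hasPerm_n_one (F := K) 7
      change HasPerm (Cfsg.Agent.ChevalleyStructure.Elts.nG ht.inList (chevG2.simple 0) 1) _
      rw [simple0, nG_eq]
      exact this
    · change _ = rep cs2 hc2 (cs2.simple 0) (rt2 s)
      rw [rep0]
      exact funext (wP_tab0 s)
  · refine ⟨wP 6, ?_, fun s => ?_⟩
    · have := hasPerm_n_one (F := K) 6
      change HasPerm (Cfsg.Agent.ChevalleyStructure.Elts.nG ht.inList (chevG2.simple 1) 1) _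
      rw [simple1, nG_eq]
      exact this
    · change _ = rep cs2 hc2 (cs2.simple 1) (rt2 s)
      rw [rep1]
      exact funext (wP_tab1 s)

section fin

variable [Finite K] {p : ℕ} [Fact p.Prime] [CharP K p]

theorem exists_perm {w : CoxeterMatrix.G₂.Group} {g : GK K} (hg : Rp cs2 (rgd2 (K := K) p).nsys w g) :
    ∃ π : Equiv.Perm (Fin 12), HasPerm (g : GL chevG2.Idx K) π ∧ ∀ s, rt2 (π s) = rep cs2 hc2 w (rt2 s) := by
  obtain ⟨ω, rfl⟩ := cs2.wordProd_surjective w
  induction ω generalizing g with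
  | nil =>
    rw [wordProd_nil] at hg
    have h1 : g ∈ T2 K := hg.mem_of_one
    exact ⟨1, Cfsg.Agent.ChevalleyStructure.G2Mono.hasPerm_of_mem_diagonal (Subgroup.mem_subgroupOf.1 h1), fun s => by
      rw [wordProd_nil, map_one]; rfl⟩
  | cons i ω ih =>
    rw [wordProd_cons] at hg
    have h1 := (rp_simple cs2 (rgd2 (K := K) p).nsys i).inv.mul hg
    rw [inv_mul_cancel_left] at h1
    obtain ⟨π, h2, h3⟩ := ih h1
    obtain ⟨π', h4, h5⟩ := hasPerm_n2 (K := K) i
    refine ⟨π' * π, ?_, fun s => ?_⟩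
    · have h6 := h4.mul h2
      have e : ((n2 K i : GK K) : GL chevG2.Idx K) * (((n2 K i)⁻¹ * g : GK K) : GL chevG2.Idx K) = g := by
        rw [← Subgroup.coe_mul, mul_inv_cancel_left]
      rwa [e] at h6
    · rw [Equiv.Perm.mul_apply, h5, h3, wordProd_cons, rep_mul_apply]

theorem fix_of_x2 {w : CoxeterMatrix.G₂.Group} {g : GK K} (hg : Rp cs2 (rgd2 (K := K) p).nsys w g) (hne : x2 g ≠ 0)
    (x : Fin 2 → ℤ) : rep cs2 hc2 w x 1 = x 1 := by
  obtain ⟨π, h1, h2⟩ := exists_perm hg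
  obtain ⟨c, hc, h3⟩ := h1 11
  have h4 : x2 g = if rv 11 = rv (π 11) then c else 0 := by
    have h5 : x2 g = ((g : GL chevG2.Idx K) : Matrix chevG2.Idx chevG2.Idx K) (rv 11) (rv 11) := by
      unfold x2 l14 e14
      rw [l_apply, a14_apply, e, Matrix.mulVec_single_one]
      rfl
    rw [h5]
    exact h3 (rv 11)
  have h5 : (11 : Fin 12) = π 11 := by
    by_contra h6
    apply hne
    rw [h4, if_neg]
    intro h7
    exact h6 (Sum.inr_injective h7)
  refine coord1_of_fix ?_ x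
  have h6 := h2 11
  rw [← h5] at h6
  have h7 : rt2 11 = ![3, 2] := funext fun i => by rw [rt_tab]; rfl
  rw [h7] at h6
  exact h6.symm

/-- the weights in degree 8 -/
def w8 : Fin 8 → Fin 2 → ℤ := ![![0, 0], ![1, 0], ![1, 1], ![-2, -1], ![-1, 0], ![-1, -1], ![2, 1], ![0, 0]]

theorem exists_w8 {w : CoxeterMatrix.G₂.Group} {g : GK K} (hg : Rp cs2 (rgd2 (K := K) p).nsys w g) {j : Fin 8}
    (hj : j ≠ 0 ∧ j ≠ 7) : ∃ j' : Fin 8, (j' ≠ 0 ∧ j' ≠ 7) ∧ w8 j' = rep cs2 hc2 w (w8 j) ∧ ∃ c : K,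
      a8 K g (Pi.single j 1) = c • Pi.single j' 1 := by
  obtain ⟨ω, rfl⟩ := cs2.wordProd_surjective w
  induction ω generalizing g with
  | nil =>
    rw [wordProd_nil] at hg
    obtain ⟨d, -, h⟩ := T8 (K := K) (t := g) hg.mem_of_one
    refine ⟨j, hj, ?_, d j, ?_⟩
    · rw [wordProd_nil, map_one]; rfl
    · rw [h]
      funext i
      by_cases hi : i = j
      · subst hi; simp
      · simp [Pi.single_eq_of_ne hi]
  | cons i ω ih =>
    rw [wordProd_cons] at hg
    have h1 := (rp_simple cs2 (rgd2 (K := K) p).nsys i).inv.mul hg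
    rw [inv_mul_cancel_left] at h1
    obtain ⟨j', hj', h2, c, h3⟩ := ih h1
    have e : g = n2 K i * ((n2 K i)⁻¹ * g) := by rw [mul_inv_cancel_left]
    have key : ∃ j'' : Fin 8, (j'' ≠ 0 ∧ j'' ≠ 7) ∧ w8 j'' = rep cs2 hc2 (cs2.simple i) (w8 j') ∧ ∃ c : K,
        a8 K (n2 K i) (Pi.single j' 1) = c • Pi.single j'' 1 := by
      clear h2 h3 h1 hg ih e
      fin_cases i
      · change ∃ j'' : Fin 8, (j'' ≠ 0 ∧ j'' ≠ 7) ∧ w8 j'' = rep cs2 hc2 (cs2.simple 0) (w8 j') ∧ ∃ c : K,
          a8 K (n2 K 0) (Pi.single j' 1) = c • Pi.single j'' 1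
        rw [rep0, a8_n0]
        fin_cases j'
        · exact absurd rfl hj'.1
        · exact ⟨4, by decide, by decide, -1, by funext i; (revert i; simp only [_root_.Fin.forall_fin_succ, _root_.Nat.succ_eq_add_one, Nat.reduceAdd, _root_.Fin.mk_one, Fin.isValue, _root_.ne_eq, Fin.reduceEq, _root_.not_false_eq_true, _root_.Pi.single_eq_of_ne, _root_.neg_zero, _root_.Pi.single_eq_same, _root_.zero_ne_one, _root_.Pi.smul_apply, _root_.smul_eq_mul, _root_.neg_mul, _root_.one_mul, _root_.Matrix.cons_val_zero, _root_.Matrix.cons_val_succ, _root_.Fin.succ_zero_eq_one, _root_.Fin.succ_one_eq_two, Fin.reduceSucc, _root_.Matrix.cons_val_fin_one, _root_.zero_eq_neg, _root_.IsEmpty.forall_iff, _root_.and_self])⟩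
        · exact ⟨6, by decide, by decide, -1, by funext i; (revert i; simp only [_root_.Fin.forall_fin_succ, _root_.Nat.succ_eq_add_one, Nat.reduceAdd, Fin.reduceFinMk, Fin.isValue, _root_.ne_eq, Fin.reduceEq, _root_.not_false_eq_true, _root_.Pi.single_eq_of_ne, _root_.neg_zero, _root_.Pi.single_eq_same, _root_.Pi.smul_apply, _root_.smul_eq_mul, _root_.neg_mul, _root_.one_mul, _root_.Matrix.cons_val_zero, _root_.Matrix.cons_val_succ, _root_.Fin.succ_zero_eq_one, _root_.Fin.succ_one_eq_two, Fin.reduceSucc, _root_.Matrix.cons_val_fin_one, _root_.zero_eq_neg, _root_.IsEmpty.forall_iff, _root_.and_self])⟩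
        · exact ⟨5, by decide, by decide, 1, by funext i; (revert i; simp only [_root_.Fin.forall_fin_succ, _root_.Nat.succ_eq_add_one, Nat.reduceAdd, Fin.reduceFinMk, Fin.isValue, _root_.ne_eq, Fin.reduceEq, _root_.not_false_eq_true, _root_.Pi.single_eq_of_ne, _root_.neg_zero, _root_.Pi.single_eq_same, _root_.Pi.smul_apply, _root_.smul_eq_mul, _root_.one_mul, _root_.Matrix.cons_val_zero, _root_.Matrix.cons_val_succ, _root_.Fin.succ_zero_eq_one, _root_.Fin.succ_one_eq_two, Fin.reduceSucc, _root_.Matrix.cons_val_fin_one, _root_.IsEmpty.forall_iff, _root_.and_self])⟩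
        · exact ⟨1, by decide, by decide, -1, by funext i; (revert i; simp only [_root_.Fin.forall_fin_succ, _root_.Nat.succ_eq_add_one, Nat.reduceAdd, Fin.reduceFinMk, Fin.isValue, _root_.ne_eq, Fin.reduceEq, _root_.not_false_eq_true, _root_.Pi.single_eq_of_ne, _root_.Pi.single_eq_same, _root_.neg_zero, _root_.Pi.smul_apply, _root_.smul_eq_mul, _root_.neg_mul, _root_.one_mul, _root_.Matrix.cons_val_zero, _root_.zero_ne_one, _root_.Matrix.cons_val_succ, _root_.Fin.succ_zero_eq_one, _root_.Fin.succ_one_eq_two, Fin.reduceSucc, _root_.Matrix.cons_val_fin_one, _root_.zero_eq_neg, _root_.IsEmpty.forall_iff, _root_.and_self])⟩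
        · exact ⟨3, by decide, by decide, -1, by funext i; (revert i; simp only [_root_.Fin.forall_fin_succ, _root_.Nat.succ_eq_add_one, Nat.reduceAdd, Fin.reduceFinMk, Fin.isValue, _root_.ne_eq, Fin.reduceEq, _root_.not_false_eq_true, _root_.Pi.single_eq_of_ne, _root_.neg_zero, _root_.Pi.single_eq_same, _root_.Pi.smul_apply, _root_.smul_eq_mul, _root_.neg_mul, _root_.one_mul, _root_.Matrix.cons_val_zero, _root_.Matrix.cons_val_succ, _root_.Fin.succ_zero_eq_one, _root_.Fin.succ_one_eq_two, Fin.reduceSucc, _root_.Matrix.cons_val_fin_one, _root_.zero_eq_neg, _root_.IsEmpty.forall_iff, _root_.and_self])⟩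
        · exact ⟨2, by decide, by decide, 1, by funext i; (revert i; simp only [_root_.Fin.forall_fin_succ, _root_.Nat.succ_eq_add_one, Nat.reduceAdd, Fin.reduceFinMk, Fin.isValue, _root_.ne_eq, Fin.reduceEq, _root_.not_false_eq_true, _root_.Pi.single_eq_of_ne, _root_.neg_zero, _root_.Pi.single_eq_same, _root_.Pi.smul_apply, _root_.smul_eq_mul, _root_.one_mul, _root_.Matrix.cons_val_zero, _root_.Matrix.cons_val_succ, _root_.Fin.succ_zero_eq_one, _root_.Fin.succ_one_eq_two, Fin.reduceSucc, _root_.Matrix.cons_val_fin_one, _root_.IsEmpty.forall_iff, _root_.and_self])⟩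
        · exact absurd rfl hj'.2
      · change ∃ j'' : Fin 8, (j'' ≠ 0 ∧ j'' ≠ 7) ∧ w8 j'' = rep cs2 hc2 (cs2.simple 1) (w8 j') ∧ ∃ c : K,
          a8 K (n2 K 1) (Pi.single j' 1) = c • Pi.single j'' 1
        rw [rep1, a8_n1]
        fin_cases j'
        · exact absurd rfl hj'.1
        · exact ⟨2, by decide, by decide, 1, by funext i; (revert i; simp only [_root_.Fin.forall_fin_succ, _root_.Nat.succ_eq_add_one, Nat.reduceAdd, _root_.Fin.mk_one, Fin.isValue, _root_.ne_eq, _root_.zero_ne_one, _root_.not_false_eq_true, _root_.Pi.single_eq_of_ne, Fin.reduceEq, _root_.neg_zero, _root_.Pi.single_eq_same, _root_.Pi.smul_apply, _root_.smul_eq_mul, _root_.one_mul, _root_.Matrix.cons_val_zero, _root_.Matrix.cons_val_succ, _root_.Fin.succ_zero_eq_one, _root_.Fin.succ_one_eq_two, Fin.reduceSucc, _root_.Matrix.cons_val_fin_one, _root_.IsEmpty.forall_iff, _root_.and_self])⟩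
        · exact ⟨1, by decide, by decide, -1, by funext i; (revert i; simp only [_root_.Fin.forall_fin_succ, _root_.Nat.succ_eq_add_one, Nat.reduceAdd, Fin.reduceFinMk, Fin.isValue, _root_.ne_eq, Fin.reduceEq, _root_.not_false_eq_true, _root_.Pi.single_eq_of_ne, _root_.Pi.single_eq_same, _root_.neg_zero, _root_.Pi.smul_apply, _root_.smul_eq_mul, _root_.neg_mul, _root_.one_mul, _root_.Matrix.cons_val_zero, _root_.zero_ne_one, _root_.Matrix.cons_val_succ, _root_.Fin.succ_zero_eq_one, _root_.Fin.succ_one_eq_two, Fin.reduceSucc, _root_.Matrix.cons_val_fin_one, _root_.zero_eq_neg, _root_.IsEmpty.forall_iff, _root_.and_self])⟩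
        · exact ⟨3, by decide, by decide, 1, by funext i; (revert i; simp only [_root_.Fin.forall_fin_succ, _root_.Nat.succ_eq_add_one, Nat.reduceAdd, Fin.reduceFinMk, Fin.isValue, _root_.ne_eq, Fin.reduceEq, _root_.not_false_eq_true, _root_.Pi.single_eq_of_ne, _root_.neg_zero, _root_.Pi.single_eq_same, _root_.Pi.smul_apply, _root_.smul_eq_mul, _root_.one_mul, _root_.Matrix.cons_val_zero, _root_.Matrix.cons_val_succ, _root_.Fin.succ_zero_eq_one, _root_.Fin.succ_one_eq_two, Fin.reduceSucc, _root_.Matrix.cons_val_fin_one, _root_.IsEmpty.forall_iff, _root_.and_self])⟩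
        · exact ⟨5, by decide, by decide, 1, by funext i; (revert i; simp only [_root_.Fin.forall_fin_succ, _root_.Nat.succ_eq_add_one, Nat.reduceAdd, Fin.reduceFinMk, Fin.isValue, _root_.ne_eq, Fin.reduceEq, _root_.not_false_eq_true, _root_.Pi.single_eq_of_ne, _root_.neg_zero, _root_.Pi.single_eq_same, _root_.Pi.smul_apply, _root_.smul_eq_mul, _root_.one_mul, _root_.Matrix.cons_val_zero, _root_.Matrix.cons_val_succ, _root_.Fin.succ_zero_eq_one, _root_.Fin.succ_one_eq_two, Fin.reduceSucc, _root_.Matrix.cons_val_fin_one, _root_.IsEmpty.forall_iff, _root_.and_self])⟩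
        · exact ⟨4, by decide, by decide, -1, by funext i; (revert i; simp only [_root_.Fin.forall_fin_succ, _root_.Nat.succ_eq_add_one, Nat.reduceAdd, Fin.reduceFinMk, Fin.isValue, _root_.ne_eq, Fin.reduceEq, _root_.not_false_eq_true, _root_.Pi.single_eq_of_ne, _root_.neg_zero, _root_.Pi.single_eq_same, _root_.Pi.smul_apply, _root_.smul_eq_mul, _root_.neg_mul, _root_.one_mul, _root_.Matrix.cons_val_zero, _root_.Matrix.cons_val_succ, _root_.Fin.succ_zero_eq_one, _root_.Fin.succ_one_eq_two, Fin.reduceSucc, _root_.Matrix.cons_val_fin_one, _root_.zero_eq_neg, _root_.IsEmpty.forall_iff, _root_.and_self])⟩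
        · exact ⟨6, by decide, by decide, 1, by funext i; (revert i; simp only [_root_.Fin.forall_fin_succ, _root_.Nat.succ_eq_add_one, Nat.reduceAdd, Fin.reduceFinMk, Fin.isValue, _root_.ne_eq, Fin.reduceEq, _root_.not_false_eq_true, _root_.Pi.single_eq_of_ne, _root_.neg_zero, _root_.Pi.single_eq_same, _root_.Pi.smul_apply, _root_.smul_eq_mul, _root_.one_mul, _root_.Matrix.cons_val_zero, _root_.Matrix.cons_val_succ, _root_.Fin.succ_zero_eq_one, _root_.Fin.succ_one_eq_two, Fin.reduceSucc, _root_.Matrix.cons_val_fin_one, _root_.IsEmpty.forall_iff, _root_.and_self])⟩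
        · exact absurd rfl hj'.2
    obtain ⟨j'', hj'', h4, c', h5⟩ := key
    refine ⟨j'', hj'', ?_, c * c', ?_⟩
    · rw [wordProd_cons, rep_mul_apply, ← h2, h4]
    · rw [e, a8_mul, h3, map_smul, h5, smul_smul]

theorem fix_of_x1 {w : CoxeterMatrix.G₂.Group} {g : GK K} (hg : Rp cs2 (rgd2 (K := K) p).nsys w g) (hne : x1 g ≠ 0)
    (x : Fin 2 → ℤ) : rep cs2 hc2 w x 0 = x 0 := by
  obtain ⟨j', hj', h1, c, h2⟩ := exists_w8 hg (j := 6) (by decide)
  have h3 : j' = 6 := by
    by_contra h4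
    apply hne
    unfold x1 e8 l8
    rw [h2, map_smul, LinearMap.proj_apply, Pi.single_eq_of_ne (Ne.symm h4), smul_zero]
  subst h3
  exact coord0_of_fix h1.symm x

end fin

end Cfsg.Agent.H927.G2
end

-- part: H927/G2Co3
section
/-!
# The coefficient of a simple module of `G₂(K)` (helper927)

`exists_coef` : `φ (ρ g v) = Fa (x1 g) * Fb (x2 g)`.
-/

set_option autoImplicit false
set_option linter.unusedSectionVars false
set_option linter.style.haveILetI false

namespace Cfsg.Agent.H927.G2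

open Cfsg.Lie Matrix Cfsg.Agent.H638.G2Rep Cfsg.Agent.H638.G2Mem
open Cfsg.Agent.H638
open CoxeterSystem Cfsg.Agent.ChevalleyStructure.CoxeterGeom Cfsg.Agent.Tits.Roots Cfsg.Agent.Tits.Core
  Cfsg.Agent.Tits.Exchange Cfsg.Agent.Nodes.Reps Cfsg.Agent.Nodes.BNOf Cfsg.Agent.Nodes.StabComb
  Cfsg.Agent.Nodes.Bruhat Cfsg.Agent.Nodes.OppDec Cfsg.Agent.Nodes.LeviDec Cfsg.Agent.KFacts.RgdOpp
  Cfsg.Agent.Omega.CR Cfsg.Agent.Omega.FOne.Lift.Sd Cfsg.Agent.Nodes.RGDLib
open Cfsg.Agent.H905.Md Cfsg.Agent.H64.CrossChev Cfsg.Agent.Nodes.RGDChev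
open Module

variable {K : Type} [Field K]

theorem T2_comm : ∀ s ∈ T2 K, ∀ t ∈ T2 K, s * t = t * s := by
  intro s hs t htt
  obtain ⟨χ, h1⟩ := Cfsg.Agent.ChevalleyStructure.HMatDiagAll.mem_torus.1
    (Cfsg.Agent.ChevalleyStructure.HMatDiagAll.diagonalSubgroup_le_torus ht.inList (Subgroup.mem_subgroupOf.1 hs))
  obtain ⟨ψ, h2⟩ := Cfsg.Agent.ChevalleyStructure.HMatDiagAll.mem_torus.1
    (Cfsg.Agent.ChevalleyStructure.HMatDiagAll.diagonalSubgroup_le_torus ht.inList (Subgroup.mem_subgroupOf.1 htt))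
  apply Subtype.ext
  apply Units.ext
  rw [Subgroup.coe_mul, Subgroup.coe_mul, Units.val_mul, Units.val_mul, h1, h2, Matrix.diagonal_mul_diagonal,
    Matrix.diagonal_mul_diagonal]
  congr 1
  funext i
  exact mul_comm _ _

theorem hS_mul {a b : K} (ha : a ≠ 0) (hb : b ≠ 0) : Cfsg.Agent.Nodes.RGDFoldSL.hS (a * b) =
    Cfsg.Agent.Nodes.RGDFoldSL.hS a * Cfsg.Agent.Nodes.RGDFoldSL.hS b := by
  apply Subtype.ext
  rw [Matrix.SpecialLinearGroup.coe_mul, Cfsg.Agent.Nodes.RGDFoldSL.coe_hS ha, Cfsg.Agent.Nodes.RGDFoldSL.coe_hS hb,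
    Cfsg.Agent.Nodes.RGDFoldSL.coe_hS (mul_ne_zero ha hb)]
  ext i j
  (revert i j; simp only [Matrix.mul_apply, Fin.sum_univ_two, mul_comm, _root_.Fin.forall_fin_succ, _root_.mul_inv_rev, _root_.Matrix.of_apply, _root_.Matrix.cons_val', _root_.Matrix.cons_val_fin_one, Fin.isValue, _root_.Matrix.cons_val_zero, _root_.Matrix.cons_val_one, _root_.MulZeroClass.zero_mul, _root_.add_zero, _root_.Matrix.cons_val_succ, _root_.zero_add, _root_.forall_const, _root_.MulZeroClass.mul_zero, _root_.and_self, _root_.implies_true])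

theorem hh_mul (i : Fin 2) {a b : K} (ha : a ≠ 0) (hb : b ≠ 0) : hh K i (a * b) = hh K i a * hh K i b := by
  unfold hh
  rw [hS_mul ha hb, map_mul]

theorem hh_mem (i : Fin 2) {c : K} (hc : c ≠ 0) : hh K i c ∈ T2 K :=
  (nd ht Cfsg.Agent.KFacts.MulOdd.InstChev.parity_G2 K i).dia c hc

theorem hh_mem' [Finite K] {p : ℕ} [Fact p.Prime] [CharP K p] (i : Fin 2) (c : K) :
    hh K i c ∈ X2 K (sr i) ⊔ X2 K (-sr i) := by
  rw [← (nd ht Cfsg.Agent.KFacts.MulOdd.InstChev.parity_G2 K i).range (rgd2 (K := K) p)]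
  exact ⟨_, rfl⟩

theorem mem_X2 {r : ℕ} (hr : r < 12) {u : GK K} : u ∈ X2 K (_root_.Cfsg.Agent.Nodes.RGDChev.vec chevG2 2 r) ↔ ∃ t, u = xg r t := by
  rw [Subgroup.mem_subgroupOf, XV_vec ht K hr, Cfsg.Agent.ChevalleyStructure.Elts.mem_rootSubgroup_iff ht.inList]
  constructor
  · rintro ⟨t, h⟩
    exact ⟨t, Subtype.ext h⟩
  · rintro ⟨t, rfl⟩
    exact ⟨t, rfl⟩

theorem pos_tab : ∀ s : Fin 12, (0 ≤ rt2 s 0 ∧ 0 ≤ rt2 s 1) → 6 ≤ s.val := by decide +kernel

theorem exists_of_pos {x : Fin 2 → ℤ} (hx : RGD.Pos cs2 hc2 x) : ∃ r, 6 ≤ r ∧ r < 12 ∧ _root_.Cfsg.Agent.Nodes.RGDChev.vec chevG2 2 r = x ∧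
    _root_.Cfsg.Agent.Nodes.RGDChev.vec chevG2 2 (11 - r) = -x := by
  obtain ⟨r, hr, e⟩ := (isRoot_iff ht cs2 x).1 hx.1
  have hr' : r < 12 := hr
  refine ⟨r, ?_, hr', e, ?_⟩
  · refine pos_tab ⟨r, hr'⟩ ⟨?_, ?_⟩
    · change 0 ≤ _root_.Cfsg.Agent.Nodes.RGDChev.vec chevG2 2 r 0
      rw [e]; exact hx.2 0
    · change 0 ≤ _root_.Cfsg.Agent.Nodes.RGDChev.vec chevG2 2 r 1
      rw [e]; exact hx.2 1
  · rw [← e, ← _root_.Cfsg.Agent.Nodes.RGDChev.vec_neg ht hr, neg_lt hr']

section coef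

variable [Finite K] {p : ℕ} [hp : Fact p.Prime] [CharP K p]
  {k V : Type*} [Field k] [IsAlgClosed k] [CharP k p] [AddCommGroup V] [Module k V] [FiniteDimensional k V] [Nontrivial V]
  {ρ : GK K →* Module.End k V}
  (hirr : ∀ L : Submodule k V, Ivt ρ (GG cs2 hc2 (T2 K) (X2 K)) L → L = ⊥ ∨ L = ⊤)

include hirr in
/-- **The coefficient.** -/
theorem exists_coef (p : ℕ) [hp : Fact p.Prime] [CharP K p] [CharP k p] :
    ∃ v ∈ D cs2 hc2 (X2 K) ρ, ∃ φ ∈ fx ((dualRep ρ :)) (UN cs2 hc2 (X2 K)), φ v = 1 ∧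
    ∃ F : Fin 2 → K →* k, (∀ i, i ∈ Jx cs2 hc2 (X2 K) ρ → F i = 1) ∧ (∀ i, i ∉ Jx cs2 hc2 (X2 K) ρ → F i 0 = 0) ∧
      (∀ g, φ (ρ g v) = F 0 (x1 g) * F 1 (x2 g)) ∧ ∀ t ∈ T2 K, ρ t v = φ (ρ t v) • v := by
  classical
  have R := rgd2 (K := K) p
  obtain ⟨v, hv, hv0, χ, hχ⟩ := exists_chi R hirr T2_comm
  obtain ⟨φ, hφ, hφ0⟩ := exists_pair_D R hirr hv hv0
  have h4 : ((φ v)⁻¹ • φ) v = 1 := by rw [LinearMap.smul_apply, smul_eq_mul, inv_mul_cancel₀ hφ0]
  have hval : ∀ {a b : k}, a • v = b • v → a = b := fun {a b} h => smul_left_injective k hv0 h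
  have hχm : ∀ s ∈ T2 K, ∀ t ∈ T2 K, χ (s * t) = χ s * χ t := by
    intro s hs t htt
    apply hval
    rw [← hχ _ (mul_mem hs htt), rho_mul, hχ t htt, map_smul, hχ s hs, smul_smul, mul_comm]
  have hχ1 : χ 1 = 1 := by
    apply hval
    rw [← hχ _ (one_mem _), map_one, one_smul]; rfl
  -- elements of the rank one groups of `J` fix `v`
  have hJfix : ∀ i ∈ Jx cs2 hc2 (X2 K) ρ, ∀ g ∈ X2 K (sr i) ⊔ X2 K (-sr i), ρ g v = v := by
    intro i hi g hg
    have h5 : X2 K (sr i) ⊔ X2 K (-sr i) ≤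
        { carrier := {g | ρ g v = v}
          mul_mem' := fun {a b} ha hb => by
            change ρ (a * b) v = v
            rw [rho_mul, hb, ha]
          one_mem' := by change ρ 1 v = v; rw [map_one]; rfl
          inv_mem' := fun {a} ha => by
            change ρ a⁻¹ v = v
            have ha' : ρ a v = v := ha
            conv_lhs => rw [← ha']
            rw [← rho_mul, inv_mul_cancel, map_one]; rfl : Subgroup (GK K)} := by
      refine sup_le (fun g hg => ?_) (fun g hg => ?_)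
      · have h0 : sr i ∈ RGD.Pos cs2 hc2 := ⟨isRoot_sr cs2 hc2 i, by
          intro j
          by_cases hj : j = i
          · subst hj; rw [sr_self]; norm_num
          · rw [sr_ne hj]; exact le_refl _⟩
        exact hv g ((show X2 K (sr i) ≤ RGD.Sup (X2 K) (RGD.Pos cs2 hc2) from RGD.le_Sup h0) hg)
      · exact hi g hg v hv
    exact h5 hg
  let F : Fin 2 → K →* k := fun i => if hi : i ∈ Jx cs2 hc2 (X2 K) ρ then 1 else
    { toFun := fun c => if c = 0 then 0 else χ (hh K i c)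
      map_one' := by
        rw [if_neg one_ne_zero]
        have h5 : hh K i (1 : K) = 1 := by
          have h6 := hh_mul i (one_ne_zero (α := K)) one_ne_zero
          rw [mul_one] at h6
          exact (mul_eq_left.1 h6.symm)
        rw [h5, hχ1]
      map_mul' := fun a b => by
        by_cases ha : a = 0
        · rw [if_pos ha, ha, zero_mul, if_pos rfl, zero_mul]
        · by_cases hb : b = 0
          · rw [if_pos hb, hb, mul_zero, if_pos rfl, mul_zero]
          · rw [if_neg ha, if_neg hb, if_neg (mul_ne_zero ha hb), hh_mul i ha hb,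
              hχm _ (hh_mem i ha) _ (hh_mem i hb)] }
  have hF1 : ∀ i, i ∈ Jx cs2 hc2 (X2 K) ρ → F i = 1 := fun i hi => by simp only [F]; rw [dif_pos hi]
  have hF0 : ∀ i, i ∉ Jx cs2 hc2 (X2 K) ρ → ∀ c, F i c = if c = 0 then 0 else χ (hh K i c) := fun i hi c => by
    simp only [F]; rw [dif_neg hi]; rfl
  have hF : ∀ i, ∀ c, c ≠ 0 → F i c = χ (hh K i c) := by
    intro i c hc
    by_cases hi : i ∈ Jx cs2 hc2 (X2 K) ρ
    · rw [hF1 i hi]
      apply hval
      rw [← hχ _ (hh_mem i hc), hJfix i hi _ (hh_mem' (p := p) i c), MonoidHom.one_apply, one_smul]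
    · rw [hF0 i hi, if_neg hc]
  let Ξ : GK K → k := fun g => F 0 (x1 g) * F 1 (x2 g)
  have hTl : ∀ t ∈ T2 K, ∀ g, Ξ (t * g) = Ξ t * Ξ g := by
    intro t htt g
    simp only [Ξ]
    rw [x1_T_mul htt, x2_T_mul htt, map_mul, map_mul]
    ring
  have hTr : ∀ t ∈ T2 K, ∀ g, Ξ (g * t) = Ξ g * Ξ t := by
    intro t htt g
    simp only [Ξ]
    rw [x1_mul_T htt, x2_mul_T htt, map_mul, map_mul]
    ring
  have hΞ1 : Ξ 1 = 1 := by
    simp only [Ξ]
    rw [x1_one, x2_one, map_one, map_one, one_mul]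
  have hχ' : ∀ t ∈ T2 K, ρ t v = Ξ t • v := by
    intro t htt
    refine (T_induction (P := fun t => t ∈ T2 K ∧ ρ t v = Ξ t • v) ⟨one_mem _, ?_⟩ ?_ ?_ htt).2
    · rw [hΞ1, one_smul, map_one]; rfl
    · rintro a b ⟨ha, ha'⟩ ⟨hb, hb'⟩
      refine ⟨mul_mem ha hb, ?_⟩
      rw [rho_mul, hb', map_smul, ha', smul_smul, hTl a ha, mul_comm]
    · intro i c hc
      refine ⟨hh_mem i hc, ?_⟩
      rw [hχ _ (hh_mem i hc), ← hF i c hc]
      congr 1
      simp only [Ξ]
      rw [x1_hh i hc, x2_hh i hc]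
      fin_cases i
      · simp
      · simp
  refine ⟨v, hv, (φ v)⁻¹ • φ, Submodule.smul_mem _ _ hφ, h4, F, hF1, fun i hi => by rw [hF0 i hi, if_pos rfl], ?_,
    fun t htt => by
      have h5 := hχ' t htt
      have h6 : ((φ v)⁻¹ • φ) (ρ t v) = Ξ t := by rw [h5, map_smul, h4, smul_eq_mul, mul_one]
      rw [h6]
      exact h5⟩
  refine Cfsg.Agent.H927.LD.master R hirr T2_comm gen2 hΞ1 ?_ ?_ hTl hTr ?_ hv ?_ ?_ hχ' (Submodule.smul_mem _ _ hφ) h4
  · intro x hx u hu g
    obtain ⟨r, h6, hr, e, -⟩ := exists_of_pos hx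
    rw [← e] at hu
    obtain ⟨t, rfl⟩ := (mem_X2 hr).1 hu
    simp only [Ξ]
    rw [x1_mul_pos hr h6, x2_mul_pos hr h6]
  · intro x hx u hu g
    obtain ⟨r, h6, hr, -, e⟩ := exists_of_pos hx
    rw [← e] at hu
    obtain ⟨t, rfl⟩ := (mem_X2 (show 11 - r < 12 by omega)).1 hu
    simp only [Ξ]
    rw [x1_neg_mul (by omega), x2_neg_mul (by omega)]
  · intro i hi g
    simp only [Ξ]
    fin_cases i
    · have h5 : F 0 = 1 := hF1 0 hi
      change F 0 (x1 (n2 K 0 * g)) * F 1 (x2 (n2 K 0 * g)) = _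
      rw [h5, x2_n0_mul]
      rfl
    · have h5 : F 1 = 1 := hF1 1 hi
      change F 0 (x1 (n2 K 1 * g)) * F 1 (x2 (n2 K 1 * g)) = _
      rw [h5, x1_n1_mul]
      rfl
  · intro i hi
    refine hJfix i hi _ ?_
    rw [← (nd ht Cfsg.Agent.KFacts.MulOdd.InstChev.parity_G2 K i).range R]
    exact ⟨_, (nd ht Cfsg.Agent.KFacts.MulOdd.InstChev.parity_G2 K i).w⟩
  · intro w g hg hne
    rw [mem_WJ_iff (h := hc2)]
    intro x i hi
    simp only [Ξ] at hne
    have h5 := left_ne_zero_of_mul hne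
    have h6 := right_ne_zero_of_mul hne
    fin_cases i
    · refine fix_of_x1 hg ?_ x
      intro h7
      rw [h7] at h5
      exact h5 (by rw [hF0 0 hi, if_pos rfl])
    · refine fix_of_x2 hg ?_ x
      intro h7
      rw [h7] at h6
      exact h6 (by rw [hF0 1 hi, if_pos rfl])

end coef

end Cfsg.Agent.H927.G2
end

-- part: H927/G2Tab
section
/-!
# Rows and columns of `x_r(t)` in the adjoint representation of `G₂` (helper927)
-/

set_option autoImplicit false
set_option linter.unusedSectionVars false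
set_option linter.style.haveILetI false
set_option linter.unusedVariables false
set_option linter.unusedSimpArgs false

namespace Cfsg.Agent.H927.G2

open Cfsg.Lie

variable {K : Type} [Field K]

theorem C_0_1 (t : K) : a14 K (xg 0 t) (e (rv 1)) = e (rv 1) := by
  have h : a14 K (xg 0 t) (e (rv 1)) = _ := a14_e (K := K) 0 (rv 1) t
  rw [show col 0 (rv 1) = [((rv 1), 0, 1)] by decide +kernel] at h
  simpa only [add_assoc, _root_.Fin.isValue, _root_.List.map_cons, _root_.Int.cast_one, _root_.pow_zero, _root_.mul_one, _root_.one_smul, _root_.List.map_nil, _root_.List.sum_cons, _root_.List.sum_nil, _root_.add_zero] using h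

theorem C_0_6 (t : K) : a14 K (xg 0 t) (e (rv 6)) = (t) • e (rv 1) + e (rv 6) := by
  have h : a14 K (xg 0 t) (e (rv 6)) = _ := a14_e (K := K) 0 (rv 6) t
  rw [show col 0 (rv 6) = [((rv 1), 1, 1), ((rv 6), 0, 1)] by decide +kernel] at h
  simpa only [add_assoc, _root_.Fin.isValue, _root_.List.map_cons, _root_.Int.cast_one, _root_.pow_one, _root_.one_mul, _root_.pow_zero, _root_.mul_one, _root_.one_smul, _root_.List.map_nil, _root_.List.sum_cons, _root_.List.sum_nil, _root_.add_zero] using h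

theorem C_0_10 (t : K) : a14 K (xg 0 t) (e (rv 10)) = (-t) • e (rv 5) + e (rv 10) := by
  have h : a14 K (xg 0 t) (e (rv 10)) = _ := a14_e (K := K) 0 (rv 10) t
  rw [show col 0 (rv 10) = [((rv 5), 1, -1), ((rv 10), 0, 1)] by decide +kernel] at h
  simpa only [add_assoc, _root_.Fin.isValue, _root_.neg_smul, _root_.Int.reduceNeg, _root_.List.map_cons, _root_.Int.cast_neg, _root_.Int.cast_one, _root_.pow_one, _root_.neg_mul, _root_.one_mul, _root_.pow_zero, _root_.mul_one, _root_.one_smul, _root_.List.map_nil, _root_.List.sum_cons, _root_.List.sum_nil, _root_.add_zero] using h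

theorem C_1_5 (t : K) : a14 K (xg 1 t) (e (rv 5)) = (t) • e (rv 0) + e (rv 5) := by
  have h : a14 K (xg 1 t) (e (rv 5)) = _ := a14_e (K := K) 1 (rv 5) t
  rw [show col 1 (rv 5) = [((rv 0), 1, 1), ((rv 5), 0, 1)] by decide +kernel] at h
  simpa only [add_assoc, _root_.Fin.isValue, _root_.List.map_cons, _root_.Int.cast_one, _root_.pow_one, _root_.one_mul, _root_.pow_zero, _root_.mul_one, _root_.one_smul, _root_.List.map_nil, _root_.List.sum_cons, _root_.List.sum_nil, _root_.add_zero] using h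

theorem C_2_10 (t : K) : a14 K (xg 2 t) (e (rv 10)) = (t ^ 3) • e (rv 0) + (t ^ 2) • e (rv 3) + (-t) • e (rv 7) + e (rv 10) := by
  have h : a14 K (xg 2 t) (e (rv 10)) = _ := a14_e (K := K) 2 (rv 10) t
  rw [show col 2 (rv 10) = [((rv 0), 3, 1), ((rv 3), 2, 1), ((rv 7), 1, -1), ((rv 10), 0, 1)] by decide +kernel] at h
  simpa only [add_assoc, _root_.Fin.isValue, _root_.neg_smul, _root_.Int.reduceNeg, _root_.List.map_cons, _root_.Int.cast_one, _root_.one_mul, _root_.Int.cast_neg, _root_.pow_one, _root_.neg_mul, _root_.pow_zero, _root_.mul_one, _root_.one_smul, _root_.List.map_nil, _root_.List.sum_cons, _root_.List.sum_nil, _root_.add_zero] using h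

theorem C_2_11 (t : K) : a14 K (xg 2 t) (e (rv 11)) = (-t ^ 3) • e (rv 1) + (-t ^ 2) • e (rv 4) + (-t) • e (rv 8) + e (rv 11) := by
  have h : a14 K (xg 2 t) (e (rv 11)) = _ := a14_e (K := K) 2 (rv 11) t
  rw [show col 2 (rv 11) = [((rv 1), 3, -1), ((rv 4), 2, -1), ((rv 8), 1, -1), ((rv 11), 0, 1)] by decide +kernel] at h
  simpa only [add_assoc, _root_.Fin.isValue, _root_.neg_smul, _root_.Int.reduceNeg, _root_.List.map_cons, _root_.Int.cast_neg, _root_.Int.cast_one, _root_.neg_mul, _root_.one_mul, _root_.pow_one, _root_.pow_zero, _root_.mul_one, _root_.one_smul, _root_.List.map_nil, _root_.List.sum_cons, _root_.List.sum_nil, _root_.add_zero] using h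

theorem C_3_6 (t : K) : a14 K (xg 3 t) (e (rv 6)) = (t ^ 3) • e (rv 0) + (-t ^ 2) • e (rv 2) + (t) • e (rv 4) + e (rv 6) := by
  have h : a14 K (xg 3 t) (e (rv 6)) = _ := a14_e (K := K) 3 (rv 6) t
  rw [show col 3 (rv 6) = [((rv 0), 3, 1), ((rv 2), 2, -1), ((rv 4), 1, 1), ((rv 6), 0, 1)] by decide +kernel] at h
  simpa only [add_assoc, _root_.Fin.isValue, _root_.neg_smul, _root_.Int.reduceNeg, _root_.List.map_cons, _root_.Int.cast_one, _root_.one_mul, _root_.Int.cast_neg, _root_.neg_mul, _root_.pow_one, _root_.pow_zero, _root_.mul_one, _root_.one_smul, _root_.List.map_nil, _root_.List.sum_cons, _root_.List.sum_nil, _root_.add_zero] using h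

theorem C_3_11 (t : K) : a14 K (xg 3 t) (e (rv 11)) = (-t ^ 3) • e (rv 5) + (t ^ 2) • e (rv 7) + (t) • e (rv 9) + e (rv 11) := by
  have h : a14 K (xg 3 t) (e (rv 11)) = _ := a14_e (K := K) 3 (rv 11) t
  rw [show col 3 (rv 11) = [((rv 5), 3, -1), ((rv 7), 2, 1), ((rv 9), 1, 1), ((rv 11), 0, 1)] by decide +kernel] at h
  simpa only [add_assoc, _root_.Fin.isValue, _root_.neg_smul, _root_.Int.reduceNeg, _root_.List.map_cons, _root_.Int.cast_neg, _root_.Int.cast_one, _root_.neg_mul, _root_.one_mul, _root_.pow_one, _root_.pow_zero, _root_.mul_one, _root_.one_smul, _root_.List.map_nil, _root_.List.sum_cons, _root_.List.sum_nil, _root_.add_zero] using h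

theorem C_5_0 (t : K) : a14 K (xg 5 t) (e (rv 0)) = e (rv 0) := by
  have h : a14 K (xg 5 t) (e (rv 0)) = _ := a14_e (K := K) 5 (rv 0) t
  rw [show col 5 (rv 0) = [((rv 0), 0, 1)] by decide +kernel] at h
  simpa only [add_assoc, _root_.Fin.isValue, _root_.List.map_cons, _root_.Int.cast_one, _root_.pow_zero, _root_.mul_one, _root_.one_smul, _root_.List.map_nil, _root_.List.sum_cons, _root_.List.sum_nil, _root_.add_zero] using h

theorem C_5_1 (t : K) : a14 K (xg 5 t) (e (rv 1)) = (-t) • e (rv 0) + e (rv 1) := by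
  have h : a14 K (xg 5 t) (e (rv 1)) = _ := a14_e (K := K) 5 (rv 1) t
  rw [show col 5 (rv 1) = [((rv 0), 1, -1), ((rv 1), 0, 1)] by decide +kernel] at h
  simpa only [add_assoc, _root_.Fin.isValue, _root_.neg_smul, _root_.Int.reduceNeg, _root_.List.map_cons, _root_.Int.cast_neg, _root_.Int.cast_one, _root_.pow_one, _root_.neg_mul, _root_.one_mul, _root_.pow_zero, _root_.mul_one, _root_.one_smul, _root_.List.map_nil, _root_.List.sum_cons, _root_.List.sum_nil, _root_.add_zero] using h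

theorem C_5_6 (t : K) : a14 K (xg 5 t) (e (rv 6)) = (-t) • e (hv 1) + (-t ^ 2) • e (rv 5) + e (rv 6) := by
  have h : a14 K (xg 5 t) (e (rv 6)) = _ := a14_e (K := K) 5 (rv 6) t
  rw [show col 5 (rv 6) = [((hv 1), 1, -1), ((rv 5), 2, -1), ((rv 6), 0, 1)] by decide +kernel] at h
  simpa only [add_assoc, _root_.Fin.isValue, _root_.neg_smul, _root_.Int.reduceNeg, _root_.List.map_cons, _root_.Int.cast_neg, _root_.Int.cast_one, _root_.pow_one, _root_.neg_mul, _root_.one_mul, _root_.pow_zero, _root_.mul_one, _root_.one_smul, _root_.List.map_nil, _root_.List.sum_cons, _root_.List.sum_nil, _root_.add_zero] using h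

theorem C_5_11 (t : K) : a14 K (xg 5 t) (e (rv 11)) = (t) • e (rv 10) + e (rv 11) := by
  have h : a14 K (xg 5 t) (e (rv 11)) = _ := a14_e (K := K) 5 (rv 11) t
  rw [show col 5 (rv 11) = [((rv 10), 1, 1), ((rv 11), 0, 1)] by decide +kernel] at h
  simpa only [add_assoc, _root_.Fin.isValue, _root_.List.map_cons, _root_.Int.cast_one, _root_.pow_one, _root_.one_mul, _root_.pow_zero, _root_.mul_one, _root_.one_smul, _root_.List.map_nil, _root_.List.sum_cons, _root_.List.sum_nil, _root_.add_zero] using h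

theorem C_6_0 (t : K) : a14 K (xg 6 t) (e (rv 0)) = e (rv 0) + (-t) • e (rv 1) := by
  have h : a14 K (xg 6 t) (e (rv 0)) = _ := a14_e (K := K) 6 (rv 0) t
  rw [show col 6 (rv 0) = [((rv 0), 0, 1), ((rv 1), 1, -1)] by decide +kernel] at h
  simpa only [add_assoc, _root_.Fin.isValue, _root_.neg_smul, _root_.Int.reduceNeg, _root_.List.map_cons, _root_.Int.cast_one, _root_.pow_zero, _root_.mul_one, _root_.one_smul, _root_.Int.cast_neg, _root_.pow_one, _root_.neg_mul, _root_.one_mul, _root_.List.map_nil, _root_.List.sum_cons, _root_.List.sum_nil, _root_.add_zero] using h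

theorem C_6_10 (t : K) : a14 K (xg 6 t) (e (rv 10)) = e (rv 10) + (t) • e (rv 11) := by
  have h : a14 K (xg 6 t) (e (rv 10)) = _ := a14_e (K := K) 6 (rv 10) t
  rw [show col 6 (rv 10) = [((rv 10), 0, 1), ((rv 11), 1, 1)] by decide +kernel] at h
  simpa only [add_assoc, _root_.Fin.isValue, _root_.List.map_cons, _root_.Int.cast_one, _root_.pow_zero, _root_.mul_one, _root_.one_smul, _root_.pow_one, _root_.one_mul, _root_.List.map_nil, _root_.List.sum_cons, _root_.List.sum_nil, _root_.add_zero] using h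

theorem C_6_11 (t : K) : a14 K (xg 6 t) (e (rv 11)) = e (rv 11) := by
  have h : a14 K (xg 6 t) (e (rv 11)) = _ := a14_e (K := K) 6 (rv 11) t
  rw [show col 6 (rv 11) = [((rv 11), 0, 1)] by decide +kernel] at h
  simpa only [add_assoc, _root_.Fin.isValue, _root_.List.map_cons, _root_.Int.cast_one, _root_.pow_zero, _root_.mul_one, _root_.one_smul, _root_.List.map_nil, _root_.List.sum_cons, _root_.List.sum_nil, _root_.add_zero] using h

theorem C_10_0 (t : K) : a14 K (xg 10 t) (e (rv 0)) = e (rv 0) + (t) • e (rv 5) := by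
  have h : a14 K (xg 10 t) (e (rv 0)) = _ := a14_e (K := K) 10 (rv 0) t
  rw [show col 10 (rv 0) = [((rv 0), 0, 1), ((rv 5), 1, 1)] by decide +kernel] at h
  simpa only [add_assoc, _root_.Fin.isValue, _root_.List.map_cons, _root_.Int.cast_one, _root_.pow_zero, _root_.mul_one, _root_.one_smul, _root_.pow_one, _root_.one_mul, _root_.List.map_nil, _root_.List.sum_cons, _root_.List.sum_nil, _root_.add_zero] using h

theorem C_10_5 (t : K) : a14 K (xg 10 t) (e (rv 5)) = e (rv 5) := by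
  have h : a14 K (xg 10 t) (e (rv 5)) = _ := a14_e (K := K) 10 (rv 5) t
  rw [show col 10 (rv 5) = [((rv 5), 0, 1)] by decide +kernel] at h
  simpa only [add_assoc, _root_.Fin.isValue, _root_.List.map_cons, _root_.Int.cast_one, _root_.pow_zero, _root_.mul_one, _root_.one_smul, _root_.List.map_nil, _root_.List.sum_cons, _root_.List.sum_nil, _root_.add_zero] using h

theorem C_10_6 (t : K) : a14 K (xg 10 t) (e (rv 6)) = e (rv 6) + (-t) • e (rv 11) := by
  have h : a14 K (xg 10 t) (e (rv 6)) = _ := a14_e (K := K) 10 (rv 6) t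
  rw [show col 10 (rv 6) = [((rv 6), 0, 1), ((rv 11), 1, -1)] by decide +kernel] at h
  simpa only [add_assoc, _root_.Fin.isValue, _root_.neg_smul, _root_.Int.reduceNeg, _root_.List.map_cons, _root_.Int.cast_one, _root_.pow_zero, _root_.mul_one, _root_.one_smul, _root_.Int.cast_neg, _root_.pow_one, _root_.neg_mul, _root_.one_mul, _root_.List.map_nil, _root_.List.sum_cons, _root_.List.sum_nil, _root_.add_zero] using h

theorem C_11_1 (t : K) : a14 K (xg 11 t) (e (rv 1)) = e (rv 1) + (t) • e (rv 6) := by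
  have h : a14 K (xg 11 t) (e (rv 1)) = _ := a14_e (K := K) 11 (rv 1) t
  rw [show col 11 (rv 1) = [((rv 1), 0, 1), ((rv 6), 1, 1)] by decide +kernel] at h
  simpa only [add_assoc, _root_.Fin.isValue, _root_.List.map_cons, _root_.Int.cast_one, _root_.pow_zero, _root_.mul_one, _root_.one_smul, _root_.pow_one, _root_.one_mul, _root_.List.map_nil, _root_.List.sum_cons, _root_.List.sum_nil, _root_.add_zero] using h

theorem C_11_5 (t : K) : a14 K (xg 11 t) (e (rv 5)) = e (rv 5) + (-t) • e (rv 10) := by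
  have h : a14 K (xg 11 t) (e (rv 5)) = _ := a14_e (K := K) 11 (rv 5) t
  rw [show col 11 (rv 5) = [((rv 5), 0, 1), ((rv 10), 1, -1)] by decide +kernel] at h
  simpa only [add_assoc, _root_.Fin.isValue, _root_.neg_smul, _root_.Int.reduceNeg, _root_.List.map_cons, _root_.Int.cast_one, _root_.pow_zero, _root_.mul_one, _root_.one_smul, _root_.Int.cast_neg, _root_.pow_one, _root_.neg_mul, _root_.one_mul, _root_.List.map_nil, _root_.List.sum_cons, _root_.List.sum_nil, _root_.add_zero] using h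

theorem C_11_10 (t : K) : a14 K (xg 11 t) (e (rv 10)) = e (rv 10) := by
  have h : a14 K (xg 11 t) (e (rv 10)) = _ := a14_e (K := K) 11 (rv 10) t
  rw [show col 11 (rv 10) = [((rv 10), 0, 1)] by decide +kernel] at h
  simpa only [add_assoc, _root_.Fin.isValue, _root_.List.map_cons, _root_.Int.cast_one, _root_.pow_zero, _root_.mul_one, _root_.one_smul, _root_.List.map_nil, _root_.List.sum_cons, _root_.List.sum_nil, _root_.add_zero] using h

theorem R_0_1 (t : K) (x : chevG2.Idx → K) : l (rv 1) (a14 K (xg 0 t) x) = l (rv 1) x + (t) * l (rv 6) x := by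
  have h := LinearMap.congr_fun (a14_row (K := K) 0 (rv 1) t) x
  rw [show row 0 (rv 1) = [((rv 1), 0, 1), ((rv 6), 1, 1)] by decide +kernel] at h
  refine h.trans ?_
  simp [add_assoc]

theorem R_0_5 (t : K) (x : chevG2.Idx → K) : l (rv 5) (a14 K (xg 0 t) x) = l (rv 5) x + (-t) * l (rv 10) x := by
  have h := LinearMap.congr_fun (a14_row (K := K) 0 (rv 5) t) x
  rw [show row 0 (rv 5) = [((rv 5), 0, 1), ((rv 10), 1, -1)] by decide +kernel] at h
  refine h.trans ?_
  simp only [add_assoc, _root_.Fin.isValue, _root_.Int.reduceNeg, _root_.List.map_cons, _root_.Int.cast_one, _root_.pow_zero, _root_.mul_one, _root_.one_smul, _root_.Int.cast_neg, _root_.pow_one, _root_.neg_mul, _root_.one_mul, _root_.List.map_nil, _root_.List.sum_cons, _root_.List.sum_nil, _root_.add_zero, _root_.LinearMap.add_apply, _root_.LinearMap.smul_apply, _root_.smul_eq_mul]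

theorem R_0_10 (t : K) (x : chevG2.Idx → K) : l (rv 10) (a14 K (xg 0 t) x) = l (rv 10) x := by
  have h := LinearMap.congr_fun (a14_row (K := K) 0 (rv 10) t) x
  rw [show row 0 (rv 10) = [((rv 10), 0, 1)] by decide +kernel] at h
  refine h.trans ?_
  simp [add_assoc]

theorem R_1_0 (t : K) (x : chevG2.Idx → K) : l (rv 0) (a14 K (xg 1 t) x) = l (rv 0) x + (t) * l (rv 5) x := by
  have h := LinearMap.congr_fun (a14_row (K := K) 1 (rv 0) t) x
  rw [show row 1 (rv 0) = [((rv 0), 0, 1), ((rv 5), 1, 1)] by decide +kernel] at h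
  refine h.trans ?_
  simp [add_assoc]

theorem R_1_5 (t : K) (x : chevG2.Idx → K) : l (rv 5) (a14 K (xg 1 t) x) = l (rv 5) x := by
  have h := LinearMap.congr_fun (a14_row (K := K) 1 (rv 5) t) x
  rw [show row 1 (rv 5) = [((rv 5), 0, 1)] by decide +kernel] at h
  refine h.trans ?_
  simp [add_assoc]

theorem R_1_6 (t : K) (x : chevG2.Idx → K) : l (rv 6) (a14 K (xg 1 t) x) = l (rv 6) x + (-t) * l (rv 11) x := by
  have h := LinearMap.congr_fun (a14_row (K := K) 1 (rv 6) t) x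
  rw [show row 1 (rv 6) = [((rv 6), 0, 1), ((rv 11), 1, -1)] by decide +kernel] at h
  refine h.trans ?_
  simp only [add_assoc, _root_.Fin.isValue, _root_.Int.reduceNeg, _root_.List.map_cons, _root_.Int.cast_one, _root_.pow_zero, _root_.mul_one, _root_.one_smul, _root_.Int.cast_neg, _root_.pow_one, _root_.neg_mul, _root_.one_mul, _root_.List.map_nil, _root_.List.sum_cons, _root_.List.sum_nil, _root_.add_zero, _root_.LinearMap.add_apply, _root_.LinearMap.smul_apply, _root_.smul_eq_mul]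

theorem R_5_0 (t : K) (x : chevG2.Idx → K) : l (rv 0) (a14 K (xg 5 t) x) = l (rv 0) x + (-t) * l (rv 1) x := by
  have h := LinearMap.congr_fun (a14_row (K := K) 5 (rv 0) t) x
  rw [show row 5 (rv 0) = [((rv 0), 0, 1), ((rv 1), 1, -1)] by decide +kernel] at h
  refine h.trans ?_
  simp only [add_assoc, _root_.Fin.isValue, _root_.Int.reduceNeg, _root_.List.map_cons, _root_.Int.cast_one, _root_.pow_zero, _root_.mul_one, _root_.one_smul, _root_.Int.cast_neg, _root_.pow_one, _root_.neg_mul, _root_.one_mul, _root_.List.map_nil, _root_.List.sum_cons, _root_.List.sum_nil, _root_.add_zero, _root_.LinearMap.add_apply, _root_.LinearMap.smul_apply, _root_.smul_eq_mul]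

theorem R_5_10 (t : K) (x : chevG2.Idx → K) : l (rv 10) (a14 K (xg 5 t) x) = l (rv 10) x + (t) * l (rv 11) x := by
  have h := LinearMap.congr_fun (a14_row (K := K) 5 (rv 10) t) x
  rw [show row 5 (rv 10) = [((rv 10), 0, 1), ((rv 11), 1, 1)] by decide +kernel] at h
  refine h.trans ?_
  simp [add_assoc]

theorem R_5_11 (t : K) (x : chevG2.Idx → K) : l (rv 11) (a14 K (xg 5 t) x) = l (rv 11) x := by
  have h := LinearMap.congr_fun (a14_row (K := K) 5 (rv 11) t) x
  rw [show row 5 (rv 11) = [((rv 11), 0, 1)] by decide +kernel] at h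
  refine h.trans ?_
  simp [add_assoc]

theorem R_6_0 (t : K) (x : chevG2.Idx → K) : l (rv 0) (a14 K (xg 6 t) x) = l (rv 0) x := by
  have h := LinearMap.congr_fun (a14_row (K := K) 6 (rv 0) t) x
  rw [show row 6 (rv 0) = [((rv 0), 0, 1)] by decide +kernel] at h
  refine h.trans ?_
  simp [add_assoc]

theorem R_6_1 (t : K) (x : chevG2.Idx → K) : l (rv 1) (a14 K (xg 6 t) x) = (-t) * l (rv 0) x + l (rv 1) x := by
  have h := LinearMap.congr_fun (a14_row (K := K) 6 (rv 1) t) x
  rw [show row 6 (rv 1) = [((rv 0), 1, -1), ((rv 1), 0, 1)] by decide +kernel] at h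
  refine h.trans ?_
  simp only [add_assoc, _root_.Fin.isValue, _root_.Int.reduceNeg, _root_.List.map_cons, _root_.Int.cast_neg, _root_.Int.cast_one, _root_.pow_one, _root_.neg_mul, _root_.one_mul, _root_.pow_zero, _root_.mul_one, _root_.one_smul, _root_.List.map_nil, _root_.List.sum_cons, _root_.List.sum_nil, _root_.add_zero, _root_.LinearMap.add_apply, _root_.LinearMap.smul_apply, _root_.smul_eq_mul]

theorem R_6_11 (t : K) (x : chevG2.Idx → K) : l (rv 11) (a14 K (xg 6 t) x) = (t) * l (rv 10) x + l (rv 11) x := by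
  have h := LinearMap.congr_fun (a14_row (K := K) 6 (rv 11) t) x
  rw [show row 6 (rv 11) = [((rv 10), 1, 1), ((rv 11), 0, 1)] by decide +kernel] at h
  refine h.trans ?_
  simp [add_assoc]

theorem R_7_5 (t : K) (x : chevG2.Idx → K) : l (rv 5) (a14 K (xg 7 t) x) = (-t ^ 3) * l (rv 1) x + (3 * t ^ 2) * l (rv 2) x + (3 * t) * l (rv 3) x + l (rv 5) x := by
  have h := LinearMap.congr_fun (a14_row (K := K) 7 (rv 5) t) x
  rw [show row 7 (rv 5) = [((rv 1), 3, -1), ((rv 2), 2, 3), ((rv 3), 1, 3), ((rv 5), 0, 1)] by decide +kernel] at h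
  refine h.trans ?_
  simp only [add_assoc, _root_.Fin.isValue, _root_.Int.reduceNeg, _root_.List.map_cons, _root_.Int.cast_neg, _root_.Int.cast_one, _root_.neg_mul, _root_.one_mul, _root_.Int.cast_ofNat, _root_.pow_one, _root_.pow_zero, _root_.mul_one, _root_.one_smul, _root_.List.map_nil, _root_.List.sum_cons, _root_.List.sum_nil, _root_.add_zero, _root_.LinearMap.add_apply, _root_.LinearMap.smul_apply, _root_.smul_eq_mul, _root_.add_assoc]

theorem R_8_6 (t : K) (x : chevG2.Idx → K) : l (rv 6) (a14 K (xg 8 t) x) = (t ^ 3) * l (rv 0) x + (-3 * t ^ 2) * l (rv 2) x + (3 * t) * l (rv 4) x + l (rv 6) x := by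
  have h := LinearMap.congr_fun (a14_row (K := K) 8 (rv 6) t) x
  rw [show row 8 (rv 6) = [((rv 0), 3, 1), ((rv 2), 2, -3), ((rv 4), 1, 3), ((rv 6), 0, 1)] by decide +kernel] at h
  refine h.trans ?_
  simp only [add_assoc, _root_.Fin.isValue, _root_.Int.reduceNeg, _root_.List.map_cons, _root_.Int.cast_one, _root_.one_mul, _root_.Int.cast_neg, _root_.Int.cast_ofNat, _root_.neg_mul, _root_.pow_one, _root_.pow_zero, _root_.mul_one, _root_.one_smul, _root_.List.map_nil, _root_.List.sum_cons, _root_.List.sum_nil, _root_.add_zero, _root_.LinearMap.add_apply, _root_.LinearMap.smul_apply, _root_.smul_eq_mul, _root_.add_assoc]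

theorem R_8_11 (t : K) (x : chevG2.Idx → K) : l (rv 11) (a14 K (xg 8 t) x) = (-t ^ 3) * l (rv 5) x + (3 * t ^ 2) * l (rv 7) x + (3 * t) * l (rv 9) x + l (rv 11) x := by
  have h := LinearMap.congr_fun (a14_row (K := K) 8 (rv 11) t) x
  rw [show row 8 (rv 11) = [((rv 5), 3, -1), ((rv 7), 2, 3), ((rv 9), 1, 3), ((rv 11), 0, 1)] by decide +kernel] at h
  refine h.trans ?_
  simp only [add_assoc, _root_.Fin.isValue, _root_.Int.reduceNeg, _root_.List.map_cons, _root_.Int.cast_neg, _root_.Int.cast_one, _root_.neg_mul, _root_.one_mul, _root_.Int.cast_ofNat, _root_.pow_one, _root_.pow_zero, _root_.mul_one, _root_.one_smul, _root_.List.map_nil, _root_.List.sum_cons, _root_.List.sum_nil, _root_.add_zero, _root_.LinearMap.add_apply, _root_.LinearMap.smul_apply, _root_.smul_eq_mul, _root_.add_assoc]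

theorem R_9_11 (t : K) (x : chevG2.Idx → K) : l (rv 11) (a14 K (xg 9 t) x) = (-t ^ 3) * l (rv 1) x + (-3 * t ^ 2) * l (rv 4) x + (-3 * t) * l (rv 8) x + l (rv 11) x := by
  have h := LinearMap.congr_fun (a14_row (K := K) 9 (rv 11) t) x
  rw [show row 9 (rv 11) = [((rv 1), 3, -1), ((rv 4), 2, -3), ((rv 8), 1, -3), ((rv 11), 0, 1)] by decide +kernel] at h
  refine h.trans ?_
  simp only [add_assoc, _root_.Fin.isValue, _root_.Int.reduceNeg, _root_.List.map_cons, _root_.Int.cast_neg, _root_.Int.cast_one, _root_.neg_mul, _root_.one_mul, _root_.Int.cast_ofNat, _root_.pow_one, _root_.pow_zero, _root_.mul_one, _root_.one_smul, _root_.List.map_nil, _root_.List.sum_cons, _root_.List.sum_nil, _root_.add_zero, _root_.LinearMap.add_apply, _root_.LinearMap.smul_apply, _root_.smul_eq_mul, _root_.add_assoc]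

theorem R_10_5 (t : K) (x : chevG2.Idx → K) : l (rv 5) (a14 K (xg 10 t) x) = (t) * l (rv 0) x + l (rv 5) x := by
  have h := LinearMap.congr_fun (a14_row (K := K) 10 (rv 5) t) x
  rw [show row 10 (rv 5) = [((rv 0), 1, 1), ((rv 5), 0, 1)] by decide +kernel] at h
  refine h.trans ?_
  simp [add_assoc]

theorem R_11_1 (t : K) (x : chevG2.Idx → K) : l (rv 1) (a14 K (xg 11 t) x) = l (rv 1) x := by
  have h := LinearMap.congr_fun (a14_row (K := K) 11 (rv 1) t) x
  rw [show row 11 (rv 1) = [((rv 1), 0, 1)] by decide +kernel] at h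
  refine h.trans ?_
  simp [add_assoc]

theorem R_11_6 (t : K) (x : chevG2.Idx → K) : l (rv 6) (a14 K (xg 11 t) x) = (t) * l (rv 1) x + l (rv 6) x := by
  have h := LinearMap.congr_fun (a14_row (K := K) 11 (rv 6) t) x
  rw [show row 11 (rv 6) = [((rv 1), 1, 1), ((rv 6), 0, 1)] by decide +kernel] at h
  refine h.trans ?_
  simp [add_assoc]

theorem R_11_10 (t : K) (x : chevG2.Idx → K) : l (rv 10) (a14 K (xg 11 t) x) = (-t) * l (rv 5) x + l (rv 10) x := by
  have h := LinearMap.congr_fun (a14_row (K := K) 11 (rv 10) t) x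
  rw [show row 11 (rv 10) = [((rv 5), 1, -1), ((rv 10), 0, 1)] by decide +kernel] at h
  refine h.trans ?_
  simp only [add_assoc, _root_.Fin.isValue, _root_.Int.reduceNeg, _root_.List.map_cons, _root_.Int.cast_neg, _root_.Int.cast_one, _root_.pow_one, _root_.neg_mul, _root_.one_mul, _root_.pow_zero, _root_.mul_one, _root_.one_smul, _root_.List.map_nil, _root_.List.sum_cons, _root_.List.sum_nil, _root_.add_zero, _root_.LinearMap.add_apply, _root_.LinearMap.smul_apply, _root_.smul_eq_mul]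

theorem R_11_11 (t : K) (x : chevG2.Idx → K) : l (rv 11) (a14 K (xg 11 t) x) = (-t) * l (hv 1) x + (-t ^ 2) * l (rv 0) x + l (rv 11) x := by
  have h := LinearMap.congr_fun (a14_row (K := K) 11 (rv 11) t) x
  rw [show row 11 (rv 11) = [((hv 1), 1, -1), ((rv 0), 2, -1), ((rv 11), 0, 1)] by decide +kernel] at h
  refine h.trans ?_
  simp only [add_assoc, _root_.Fin.isValue, _root_.Int.reduceNeg, _root_.List.map_cons, _root_.Int.cast_neg, _root_.Int.cast_one, _root_.pow_one, _root_.neg_mul, _root_.one_mul, _root_.pow_zero, _root_.mul_one, _root_.one_smul, _root_.List.map_nil, _root_.List.sum_cons, _root_.List.sum_nil, _root_.add_zero, _root_.LinearMap.add_apply, _root_.LinearMap.smul_apply, _root_.smul_eq_mul, _root_.add_assoc]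

end Cfsg.Agent.H927.G2
end

private theorem dce_b82c9e27578c : _root_.True := by
  try have : _root_.True := by simp only [_root_.Cfsg.Agent.H927.G2.rv.eq_1]
  try have : _root_.True := by simp only [_root_.Cfsg.Agent.H927.G2.l8.eq_1]
  try have : _root_.True := by simp only [_root_.Cfsg.Agent.H927.G2.a8.congr_simp]
  try have : _root_.True := by simp only [_root_.Cfsg.Agent.H927.G2.row.eq_1]
  try have : _root_.True := by simp only [_root_.Cfsg.Agent.H927.G2.l14.eq_1]
  try have : _root_.True := by simp only [_root_.Cfsg.Agent.H927.G2.e8.eq_1]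
  try have : _root_.True := by simp only [_root_.Cfsg.Agent.H927.G2.x1.congr_simp]
  try have : _root_.True := by simp only [_root_.Cfsg.Agent.H927.G2.e.eq_1]
  try have : _root_.True := by simp only [_root_.Cfsg.Agent.H927.G2.e14.eq_1]
  try have : _root_.True := by simp only [_root_.Cfsg.Agent.H927.G2.col.eq_1]
  try have : _root_.True := by simp only [_root_.Cfsg.Agent.H927.G2.bf.eq_1]
  exact _root_.True.intro
end

-- part: H927/G2Main
section
prune_inst 0x312055040000000000000000900004400200000000088800000003000681040000008020aa0000000088880c0030000811000000020000000000000001190080000002020000a000020000000000000000000000000000000000000000000004000000000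
set_option linter.all false
open scoped Cfsg.Agent.FastGrp

-- part: H927/G2Tab2
section
/-!
# Rows and columns of `x_r(t)` and the reflections in the adjoint representation of `G₂` (helper927)
-/

set_option autoImplicit false
set_option linter.unusedSectionVars false
set_option linter.style.haveILetI false
set_option linter.unusedVariables false
set_option linter.unusedSimpArgs false

namespace Cfsg.Agent.H927.G2

open Cfsg.Lie

variable {K : Type} [Field K]

theorem C_0_11 (t : K) : a14 K (xg 0 t) (e (rv 11)) = (-t) • e (hv 0) + (-2 * t) • e (hv 1) + (-t ^ 2) • e (rv 0) + e (rv 11) := by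
  have h : a14 K (xg 0 t) (e (rv 11)) = _ := a14_e (K := K) 0 (rv 11) t
  rw [show col 0 (rv 11) = [((hv 0), 1, -1), ((hv 1), 1, -2), ((rv 0), 2, -1), ((rv 11), 0, 1)] by decide +kernel] at h
  simpa only [add_assoc, _root_.Fin.isValue, _root_.neg_smul, _root_.neg_mul, _root_.Int.reduceNeg, _root_.List.map_cons, _root_.Int.cast_neg, _root_.Int.cast_one, _root_.pow_one, _root_.one_mul, _root_.Int.cast_ofNat, _root_.pow_zero, _root_.mul_one, _root_.one_smul, _root_.List.map_nil, _root_.List.sum_cons, _root_.List.sum_nil, _root_.add_zero] using h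

theorem C_1_11 (t : K) : a14 K (xg 1 t) (e (rv 11)) = (-t) • e (rv 6) + e (rv 11) := by
  have h : a14 K (xg 1 t) (e (rv 11)) = _ := a14_e (K := K) 1 (rv 11) t
  rw [show col 1 (rv 11) = [((rv 6), 1, -1), ((rv 11), 0, 1)] by decide +kernel] at h
  simpa only [add_assoc, _root_.Fin.isValue, _root_.neg_smul, _root_.Int.reduceNeg, _root_.List.map_cons, _root_.Int.cast_neg, _root_.Int.cast_one, _root_.pow_one, _root_.neg_mul, _root_.one_mul, _root_.pow_zero, _root_.mul_one, _root_.one_smul, _root_.List.map_nil, _root_.List.sum_cons, _root_.List.sum_nil, _root_.add_zero] using h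

theorem C_4_0 (t : K) : a14 K (xg 4 t) (e (rv 0)) = e (rv 0) := by
  have h : a14 K (xg 4 t) (e (rv 0)) = _ := a14_e (K := K) 4 (rv 0) t
  rw [show col 4 (rv 0) = [((rv 0), 0, 1)] by decide +kernel] at h
  simpa only [add_assoc, _root_.Fin.isValue, _root_.List.map_cons, _root_.Int.cast_one, _root_.pow_zero, _root_.mul_one, _root_.one_smul, _root_.List.map_nil, _root_.List.sum_cons, _root_.List.sum_nil, _root_.add_zero] using h

theorem C_4_1 (t : K) : a14 K (xg 4 t) (e (rv 1)) = e (rv 1) := by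
  have h : a14 K (xg 4 t) (e (rv 1)) = _ := a14_e (K := K) 4 (rv 1) t
  rw [show col 4 (rv 1) = [((rv 1), 0, 1)] by decide +kernel] at h
  simpa only [add_assoc, _root_.Fin.isValue, _root_.List.map_cons, _root_.Int.cast_one, _root_.pow_zero, _root_.mul_one, _root_.one_smul, _root_.List.map_nil, _root_.List.sum_cons, _root_.List.sum_nil, _root_.add_zero] using h

theorem C_4_2 (t : K) : a14 K (xg 4 t) (e (rv 2)) = (-3 * t) • e (rv 1) + e (rv 2) := by
  have h : a14 K (xg 4 t) (e (rv 2)) = _ := a14_e (K := K) 4 (rv 2) t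
  rw [show col 4 (rv 2) = [((rv 1), 1, -3), ((rv 2), 0, 1)] by decide +kernel] at h
  simpa only [add_assoc, _root_.Fin.isValue, _root_.neg_mul, _root_.neg_smul, _root_.Int.reduceNeg, _root_.List.map_cons, _root_.Int.cast_neg, _root_.Int.cast_ofNat, _root_.pow_one, _root_.Int.cast_one, _root_.pow_zero, _root_.mul_one, _root_.one_smul, _root_.List.map_nil, _root_.List.sum_cons, _root_.List.sum_nil, _root_.add_zero] using h

theorem C_4_3 (t : K) : a14 K (xg 4 t) (e (rv 3)) = (-3 * t ^ 2) • e (rv 1) + (2 * t) • e (rv 2) + e (rv 3) := by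
  have h : a14 K (xg 4 t) (e (rv 3)) = _ := a14_e (K := K) 4 (rv 3) t
  rw [show col 4 (rv 3) = [((rv 1), 2, -3), ((rv 2), 1, 2), ((rv 3), 0, 1)] by decide +kernel] at h
  simpa only [add_assoc, _root_.Fin.isValue, _root_.neg_mul, _root_.neg_smul, _root_.Int.reduceNeg, _root_.List.map_cons, _root_.Int.cast_neg, _root_.Int.cast_ofNat, _root_.pow_one, _root_.Int.cast_one, _root_.pow_zero, _root_.mul_one, _root_.one_smul, _root_.List.map_nil, _root_.List.sum_cons, _root_.List.sum_nil, _root_.add_zero] using h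

theorem C_4_5 (t : K) : a14 K (xg 4 t) (e (rv 5)) = (-t ^ 3) • e (rv 1) + (t ^ 2) • e (rv 2) + (t) • e (rv 3) + e (rv 5) := by
  have h : a14 K (xg 4 t) (e (rv 5)) = _ := a14_e (K := K) 4 (rv 5) t
  rw [show col 4 (rv 5) = [((rv 1), 3, -1), ((rv 2), 2, 1), ((rv 3), 1, 1), ((rv 5), 0, 1)] by decide +kernel] at h
  simpa only [add_assoc, _root_.Fin.isValue, _root_.neg_smul, _root_.Int.reduceNeg, _root_.List.map_cons, _root_.Int.cast_neg, _root_.Int.cast_one, _root_.neg_mul, _root_.one_mul, _root_.pow_one, _root_.pow_zero, _root_.mul_one, _root_.one_smul, _root_.List.map_nil, _root_.List.sum_cons, _root_.List.sum_nil, _root_.add_zero] using h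

theorem C_4_6 (t : K) : a14 K (xg 4 t) (e (rv 6)) = e (rv 6) := by
  have h : a14 K (xg 4 t) (e (rv 6)) = _ := a14_e (K := K) 4 (rv 6) t
  rw [show col 4 (rv 6) = [((rv 6), 0, 1)] by decide +kernel] at h
  simpa only [add_assoc, _root_.Fin.isValue, _root_.List.map_cons, _root_.Int.cast_one, _root_.pow_zero, _root_.mul_one, _root_.one_smul, _root_.List.map_nil, _root_.List.sum_cons, _root_.List.sum_nil, _root_.add_zero] using h

theorem C_4_8 (t : K) : a14 K (xg 4 t) (e (rv 8)) = (-3 * t) • e (rv 6) + e (rv 8) := by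
  have h : a14 K (xg 4 t) (e (rv 8)) = _ := a14_e (K := K) 4 (rv 8) t
  rw [show col 4 (rv 8) = [((rv 6), 1, -3), ((rv 8), 0, 1)] by decide +kernel] at h
  simpa only [add_assoc, _root_.Fin.isValue, _root_.neg_mul, _root_.neg_smul, _root_.Int.reduceNeg, _root_.List.map_cons, _root_.Int.cast_neg, _root_.Int.cast_ofNat, _root_.pow_one, _root_.Int.cast_one, _root_.pow_zero, _root_.mul_one, _root_.one_smul, _root_.List.map_nil, _root_.List.sum_cons, _root_.List.sum_nil, _root_.add_zero] using h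

theorem C_4_9 (t : K) : a14 K (xg 4 t) (e (rv 9)) = (3 * t ^ 2) • e (rv 6) + (-2 * t) • e (rv 8) + e (rv 9) := by
  have h : a14 K (xg 4 t) (e (rv 9)) = _ := a14_e (K := K) 4 (rv 9) t
  rw [show col 4 (rv 9) = [((rv 6), 2, 3), ((rv 8), 1, -2), ((rv 9), 0, 1)] by decide +kernel] at h
  simpa only [add_assoc, _root_.Fin.isValue, _root_.neg_mul, _root_.neg_smul, _root_.Int.reduceNeg, _root_.List.map_cons, _root_.Int.cast_ofNat, _root_.Int.cast_neg, _root_.pow_one, _root_.Int.cast_one, _root_.pow_zero, _root_.mul_one, _root_.one_smul, _root_.List.map_nil, _root_.List.sum_cons, _root_.List.sum_nil, _root_.add_zero] using h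

theorem C_4_10 (t : K) : a14 K (xg 4 t) (e (rv 10)) = (t ^ 3) • e (rv 6) + (-t ^ 2) • e (rv 8) + (t) • e (rv 9) + e (rv 10) := by
  have h : a14 K (xg 4 t) (e (rv 10)) = _ := a14_e (K := K) 4 (rv 10) t
  rw [show col 4 (rv 10) = [((rv 6), 3, 1), ((rv 8), 2, -1), ((rv 9), 1, 1), ((rv 10), 0, 1)] by decide +kernel] at h
  simpa only [add_assoc, _root_.Fin.isValue, _root_.neg_smul, _root_.Int.reduceNeg, _root_.List.map_cons, _root_.Int.cast_one, _root_.one_mul, _root_.Int.cast_neg, _root_.neg_mul, _root_.pow_one, _root_.pow_zero, _root_.mul_one, _root_.one_smul, _root_.List.map_nil, _root_.List.sum_cons, _root_.List.sum_nil, _root_.add_zero] using h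

theorem C_4_11 (t : K) : a14 K (xg 4 t) (e (rv 11)) = e (rv 11) := by
  have h : a14 K (xg 4 t) (e (rv 11)) = _ := a14_e (K := K) 4 (rv 11) t
  rw [show col 4 (rv 11) = [((rv 11), 0, 1)] by decide +kernel] at h
  simpa only [add_assoc, _root_.Fin.isValue, _root_.List.map_cons, _root_.Int.cast_one, _root_.pow_zero, _root_.mul_one, _root_.one_smul, _root_.List.map_nil, _root_.List.sum_cons, _root_.List.sum_nil, _root_.add_zero] using h

theorem C_5_h1 (t : K) : a14 K (xg 5 t) (e (hv 1)) = e (hv 1) + (2 * t) • e (rv 5) := by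
  have h : a14 K (xg 5 t) (e (hv 1)) = _ := a14_e (K := K) 5 (hv 1) t
  rw [show col 5 (hv 1) = [((hv 1), 0, 1), ((rv 5), 1, 2)] by decide +kernel] at h
  simpa only [add_assoc, _root_.Fin.isValue, _root_.List.map_cons, _root_.Int.cast_one, _root_.pow_zero, _root_.mul_one, _root_.one_smul, _root_.Int.cast_ofNat, _root_.pow_one, _root_.List.map_nil, _root_.List.sum_cons, _root_.List.sum_nil, _root_.add_zero] using h

theorem C_5_5 (t : K) : a14 K (xg 5 t) (e (rv 5)) = e (rv 5) := by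
  have h : a14 K (xg 5 t) (e (rv 5)) = _ := a14_e (K := K) 5 (rv 5) t
  rw [show col 5 (rv 5) = [((rv 5), 0, 1)] by decide +kernel] at h
  simpa only [add_assoc, _root_.Fin.isValue, _root_.List.map_cons, _root_.Int.cast_one, _root_.pow_zero, _root_.mul_one, _root_.one_smul, _root_.List.map_nil, _root_.List.sum_cons, _root_.List.sum_nil, _root_.add_zero] using h

theorem C_5_10 (t : K) : a14 K (xg 5 t) (e (rv 10)) = e (rv 10) := by
  have h : a14 K (xg 5 t) (e (rv 10)) = _ := a14_e (K := K) 5 (rv 10) t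
  rw [show col 5 (rv 10) = [((rv 10), 0, 1)] by decide +kernel] at h
  simpa only [add_assoc, _root_.Fin.isValue, _root_.List.map_cons, _root_.Int.cast_one, _root_.pow_zero, _root_.mul_one, _root_.one_smul, _root_.List.map_nil, _root_.List.sum_cons, _root_.List.sum_nil, _root_.add_zero] using h

theorem C_6_h1 (t : K) : a14 K (xg 6 t) (e (hv 1)) = e (hv 1) + (-2 * t) • e (rv 6) := by
  have h : a14 K (xg 6 t) (e (hv 1)) = _ := a14_e (K := K) 6 (hv 1) t
  rw [show col 6 (hv 1) = [((hv 1), 0, 1), ((rv 6), 1, -2)] by decide +kernel] at h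
  simpa only [add_assoc, _root_.Fin.isValue, _root_.neg_mul, _root_.neg_smul, _root_.Int.reduceNeg, _root_.List.map_cons, _root_.Int.cast_one, _root_.pow_zero, _root_.mul_one, _root_.one_smul, _root_.Int.cast_neg, _root_.Int.cast_ofNat, _root_.pow_one, _root_.List.map_nil, _root_.List.sum_cons, _root_.List.sum_nil, _root_.add_zero] using h

theorem C_6_1 (t : K) : a14 K (xg 6 t) (e (rv 1)) = e (rv 1) := by
  have h : a14 K (xg 6 t) (e (rv 1)) = _ := a14_e (K := K) 6 (rv 1) t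
  rw [show col 6 (rv 1) = [((rv 1), 0, 1)] by decide +kernel] at h
  simpa only [add_assoc, _root_.Fin.isValue, _root_.List.map_cons, _root_.Int.cast_one, _root_.pow_zero, _root_.mul_one, _root_.one_smul, _root_.List.map_nil, _root_.List.sum_cons, _root_.List.sum_nil, _root_.add_zero] using h

theorem C_6_5 (t : K) : a14 K (xg 6 t) (e (rv 5)) = (t) • e (hv 1) + e (rv 5) + (-t ^ 2) • e (rv 6) := by
  have h : a14 K (xg 6 t) (e (rv 5)) = _ := a14_e (K := K) 6 (rv 5) t
  rw [show col 6 (rv 5) = [((hv 1), 1, 1), ((rv 5), 0, 1), ((rv 6), 2, -1)] by decide +kernel] at h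
  simpa only [add_assoc, _root_.Fin.isValue, _root_.neg_smul, _root_.Int.reduceNeg, _root_.List.map_cons, _root_.Int.cast_one, _root_.pow_one, _root_.one_mul, _root_.pow_zero, _root_.mul_one, _root_.one_smul, _root_.Int.cast_neg, _root_.neg_mul, _root_.List.map_nil, _root_.List.sum_cons, _root_.List.sum_nil, _root_.add_zero] using h

theorem C_6_6 (t : K) : a14 K (xg 6 t) (e (rv 6)) = e (rv 6) := by
  have h : a14 K (xg 6 t) (e (rv 6)) = _ := a14_e (K := K) 6 (rv 6) t
  rw [show col 6 (rv 6) = [((rv 6), 0, 1)] by decide +kernel] at h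
  simpa only [add_assoc, _root_.Fin.isValue, _root_.List.map_cons, _root_.Int.cast_one, _root_.pow_zero, _root_.mul_one, _root_.one_smul, _root_.List.map_nil, _root_.List.sum_cons, _root_.List.sum_nil, _root_.add_zero] using h

theorem C_7_0 (t : K) : a14 K (xg 7 t) (e (rv 0)) = e (rv 0) := by
  have h : a14 K (xg 7 t) (e (rv 0)) = _ := a14_e (K := K) 7 (rv 0) t
  rw [show col 7 (rv 0) = [((rv 0), 0, 1)] by decide +kernel] at h
  simpa only [add_assoc, _root_.Fin.isValue, _root_.List.map_cons, _root_.Int.cast_one, _root_.pow_zero, _root_.mul_one, _root_.one_smul, _root_.List.map_nil, _root_.List.sum_cons, _root_.List.sum_nil, _root_.add_zero] using h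

theorem C_7_1 (t : K) : a14 K (xg 7 t) (e (rv 1)) = e (rv 1) + (-t) • e (rv 2) + (-t ^ 2) • e (rv 3) + (-t ^ 3) • e (rv 5) := by
  have h : a14 K (xg 7 t) (e (rv 1)) = _ := a14_e (K := K) 7 (rv 1) t
  rw [show col 7 (rv 1) = [((rv 1), 0, 1), ((rv 2), 1, -1), ((rv 3), 2, -1), ((rv 5), 3, -1)] by decide +kernel] at h
  simpa only [add_assoc, _root_.Fin.isValue, _root_.neg_smul, _root_.Int.reduceNeg, _root_.List.map_cons, _root_.Int.cast_one, _root_.pow_zero, _root_.mul_one, _root_.one_smul, _root_.Int.cast_neg, _root_.pow_one, _root_.neg_mul, _root_.one_mul, _root_.List.map_nil, _root_.List.sum_cons, _root_.List.sum_nil, _root_.add_zero] using h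

theorem C_7_2 (t : K) : a14 K (xg 7 t) (e (rv 2)) = e (rv 2) + (2 * t) • e (rv 3) + (3 * t ^ 2) • e (rv 5) := by
  have h : a14 K (xg 7 t) (e (rv 2)) = _ := a14_e (K := K) 7 (rv 2) t
  rw [show col 7 (rv 2) = [((rv 2), 0, 1), ((rv 3), 1, 2), ((rv 5), 2, 3)] by decide +kernel] at h
  simpa only [add_assoc, _root_.Fin.isValue, _root_.List.map_cons, _root_.Int.cast_one, _root_.pow_zero, _root_.mul_one, _root_.one_smul, _root_.Int.cast_ofNat, _root_.pow_one, _root_.List.map_nil, _root_.List.sum_cons, _root_.List.sum_nil, _root_.add_zero] using h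

theorem C_7_3 (t : K) : a14 K (xg 7 t) (e (rv 3)) = e (rv 3) + (3 * t) • e (rv 5) := by
  have h : a14 K (xg 7 t) (e (rv 3)) = _ := a14_e (K := K) 7 (rv 3) t
  rw [show col 7 (rv 3) = [((rv 3), 0, 1), ((rv 5), 1, 3)] by decide +kernel] at h
  simpa only [add_assoc, _root_.Fin.isValue, _root_.List.map_cons, _root_.Int.cast_one, _root_.pow_zero, _root_.mul_one, _root_.one_smul, _root_.Int.cast_ofNat, _root_.pow_one, _root_.List.map_nil, _root_.List.sum_cons, _root_.List.sum_nil, _root_.add_zero] using h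

theorem C_7_5 (t : K) : a14 K (xg 7 t) (e (rv 5)) = e (rv 5) := by
  have h : a14 K (xg 7 t) (e (rv 5)) = _ := a14_e (K := K) 7 (rv 5) t
  rw [show col 7 (rv 5) = [((rv 5), 0, 1)] by decide +kernel] at h
  simpa only [add_assoc, _root_.Fin.isValue, _root_.List.map_cons, _root_.Int.cast_one, _root_.pow_zero, _root_.mul_one, _root_.one_smul, _root_.List.map_nil, _root_.List.sum_cons, _root_.List.sum_nil, _root_.add_zero] using h

theorem C_7_6 (t : K) : a14 K (xg 7 t) (e (rv 6)) = e (rv 6) + (-t) • e (rv 8) + (t ^ 2) • e (rv 9) + (t ^ 3) • e (rv 10) := by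
  have h : a14 K (xg 7 t) (e (rv 6)) = _ := a14_e (K := K) 7 (rv 6) t
  rw [show col 7 (rv 6) = [((rv 6), 0, 1), ((rv 8), 1, -1), ((rv 9), 2, 1), ((rv 10), 3, 1)] by decide +kernel] at h
  simpa only [add_assoc, _root_.Fin.isValue, _root_.neg_smul, _root_.Int.reduceNeg, _root_.List.map_cons, _root_.Int.cast_one, _root_.pow_zero, _root_.mul_one, _root_.one_smul, _root_.Int.cast_neg, _root_.pow_one, _root_.neg_mul, _root_.one_mul, _root_.List.map_nil, _root_.List.sum_cons, _root_.List.sum_nil, _root_.add_zero] using h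

theorem C_7_8 (t : K) : a14 K (xg 7 t) (e (rv 8)) = e (rv 8) + (-2 * t) • e (rv 9) + (-3 * t ^ 2) • e (rv 10) := by
  have h : a14 K (xg 7 t) (e (rv 8)) = _ := a14_e (K := K) 7 (rv 8) t
  rw [show col 7 (rv 8) = [((rv 8), 0, 1), ((rv 9), 1, -2), ((rv 10), 2, -3)] by decide +kernel] at h
  simpa only [add_assoc, _root_.Fin.isValue, _root_.neg_mul, _root_.neg_smul, _root_.Int.reduceNeg, _root_.List.map_cons, _root_.Int.cast_one, _root_.pow_zero, _root_.mul_one, _root_.one_smul, _root_.Int.cast_neg, _root_.Int.cast_ofNat, _root_.pow_one, _root_.List.map_nil, _root_.List.sum_cons, _root_.List.sum_nil, _root_.add_zero] using h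

theorem C_7_9 (t : K) : a14 K (xg 7 t) (e (rv 9)) = e (rv 9) + (3 * t) • e (rv 10) := by
  have h : a14 K (xg 7 t) (e (rv 9)) = _ := a14_e (K := K) 7 (rv 9) t
  rw [show col 7 (rv 9) = [((rv 9), 0, 1), ((rv 10), 1, 3)] by decide +kernel] at h
  simpa only [add_assoc, _root_.Fin.isValue, _root_.List.map_cons, _root_.Int.cast_one, _root_.pow_zero, _root_.mul_one, _root_.one_smul, _root_.Int.cast_ofNat, _root_.pow_one, _root_.List.map_nil, _root_.List.sum_cons, _root_.List.sum_nil, _root_.add_zero] using h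

theorem C_7_10 (t : K) : a14 K (xg 7 t) (e (rv 10)) = e (rv 10) := by
  have h : a14 K (xg 7 t) (e (rv 10)) = _ := a14_e (K := K) 7 (rv 10) t
  rw [show col 7 (rv 10) = [((rv 10), 0, 1)] by decide +kernel] at h
  simpa only [add_assoc, _root_.Fin.isValue, _root_.List.map_cons, _root_.Int.cast_one, _root_.pow_zero, _root_.mul_one, _root_.one_smul, _root_.List.map_nil, _root_.List.sum_cons, _root_.List.sum_nil, _root_.add_zero] using h

theorem C_7_11 (t : K) : a14 K (xg 7 t) (e (rv 11)) = e (rv 11) := by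
  have h : a14 K (xg 7 t) (e (rv 11)) = _ := a14_e (K := K) 7 (rv 11) t
  rw [show col 7 (rv 11) = [((rv 11), 0, 1)] by decide +kernel] at h
  simpa only [add_assoc, _root_.Fin.isValue, _root_.List.map_cons, _root_.Int.cast_one, _root_.pow_zero, _root_.mul_one, _root_.one_smul, _root_.List.map_nil, _root_.List.sum_cons, _root_.List.sum_nil, _root_.add_zero] using h

theorem R_4_0 (t : K) (x : chevG2.Idx → K) : l (rv 0) (a14 K (xg 4 t) x) = l (rv 0) x := by
  have h := LinearMap.congr_fun (a14_row (K := K) 4 (rv 0) t) x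
  rw [show row 4 (rv 0) = [((rv 0), 0, 1)] by decide +kernel] at h
  refine h.trans ?_
  simp [add_assoc]

theorem R_4_1 (t : K) (x : chevG2.Idx → K) : l (rv 1) (a14 K (xg 4 t) x) = l (rv 1) x + (-3 * t) * l (rv 2) x + (-3 * t ^ 2) * l (rv 3) x + (-t ^ 3) * l (rv 5) x := by
  have h := LinearMap.congr_fun (a14_row (K := K) 4 (rv 1) t) x
  rw [show row 4 (rv 1) = [((rv 1), 0, 1), ((rv 2), 1, -3), ((rv 3), 2, -3), ((rv 5), 3, -1)] by decide +kernel] at h
  refine h.trans ?_
  simp only [add_assoc, _root_.Fin.isValue, _root_.Int.reduceNeg, _root_.List.map_cons, _root_.Int.cast_one, _root_.pow_zero, _root_.mul_one, _root_.one_smul, _root_.Int.cast_neg, _root_.Int.cast_ofNat, _root_.pow_one, _root_.neg_mul, _root_.one_mul, _root_.List.map_nil, _root_.List.sum_cons, _root_.List.sum_nil, _root_.add_zero, _root_.LinearMap.add_apply, _root_.LinearMap.smul_apply, _root_.smul_eq_mul]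

theorem R_4_2 (t : K) (x : chevG2.Idx → K) : l (rv 2) (a14 K (xg 4 t) x) = l (rv 2) x + (2 * t) * l (rv 3) x + (t ^ 2) * l (rv 5) x := by
  have h := LinearMap.congr_fun (a14_row (K := K) 4 (rv 2) t) x
  rw [show row 4 (rv 2) = [((rv 2), 0, 1), ((rv 3), 1, 2), ((rv 5), 2, 1)] by decide +kernel] at h
  refine h.trans ?_
  simp only [add_assoc, _root_.Fin.isValue, _root_.List.map_cons, _root_.Int.cast_one, _root_.pow_zero, _root_.mul_one, _root_.one_smul, _root_.Int.cast_ofNat, _root_.pow_one, _root_.one_mul, _root_.List.map_nil, _root_.List.sum_cons, _root_.List.sum_nil, _root_.add_zero, _root_.LinearMap.add_apply, _root_.LinearMap.smul_apply, _root_.smul_eq_mul]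

theorem R_4_3 (t : K) (x : chevG2.Idx → K) : l (rv 3) (a14 K (xg 4 t) x) = l (rv 3) x + (t) * l (rv 5) x := by
  have h := LinearMap.congr_fun (a14_row (K := K) 4 (rv 3) t) x
  rw [show row 4 (rv 3) = [((rv 3), 0, 1), ((rv 5), 1, 1)] by decide +kernel] at h
  refine h.trans ?_
  simp [add_assoc]

theorem R_4_5 (t : K) (x : chevG2.Idx → K) : l (rv 5) (a14 K (xg 4 t) x) = l (rv 5) x := by
  have h := LinearMap.congr_fun (a14_row (K := K) 4 (rv 5) t) x
  rw [show row 4 (rv 5) = [((rv 5), 0, 1)] by decide +kernel] at h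
  refine h.trans ?_
  simp [add_assoc]

theorem R_4_6 (t : K) (x : chevG2.Idx → K) : l (rv 6) (a14 K (xg 4 t) x) = l (rv 6) x + (-3 * t) * l (rv 8) x + (3 * t ^ 2) * l (rv 9) x + (t ^ 3) * l (rv 10) x := by
  have h := LinearMap.congr_fun (a14_row (K := K) 4 (rv 6) t) x
  rw [show row 4 (rv 6) = [((rv 6), 0, 1), ((rv 8), 1, -3), ((rv 9), 2, 3), ((rv 10), 3, 1)] by decide +kernel] at h
  refine h.trans ?_
  simp only [add_assoc, _root_.Fin.isValue, _root_.Int.reduceNeg, _root_.List.map_cons, _root_.Int.cast_one, _root_.pow_zero, _root_.mul_one, _root_.one_smul, _root_.Int.cast_neg, _root_.Int.cast_ofNat, _root_.pow_one, _root_.neg_mul, _root_.one_mul, _root_.List.map_nil, _root_.List.sum_cons, _root_.List.sum_nil, _root_.add_zero, _root_.LinearMap.add_apply, _root_.LinearMap.smul_apply, _root_.smul_eq_mul]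

theorem R_4_8 (t : K) (x : chevG2.Idx → K) : l (rv 8) (a14 K (xg 4 t) x) = l (rv 8) x + (-2 * t) * l (rv 9) x + (-t ^ 2) * l (rv 10) x := by
  have h := LinearMap.congr_fun (a14_row (K := K) 4 (rv 8) t) x
  rw [show row 4 (rv 8) = [((rv 8), 0, 1), ((rv 9), 1, -2), ((rv 10), 2, -1)] by decide +kernel] at h
  refine h.trans ?_
  simp only [add_assoc, _root_.Fin.isValue, _root_.Int.reduceNeg, _root_.List.map_cons, _root_.Int.cast_one, _root_.pow_zero, _root_.mul_one, _root_.one_smul, _root_.Int.cast_neg, _root_.Int.cast_ofNat, _root_.pow_one, _root_.neg_mul, _root_.one_mul, _root_.List.map_nil, _root_.List.sum_cons, _root_.List.sum_nil, _root_.add_zero, _root_.LinearMap.add_apply, _root_.LinearMap.smul_apply, _root_.smul_eq_mul]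

theorem R_4_9 (t : K) (x : chevG2.Idx → K) : l (rv 9) (a14 K (xg 4 t) x) = l (rv 9) x + (t) * l (rv 10) x := by
  have h := LinearMap.congr_fun (a14_row (K := K) 4 (rv 9) t) x
  rw [show row 4 (rv 9) = [((rv 9), 0, 1), ((rv 10), 1, 1)] by decide +kernel] at h
  refine h.trans ?_
  simp [add_assoc]

theorem R_4_10 (t : K) (x : chevG2.Idx → K) : l (rv 10) (a14 K (xg 4 t) x) = l (rv 10) x := by
  have h := LinearMap.congr_fun (a14_row (K := K) 4 (rv 10) t) x
  rw [show row 4 (rv 10) = [((rv 10), 0, 1)] by decide +kernel] at h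
  refine h.trans ?_
  simp [add_assoc]

theorem R_4_11 (t : K) (x : chevG2.Idx → K) : l (rv 11) (a14 K (xg 4 t) x) = l (rv 11) x := by
  have h := LinearMap.congr_fun (a14_row (K := K) 4 (rv 11) t) x
  rw [show row 4 (rv 11) = [((rv 11), 0, 1)] by decide +kernel] at h
  refine h.trans ?_
  simp [add_assoc]

theorem R_5_h0 (t : K) (x : chevG2.Idx → K) : l (hv 0) (a14 K (xg 5 t) x) = l (hv 0) x := by
  have h := LinearMap.congr_fun (a14_row (K := K) 5 (hv 0) t) x
  rw [show row 5 (hv 0) = [((hv 0), 0, 1)] by decide +kernel] at h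
  refine h.trans ?_
  simp [add_assoc]

theorem R_5_h1 (t : K) (x : chevG2.Idx → K) : l (hv 1) (a14 K (xg 5 t) x) = l (hv 1) x + (-t) * l (rv 6) x := by
  have h := LinearMap.congr_fun (a14_row (K := K) 5 (hv 1) t) x
  rw [show row 5 (hv 1) = [((hv 1), 0, 1), ((rv 6), 1, -1)] by decide +kernel] at h
  refine h.trans ?_
  simp only [add_assoc, _root_.Fin.isValue, _root_.Int.reduceNeg, _root_.List.map_cons, _root_.Int.cast_one, _root_.pow_zero, _root_.mul_one, _root_.one_smul, _root_.Int.cast_neg, _root_.pow_one, _root_.neg_mul, _root_.one_mul, _root_.List.map_nil, _root_.List.sum_cons, _root_.List.sum_nil, _root_.add_zero, _root_.LinearMap.add_apply, _root_.LinearMap.smul_apply, _root_.smul_eq_mul]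

theorem R_5_1 (t : K) (x : chevG2.Idx → K) : l (rv 1) (a14 K (xg 5 t) x) = l (rv 1) x := by
  have h := LinearMap.congr_fun (a14_row (K := K) 5 (rv 1) t) x
  rw [show row 5 (rv 1) = [((rv 1), 0, 1)] by decide +kernel] at h
  refine h.trans ?_
  simp [add_assoc]

theorem R_5_5 (t : K) (x : chevG2.Idx → K) : l (rv 5) (a14 K (xg 5 t) x) = (-3 * t) * l (hv 0) x + (2 * t) * l (hv 1) x + l (rv 5) x + (-t ^ 2) * l (rv 6) x := by
  have h := LinearMap.congr_fun (a14_row (K := K) 5 (rv 5) t) x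
  rw [show row 5 (rv 5) = [((hv 0), 1, -3), ((hv 1), 1, 2), ((rv 5), 0, 1), ((rv 6), 2, -1)] by decide +kernel] at h
  refine h.trans ?_
  simp only [add_assoc, _root_.Fin.isValue, _root_.Int.reduceNeg, _root_.List.map_cons, _root_.Int.cast_neg, _root_.Int.cast_ofNat, _root_.pow_one, _root_.neg_mul, _root_.Int.cast_one, _root_.pow_zero, _root_.mul_one, _root_.one_smul, _root_.one_mul, _root_.List.map_nil, _root_.List.sum_cons, _root_.List.sum_nil, _root_.add_zero, _root_.LinearMap.add_apply, _root_.LinearMap.smul_apply, _root_.smul_eq_mul]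

theorem R_5_6 (t : K) (x : chevG2.Idx → K) : l (rv 6) (a14 K (xg 5 t) x) = l (rv 6) x := by
  have h := LinearMap.congr_fun (a14_row (K := K) 5 (rv 6) t) x
  rw [show row 5 (rv 6) = [((rv 6), 0, 1)] by decide +kernel] at h
  refine h.trans ?_
  simp [add_assoc]

theorem R_6_h0 (t : K) (x : chevG2.Idx → K) : l (hv 0) (a14 K (xg 6 t) x) = l (hv 0) x := by
  have h := LinearMap.congr_fun (a14_row (K := K) 6 (hv 0) t) x
  rw [show row 6 (hv 0) = [((hv 0), 0, 1)] by decide +kernel] at h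
  refine h.trans ?_
  simp [add_assoc]

theorem R_6_h1 (t : K) (x : chevG2.Idx → K) : l (hv 1) (a14 K (xg 6 t) x) = l (hv 1) x + (t) * l (rv 5) x := by
  have h := LinearMap.congr_fun (a14_row (K := K) 6 (hv 1) t) x
  rw [show row 6 (hv 1) = [((hv 1), 0, 1), ((rv 5), 1, 1)] by decide +kernel] at h
  refine h.trans ?_
  simp [add_assoc]

theorem R_6_5 (t : K) (x : chevG2.Idx → K) : l (rv 5) (a14 K (xg 6 t) x) = l (rv 5) x := by
  have h := LinearMap.congr_fun (a14_row (K := K) 6 (rv 5) t) x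
  rw [show row 6 (rv 5) = [((rv 5), 0, 1)] by decide +kernel] at h
  refine h.trans ?_
  simp [add_assoc]

theorem R_6_6 (t : K) (x : chevG2.Idx → K) : l (rv 6) (a14 K (xg 6 t) x) = (3 * t) * l (hv 0) x + (-2 * t) * l (hv 1) x + (-t ^ 2) * l (rv 5) x + l (rv 6) x := by
  have h := LinearMap.congr_fun (a14_row (K := K) 6 (rv 6) t) x
  rw [show row 6 (rv 6) = [((hv 0), 1, 3), ((hv 1), 1, -2), ((rv 5), 2, -1), ((rv 6), 0, 1)] by decide +kernel] at h
  refine h.trans ?_
  simp only [add_assoc, _root_.Fin.isValue, _root_.Int.reduceNeg, _root_.List.map_cons, _root_.Int.cast_ofNat, _root_.pow_one, _root_.Int.cast_neg, _root_.neg_mul, _root_.Int.cast_one, _root_.one_mul, _root_.pow_zero, _root_.mul_one, _root_.one_smul, _root_.List.map_nil, _root_.List.sum_cons, _root_.List.sum_nil, _root_.add_zero, _root_.LinearMap.add_apply, _root_.LinearMap.smul_apply, _root_.smul_eq_mul]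

theorem R_6_10 (t : K) (x : chevG2.Idx → K) : l (rv 10) (a14 K (xg 6 t) x) = l (rv 10) x := by
  have h := LinearMap.congr_fun (a14_row (K := K) 6 (rv 10) t) x
  rw [show row 6 (rv 10) = [((rv 10), 0, 1)] by decide +kernel] at h
  refine h.trans ?_
  simp [add_assoc]

theorem R_7_0 (t : K) (x : chevG2.Idx → K) : l (rv 0) (a14 K (xg 7 t) x) = l (rv 0) x := by
  have h := LinearMap.congr_fun (a14_row (K := K) 7 (rv 0) t) x
  rw [show row 7 (rv 0) = [((rv 0), 0, 1)] by decide +kernel] at h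
  refine h.trans ?_
  simp [add_assoc]

theorem R_7_1 (t : K) (x : chevG2.Idx → K) : l (rv 1) (a14 K (xg 7 t) x) = l (rv 1) x := by
  have h := LinearMap.congr_fun (a14_row (K := K) 7 (rv 1) t) x
  rw [show row 7 (rv 1) = [((rv 1), 0, 1)] by decide +kernel] at h
  refine h.trans ?_
  simp [add_assoc]

theorem R_7_2 (t : K) (x : chevG2.Idx → K) : l (rv 2) (a14 K (xg 7 t) x) = (-t) * l (rv 1) x + l (rv 2) x := by
  have h := LinearMap.congr_fun (a14_row (K := K) 7 (rv 2) t) x
  rw [show row 7 (rv 2) = [((rv 1), 1, -1), ((rv 2), 0, 1)] by decide +kernel] at h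
  refine h.trans ?_
  simp only [add_assoc, _root_.Fin.isValue, _root_.Int.reduceNeg, _root_.List.map_cons, _root_.Int.cast_neg, _root_.Int.cast_one, _root_.pow_one, _root_.neg_mul, _root_.one_mul, _root_.pow_zero, _root_.mul_one, _root_.one_smul, _root_.List.map_nil, _root_.List.sum_cons, _root_.List.sum_nil, _root_.add_zero, _root_.LinearMap.add_apply, _root_.LinearMap.smul_apply, _root_.smul_eq_mul]

theorem R_7_3 (t : K) (x : chevG2.Idx → K) : l (rv 3) (a14 K (xg 7 t) x) = (-t ^ 2) * l (rv 1) x + (2 * t) * l (rv 2) x + l (rv 3) x := by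
  have h := LinearMap.congr_fun (a14_row (K := K) 7 (rv 3) t) x
  rw [show row 7 (rv 3) = [((rv 1), 2, -1), ((rv 2), 1, 2), ((rv 3), 0, 1)] by decide +kernel] at h
  refine h.trans ?_
  simp only [add_assoc, _root_.Fin.isValue, _root_.Int.reduceNeg, _root_.List.map_cons, _root_.Int.cast_neg, _root_.Int.cast_one, _root_.neg_mul, _root_.one_mul, _root_.Int.cast_ofNat, _root_.pow_one, _root_.pow_zero, _root_.mul_one, _root_.one_smul, _root_.List.map_nil, _root_.List.sum_cons, _root_.List.sum_nil, _root_.add_zero, _root_.LinearMap.add_apply, _root_.LinearMap.smul_apply, _root_.smul_eq_mul]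

theorem R_7_6 (t : K) (x : chevG2.Idx → K) : l (rv 6) (a14 K (xg 7 t) x) = l (rv 6) x := by
  have h := LinearMap.congr_fun (a14_row (K := K) 7 (rv 6) t) x
  rw [show row 7 (rv 6) = [((rv 6), 0, 1)] by decide +kernel] at h
  refine h.trans ?_
  simp [add_assoc]

theorem R_7_8 (t : K) (x : chevG2.Idx → K) : l (rv 8) (a14 K (xg 7 t) x) = (-t) * l (rv 6) x + l (rv 8) x := by
  have h := LinearMap.congr_fun (a14_row (K := K) 7 (rv 8) t) x
  rw [show row 7 (rv 8) = [((rv 6), 1, -1), ((rv 8), 0, 1)] by decide +kernel] at h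
  refine h.trans ?_
  simp only [add_assoc, _root_.Fin.isValue, _root_.Int.reduceNeg, _root_.List.map_cons, _root_.Int.cast_neg, _root_.Int.cast_one, _root_.pow_one, _root_.neg_mul, _root_.one_mul, _root_.pow_zero, _root_.mul_one, _root_.one_smul, _root_.List.map_nil, _root_.List.sum_cons, _root_.List.sum_nil, _root_.add_zero, _root_.LinearMap.add_apply, _root_.LinearMap.smul_apply, _root_.smul_eq_mul]

theorem R_7_9 (t : K) (x : chevG2.Idx → K) : l (rv 9) (a14 K (xg 7 t) x) = (t ^ 2) * l (rv 6) x + (-2 * t) * l (rv 8) x + l (rv 9) x := by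
  have h := LinearMap.congr_fun (a14_row (K := K) 7 (rv 9) t) x
  rw [show row 7 (rv 9) = [((rv 6), 2, 1), ((rv 8), 1, -2), ((rv 9), 0, 1)] by decide +kernel] at h
  refine h.trans ?_
  simp only [add_assoc, _root_.Fin.isValue, _root_.Int.reduceNeg, _root_.List.map_cons, _root_.Int.cast_one, _root_.one_mul, _root_.Int.cast_neg, _root_.Int.cast_ofNat, _root_.pow_one, _root_.neg_mul, _root_.pow_zero, _root_.mul_one, _root_.one_smul, _root_.List.map_nil, _root_.List.sum_cons, _root_.List.sum_nil, _root_.add_zero, _root_.LinearMap.add_apply, _root_.LinearMap.smul_apply, _root_.smul_eq_mul]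

theorem R_7_10 (t : K) (x : chevG2.Idx → K) : l (rv 10) (a14 K (xg 7 t) x) = (t ^ 3) * l (rv 6) x + (-3 * t ^ 2) * l (rv 8) x + (3 * t) * l (rv 9) x + l (rv 10) x := by
  have h := LinearMap.congr_fun (a14_row (K := K) 7 (rv 10) t) x
  rw [show row 7 (rv 10) = [((rv 6), 3, 1), ((rv 8), 2, -3), ((rv 9), 1, 3), ((rv 10), 0, 1)] by decide +kernel] at h
  refine h.trans ?_
  simp only [add_assoc, _root_.Fin.isValue, _root_.Int.reduceNeg, _root_.List.map_cons, _root_.Int.cast_one, _root_.one_mul, _root_.Int.cast_neg, _root_.Int.cast_ofNat, _root_.neg_mul, _root_.pow_one, _root_.pow_zero, _root_.mul_one, _root_.one_smul, _root_.List.map_nil, _root_.List.sum_cons, _root_.List.sum_nil, _root_.add_zero, _root_.LinearMap.add_apply, _root_.LinearMap.smul_apply, _root_.smul_eq_mul]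

theorem R_7_11 (t : K) (x : chevG2.Idx → K) : l (rv 11) (a14 K (xg 7 t) x) = l (rv 11) x := by
  have h := LinearMap.congr_fun (a14_row (K := K) 7 (rv 11) t) x
  rw [show row 7 (rv 11) = [((rv 11), 0, 1)] by decide +kernel] at h
  refine h.trans ?_
  simp [add_assoc]

theorem R_10_11 (t : K) (x : chevG2.Idx → K) : l (rv 11) (a14 K (xg 10 t) x) = (-t) * l (rv 6) x + l (rv 11) x := by
  have h := LinearMap.congr_fun (a14_row (K := K) 10 (rv 11) t) x
  rw [show row 10 (rv 11) = [((rv 6), 1, -1), ((rv 11), 0, 1)] by decide +kernel] at h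
  refine h.trans ?_
  simp only [add_assoc, _root_.Fin.isValue, _root_.Int.reduceNeg, _root_.List.map_cons, _root_.Int.cast_neg, _root_.Int.cast_one, _root_.pow_one, _root_.neg_mul, _root_.one_mul, _root_.pow_zero, _root_.mul_one, _root_.one_smul, _root_.List.map_nil, _root_.List.sum_cons, _root_.List.sum_nil, _root_.add_zero, _root_.LinearMap.add_apply, _root_.LinearMap.smul_apply, _root_.smul_eq_mul]

theorem NC0_11 : a14 K (n2 K 0) (e (rv 11)) = (1 : K) • e (rv 11) := by
  rw [n2_0]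
  simp only [a14_mul, map_add, map_smul, C_4_11, C_7_11]
  module

theorem NC0_10 : a14 K (n2 K 0) (e (rv 10)) = (-1 : K) • e (rv 6) := by
  rw [n2_0]
  simp only [a14_mul, map_add, map_smul, C_4_10, C_7_6, C_7_8, C_7_9, C_7_10]
  module

theorem NC0_5 : a14 K (n2 K 0) (e (rv 5)) = (1 : K) • e (rv 1) := by
  rw [n2_0]
  simp only [a14_mul, map_add, map_smul, C_4_5, C_7_1, C_7_2, C_7_3, C_7_5]
  module

theorem NC0_0 : a14 K (n2 K 0) (e (rv 0)) = (1 : K) • e (rv 0) := by
  rw [n2_0]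
  simp only [a14_mul, map_add, map_smul, C_4_0, C_7_0]
  module

theorem NC0_1 : a14 K (n2 K 0) (e (rv 1)) = (-1 : K) • e (rv 5) := by
  rw [n2_0]
  simp only [a14_mul, map_add, map_smul, C_4_1, C_4_2, C_4_3, C_4_5, C_7_1, C_7_2, C_7_3, C_7_5]
  module

theorem NC0_6 : a14 K (n2 K 0) (e (rv 6)) = (1 : K) • e (rv 10) := by
  rw [n2_0]
  simp only [a14_mul, map_add, map_smul, C_4_6, C_4_8, C_4_9, C_4_10, C_7_6, C_7_8, C_7_9, C_7_10]
  module

theorem NC1_11 : a14 K (n2 K 1) (e (rv 11)) = (-1 : K) • e (rv 10) := by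
  rw [n2_1]
  simp only [a14_mul, map_add, map_smul, C_5_11, C_6_10, C_6_11]
  module

theorem NC1_10 : a14 K (n2 K 1) (e (rv 10)) = (1 : K) • e (rv 11) := by
  rw [n2_1]
  simp only [a14_mul, map_add, map_smul, C_5_10, C_5_11, C_6_10, C_6_11]
  module

theorem NC1_5 : a14 K (n2 K 1) (e (rv 5)) = (-1 : K) • e (rv 6) := by
  rw [n2_1]
  simp only [a14_mul, map_add, map_smul, C_5_h1, C_5_5, C_5_6, C_6_h1, C_6_5, C_6_6]
  module

theorem NC1_0 : a14 K (n2 K 1) (e (rv 0)) = (-1 : K) • e (rv 1) := by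
  rw [n2_1]
  simp only [a14_mul, map_add, map_smul, C_5_0, C_5_1, C_6_0, C_6_1]
  module

theorem NC1_1 : a14 K (n2 K 1) (e (rv 1)) = (1 : K) • e (rv 0) := by
  rw [n2_1]
  simp only [a14_mul, map_add, map_smul, C_5_1, C_6_0, C_6_1]
  module

theorem NC1_6 : a14 K (n2 K 1) (e (rv 6)) = (-1 : K) • e (rv 5) := by
  rw [n2_1]
  simp only [a14_mul, map_add, map_smul, C_5_6, C_6_h1, C_6_5, C_6_6]
  module

theorem NR0_11 : l (rv 11) ∘ₗ a14 K (n2 K 0) = (1 : K) • l (rv 11) := by
  refine LinearMap.ext fun x => ?_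
  rw [LinearMap.comp_apply, LinearMap.smul_apply, smul_eq_mul, n2_0]
  simp only [a14_mul, R_4_11, R_7_11]
  ring

theorem NR0_10 : l (rv 10) ∘ₗ a14 K (n2 K 0) = (1 : K) • l (rv 6) := by
  refine LinearMap.ext fun x => ?_
  rw [LinearMap.comp_apply, LinearMap.smul_apply, smul_eq_mul, n2_0]
  simp only [a14_mul, R_4_6, R_4_8, R_4_9, R_4_10, R_7_6, R_7_8, R_7_9, R_7_10]
  ring

theorem NR0_5 : l (rv 5) ∘ₗ a14 K (n2 K 0) = (-1 : K) • l (rv 1) := by
  refine LinearMap.ext fun x => ?_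
  rw [LinearMap.comp_apply, LinearMap.smul_apply, smul_eq_mul, n2_0]
  simp only [a14_mul, R_4_1, R_4_2, R_4_3, R_4_5, R_7_1, R_7_2, R_7_3, R_7_5]
  ring

theorem NR0_0 : l (rv 0) ∘ₗ a14 K (n2 K 0) = (1 : K) • l (rv 0) := by
  refine LinearMap.ext fun x => ?_
  rw [LinearMap.comp_apply, LinearMap.smul_apply, smul_eq_mul, n2_0]
  simp only [a14_mul, R_4_0, R_7_0]
  ring

theorem NR0_1 : l (rv 1) ∘ₗ a14 K (n2 K 0) = (1 : K) • l (rv 5) := by
  refine LinearMap.ext fun x => ?_
  rw [LinearMap.comp_apply, LinearMap.smul_apply, smul_eq_mul, n2_0]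
  simp only [a14_mul, R_4_1, R_7_1, R_7_2, R_7_3, R_7_5]
  ring

theorem NR0_6 : l (rv 6) ∘ₗ a14 K (n2 K 0) = (-1 : K) • l (rv 10) := by
  refine LinearMap.ext fun x => ?_
  rw [LinearMap.comp_apply, LinearMap.smul_apply, smul_eq_mul, n2_0]
  simp only [a14_mul, R_4_6, R_7_6, R_7_8, R_7_9, R_7_10]
  ring

theorem NR1_11 : l (rv 11) ∘ₗ a14 K (n2 K 1) = (1 : K) • l (rv 10) := by
  refine LinearMap.ext fun x => ?_
  rw [LinearMap.comp_apply, LinearMap.smul_apply, smul_eq_mul, n2_1]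
  simp only [a14_mul, R_5_10, R_5_11, R_6_10, R_6_11]
  ring

theorem NR1_10 : l (rv 10) ∘ₗ a14 K (n2 K 1) = (-1 : K) • l (rv 11) := by
  refine LinearMap.ext fun x => ?_
  rw [LinearMap.comp_apply, LinearMap.smul_apply, smul_eq_mul, n2_1]
  simp only [a14_mul, R_5_10, R_6_10, R_6_11]
  ring

theorem NR1_5 : l (rv 5) ∘ₗ a14 K (n2 K 1) = (-1 : K) • l (rv 6) := by
  refine LinearMap.ext fun x => ?_
  rw [LinearMap.comp_apply, LinearMap.smul_apply, smul_eq_mul, n2_1]
  simp only [a14_mul, R_5_5, R_6_h0, R_6_h1, R_6_5, R_6_6]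
  ring

theorem NR1_0 : l (rv 0) ∘ₗ a14 K (n2 K 1) = (1 : K) • l (rv 1) := by
  refine LinearMap.ext fun x => ?_
  rw [LinearMap.comp_apply, LinearMap.smul_apply, smul_eq_mul, n2_1]
  simp only [a14_mul, R_5_0, R_6_0, R_6_1]
  ring

theorem NR1_1 : l (rv 1) ∘ₗ a14 K (n2 K 1) = (-1 : K) • l (rv 0) := by
  refine LinearMap.ext fun x => ?_
  rw [LinearMap.comp_apply, LinearMap.smul_apply, smul_eq_mul, n2_1]
  simp only [a14_mul, R_5_0, R_5_1, R_6_0, R_6_1]
  ring

theorem NR1_6 : l (rv 6) ∘ₗ a14 K (n2 K 1) = (-1 : K) • l (rv 5) := by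
  refine LinearMap.ext fun x => ?_
  rw [LinearMap.comp_apply, LinearMap.smul_apply, smul_eq_mul, n2_1]
  simp only [a14_mul, R_5_h0, R_5_h1, R_5_5, R_5_6, R_6_h0, R_6_h1, R_6_5, R_6_6]
  ring

end Cfsg.Agent.H927.G2
end

-- part: H927/LDMatch
section
/-!
# Lower bounds for modules with a known coefficient (helper927)

`φ₀ (ρ g v₀) = F (top (act g e₀))`: `Col x v` : `v` corresponds to the vector `x`; `Row ℓ ψ` : `ψ` corresponds to the
functional `ℓ`. `schur_le`, `dual_le` : the lower bounds.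
-/

set_option autoImplicit false
set_option linter.unusedSectionVars false

namespace Cfsg.Agent.H927.LD

open Module

section lin

variable {k V : Type*} [Field k] [AddCommGroup V] [Module k V] [FiniteDimensional k V]

/-- vertices and extras -/
theorem schur_le {α β : Type*} [Fintype α] [Fintype β] [DecidableEq α] (v : α → V) (u : β → V)
    (φ : α → Dual k V) (ψ : β → Dual k V) (h1 : ∀ a b, φ a (v b) = if a = b then 1 else 0)
    (h2 : ∀ m m', m ≠ m' → ψ m (u m') = ∑ a, ψ m (v a) * φ a (u m'))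
    (h3 : ∀ m, ψ m (u m) ≠ ∑ a, ψ m (v a) * φ a (u m)) :
    Fintype.card α + Fintype.card β ≤ finrank k V := by
  classical
  have hli : LinearIndependent k (Sum.elim v u) := by
    rw [Fintype.linearIndependent_iff]
    intro c hc
    rw [Fintype.sum_sum_type] at hc
    simp only [Sum.elim_inl, Sum.elim_inr] at hc
    have hb : ∀ m, c (Sum.inr m) = 0 := by
      intro m
      have e1 := congrArg (fun z => ψ m z - ∑ a, ψ m (v a) * φ a z) hc
      simp only [map_add, map_sum, map_smul, smul_eq_mul, map_zero, mul_zero, Finset.sum_const_zero, sub_zero] at e1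
      have e2 : ∑ a, ψ m (v a) * (∑ b, c (Sum.inl b) * φ a (v b) + ∑ m', c (Sum.inr m') * φ a (u m')) =
          ∑ a, c (Sum.inl a) * ψ m (v a) + ∑ m', c (Sum.inr m') * ∑ a, ψ m (v a) * φ a (u m') := by
        simp only [mul_add, Finset.sum_add_distrib]
        congr 1
        · refine Finset.sum_congr rfl fun a _ => ?_
          rw [Finset.sum_eq_single a]
          · rw [h1, if_pos rfl]; ring
          · intro b _ hb
            rw [h1, if_neg (Ne.symm hb), mul_zero]
          · intro ha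
            exact absurd (Finset.mem_univ a) ha
        · simp only [Finset.mul_sum]
          rw [Finset.sum_comm]
          refine Finset.sum_congr rfl fun m' _ => Finset.sum_congr rfl fun a _ => ?_
          ring
      rw [e2] at e1
      have e3 : ∑ m', c (Sum.inr m') * (ψ m (u m') - ∑ a, ψ m (v a) * φ a (u m')) = 0 := by
        simp only [mul_sub, Finset.sum_sub_distrib]
        linear_combination e1
      rw [Finset.sum_eq_single m] at e3
      · exact (mul_eq_zero.1 e3).resolve_right (sub_ne_zero.2 (h3 m))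
      · intro m' _ hm
        rw [h2 m m' (Ne.symm hm), sub_self, mul_zero]
      · intro hm
        exact absurd (Finset.mem_univ m) hm
    have ha : ∀ a, c (Sum.inl a) = 0 := by
      intro a
      have e1 := congrArg (fun z => φ a z) hc
      simp only [map_add, map_sum, map_smul, smul_eq_mul, map_zero, hb, zero_mul, Finset.sum_const_zero, add_zero] at e1
      rw [Finset.sum_eq_single a] at e1
      · rw [h1, if_pos rfl, mul_one] at e1
        exact e1
      · intro b _ hb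
        rw [h1, if_neg (Ne.symm hb), mul_zero]
      · intro ha
        exact absurd (Finset.mem_univ a) ha
    rintro (a | m)
    · exact ha a
    · exact hb m
  have := hli.fintype_card_le_finrank
  rwa [Fintype.card_sum] at this

/-- dual families -/
theorem dual_le {α : Type*} [Fintype α] [DecidableEq α] (v : α → V) (φ : α → Dual k V)
    (h1 : ∀ a, φ a (v a) ≠ 0) (h2 : ∀ a b, a ≠ b → φ a (v b) = 0) : Fintype.card α ≤ finrank k V := by
  have hli : LinearIndependent k v := by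
    rw [Fintype.linearIndependent_iff]
    intro c hc a
    have e1 := congrArg (fun z => φ a z) hc
    simp only [map_sum, map_smul, smul_eq_mul, map_zero] at e1
    rw [Finset.sum_eq_single a] at e1
    · exact (mul_eq_zero.1 e1).resolve_right (h1 a)
    · intro b _ hb
      rw [h2 a b (Ne.symm hb), mul_zero]
    · intro ha
      exact absurd (Finset.mem_univ a) ha
  exact hli.fintype_card_le_finrank

end lin

section match_

variable {G K E k V : Type*} [Group G] [Field K] [AddCommGroup E] [Module K E] [Field k] [AddCommGroup V] [Module k V]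
  {act : G →* Module.End K E} {top : E →ₗ[K] K} {e₀ : E} {F : K →*₀ k} {ρ : G →* Module.End k V} {φ₀ : Dual k V} {v₀ : V}

/-- `v` corresponds to `x` -/
def Col (act : G →* Module.End K E) (top : E →ₗ[K] K) (F : K →*₀ k) (ρ : G →* Module.End k V) (φ₀ : Dual k V)
    (x : E) (v : V) : Prop := ∀ g, φ₀ (ρ g v) = F (top (act g x))

/-- `ψ` corresponds to `ℓ` -/
def Row (act : G →* Module.End K E) (top : E →ₗ[K] K) (F : K →*₀ k) (ρ : G →* Module.End k V) (φ₀ : Dual k V)
    (ℓ : E →ₗ[K] K) (ψ : Dual k V) : Prop := ∀ x v, Col act top F ρ φ₀ x v → ψ v = F (ℓ x)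

theorem Col.move {x : E} {v : V} (h : Col act top F ρ φ₀ x v) (a : G) : Col act top F ρ φ₀ (act a x) (ρ a v) := by
  intro g
  have := h (g * a)
  rw [map_mul, map_mul] at this
  exact this

theorem Row.base : Row act top F ρ φ₀ top φ₀ := by
  intro x v h
  have := h 1
  rw [map_one, map_one] at this
  exact this

theorem Row.comp {ℓ : E →ₗ[K] K} {ψ : Dual k V} (h : Row act top F ρ φ₀ ℓ ψ) (a : G) :
    Row act top F ρ φ₀ (ℓ ∘ₗ act a) (ψ ∘ₗ ρ a) := fun _ _ hx => h _ _ (hx.move a)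

theorem Col.smul {x : E} {v : V} (h : Col act top F ρ φ₀ x v) (c : K) : Col act top F ρ φ₀ (c • x) (F c • v) := by
  intro g
  rw [map_smul, map_smul, map_smul, map_smul, h g, smul_eq_mul, smul_eq_mul, map_mul]

theorem Row.smul {ℓ : E →ₗ[K] K} {ψ : Dual k V} (h : Row act top F ρ φ₀ ℓ ψ) (c : K) :
    Row act top F ρ φ₀ (c • ℓ) (F c • ψ) := fun x v hx => by
  rw [LinearMap.smul_apply, LinearMap.smul_apply, h x v hx, smul_eq_mul, smul_eq_mul, map_mul]

section additive

variable (hadd : ∀ x y, F (x + y) = F x + F y)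
include hadd

theorem Col.add {x x' : E} {v v' : V} (h : Col act top F ρ φ₀ x v) (h' : Col act top F ρ φ₀ x' v') :
    Col act top F ρ φ₀ (x + x') (v + v') := by
  intro g
  rw [map_add, map_add, map_add, map_add, h g, h' g, hadd]

theorem Row.add {ℓ ℓ' : E →ₗ[K] K} {ψ ψ' : Dual k V} (h : Row act top F ρ φ₀ ℓ ψ) (h' : Row act top F ρ φ₀ ℓ' ψ') :
    Row act top F ρ φ₀ (ℓ + ℓ') (ψ + ψ') := fun x v hx => by
  rw [LinearMap.add_apply, LinearMap.add_apply, h x v hx, h' x v hx, hadd]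

end additive

/-- the matched vectors -/
def colSub (hadd : ∀ x y, F (x + y) = F x + F y) (act : G →* Module.End K E) (top : E →ₗ[K] K)
    (ρ : G →* Module.End k V) (φ₀ : Dual k V) : Submodule K E where
  carrier := {x | ∃ v, Col act top F ρ φ₀ x v}
  add_mem' := by
    rintro x x' ⟨v, h⟩ ⟨v', h'⟩
    exact ⟨_, h.add hadd h'⟩
  zero_mem' := ⟨0, fun g => by simp⟩
  smul_mem' := by
    rintro c x ⟨v, h⟩
    exact ⟨_, h.smul c⟩

/-- the matched functionals -/
def rowSub (hadd : ∀ x y, F (x + y) = F x + F y) (act : G →* Module.End K E) (top : E →ₗ[K] K)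
    (ρ : G →* Module.End k V) (φ₀ : Dual k V) : Submodule K (E →ₗ[K] K) where
  carrier := {ℓ | ∃ ψ, Row act top F ρ φ₀ ℓ ψ}
  add_mem' := by
    rintro x x' ⟨v, h⟩ ⟨v', h'⟩
    exact ⟨_, h.add hadd h'⟩
  zero_mem' := ⟨0, fun x v _ => by simp⟩
  smul_mem' := by
    rintro c x ⟨v, h⟩
    exact ⟨_, h.smul c⟩

theorem act_mem_colSub {hadd : ∀ x y, F (x + y) = F x + F y} {x : E} (h : x ∈ colSub hadd act top ρ φ₀) (a : G) :
    act a x ∈ colSub hadd act top ρ φ₀ := by
  obtain ⟨v, h⟩ := h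
  exact ⟨_, h.move a⟩

theorem comp_mem_rowSub {hadd : ∀ x y, F (x + y) = F x + F y} {ℓ : E →ₗ[K] K} (h : ℓ ∈ rowSub hadd act top ρ φ₀) (a : G) :
    ℓ ∘ₗ act a ∈ rowSub hadd act top ρ φ₀ := by
  obtain ⟨v, h⟩ := h
  exact ⟨_, h.comp a⟩

/-- the lower bound, `F` additive -/
theorem le_finrank_of_sub [FiniteDimensional k V] (hadd : ∀ x y, F (x + y) = F x + F y) {α : Type*} [Fintype α] [DecidableEq α] (x : α → E)
    (ℓ : α → E →ₗ[K] K) (hx : ∀ a, x a ∈ colSub hadd act top ρ φ₀) (hℓ : ∀ a, ℓ a ∈ rowSub hadd act top ρ φ₀)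
    (h1 : ∀ a, ℓ a (x a) ≠ 0) (h2 : ∀ a b, a ≠ b → ℓ a (x b) = 0) : Fintype.card α ≤ finrank k V := by
  choose v hv using hx
  choose ψ hψ using hℓ
  refine dual_le v ψ (fun a => ?_) (fun a b hab => ?_)
  · rw [hψ a _ _ (hv a)]
    exact (map_ne_zero F).2 (h1 a)
  · rw [hψ a _ _ (hv b), h2 a b hab, map_zero]

/-- `F` is additive if `F (1 + c) = 1 + F c` -/
theorem additive_of {F : K →*₀ k} (h : ∀ c, F (1 + c) = 1 + F c) (x y : K) : F (x + y) = F x + F y := by
  by_cases hx : x = 0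
  · rw [hx, zero_add, map_zero, zero_add]
  · have h1 : x + y = x * (1 + x⁻¹ * y) := by field_simp
    rw [h1, map_mul, h, mul_add, mul_one, ← map_mul, mul_inv_cancel_left₀ hx]

/-- the lower bound with vertices and pairs, `F` not additive -/
theorem pairs_le [FiniteDimensional k V] {c : K} (hc : F (1 + c) ≠ 1 + F c) {α β : Type*} [Fintype α] [Fintype β] [DecidableEq α]
    (e : α → E) (ℓ : α → E →ₗ[K] K) (hd : ∀ a b, ℓ a (e b) = if a = b then 1 else 0)
    (v : α → V) (hv : ∀ a, Col act top F ρ φ₀ (e a) (v a)) (φ : α → Dual k V) (hφ : ∀ a, Row act top F ρ φ₀ (ℓ a) (φ a))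
    (i j : β → α) (u : β → V) (hu : ∀ m, Col act top F ρ φ₀ (e (i m) + c • e (j m)) (u m))
    (ψ : β → Dual k V) (hψ : ∀ m, Row act top F ρ φ₀ (ℓ (i m) + ℓ (j m)) (ψ m))
    (hij : ∀ m, i m ≠ j m)
    (hne : ∀ m m', m ≠ m' → (i m ≠ i m' ∧ i m ≠ j m') ∨ (j m ≠ i m' ∧ j m ≠ j m'))
    {γ : Type*} [Fintype γ] [DecidableEq γ] [DecidableEq β] [Subsingleton γ] (w : γ → E) (uw : γ → V) (hw : ∀ a, Col act top F ρ φ₀ (w a) (uw a))
    (ω : γ → E →ₗ[K] K) (ψw : γ → Dual k V) (hω : ∀ a, Row act top F ρ φ₀ (ω a) (ψw a))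
    (h1 : ∀ a, ω a (w a) ≠ 0) (h2 : ∀ a b, ω a (e b) = 0 ∨ ℓ b (w a) = 0)
    (h3 : ∀ a m, ω a (e (i m)) = 0 ∨ ω a (e (j m)) = 0) (h4 : ∀ a m, ℓ (i m) (w a) = 0 ∨ ℓ (j m) (w a) = 0) :
    Fintype.card α + (Fintype.card β + Fintype.card γ) ≤ finrank k V := by
  rw [← Fintype.card_sum]
  have hcol : ∀ a m, φ a (u m) = F ((if a = i m then 1 else 0) + c * (if a = j m then 1 else 0)) := by
    intro a m
    rw [hφ a _ _ (hu m), map_add, map_smul, hd, hd, smul_eq_mul]
  have hrow : ∀ m a, ψ m (v a) = F ((if i m = a then 1 else 0) + (if j m = a then 1 else 0)) := by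
    intro m a
    rw [hψ m _ _ (hv a), LinearMap.add_apply, hd, hd]
  -- the sum over the vertices
  have hsum : ∀ m (z : E) (y : V), Col act top F ρ φ₀ z y →
      ∑ a, ψ m (v a) * φ a y = F (ℓ (i m) z) + F (ℓ (j m) z) := by
    intro m z y hy
    have e1 : ∀ a, ψ m (v a) * φ a y = (if a = i m then F (ℓ (i m) z) else 0) + (if a = j m then F (ℓ (j m) z) else 0) := by
      intro a
      rw [hrow, hφ a _ _ hy]
      by_cases ha : a = i m
      · subst ha
        rw [if_pos rfl, if_neg (hij m).symm, if_pos rfl, if_neg (hij m), add_zero, map_one, one_mul, add_zero]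
      · by_cases hb : a = j m
        · subst hb
          rw [if_neg (hij m), if_pos rfl, if_neg ha, if_pos rfl, zero_add, map_one, one_mul, zero_add]
        · rw [if_neg (Ne.symm ha), if_neg (Ne.symm hb), if_neg ha, if_neg hb, add_zero, map_zero, zero_mul, add_zero]
    rw [Finset.sum_congr rfl fun a _ => e1 a, Finset.sum_add_distrib, Finset.sum_ite_eq', Finset.sum_ite_eq',
      if_pos (Finset.mem_univ _), if_pos (Finset.mem_univ _)]
  have hsumw : ∀ a (z : E) (y : V), Col act top F ρ φ₀ z y →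
      ∑ b, ψw a (v b) * φ b y = ∑ b, F (ω a (e b) * ℓ b z) := by
    intro a z y hy
    refine Finset.sum_congr rfl fun b _ => ?_
    rw [hω a _ _ (hv b), hφ b _ _ hy, map_mul]
  refine schur_le v (Sum.elim u uw) φ (Sum.elim ψ ψw) (fun a b => ?_) ?_ ?_
  · rw [hφ a _ _ (hv b), hd]
    split_ifs
    · exact map_one F
    · exact map_zero F
  · rintro (m | a) (m' | a') hmm
    · have hmm' : m ≠ m' := fun h => hmm (by rw [h])
      simp only [Sum.elim_inl]
      rw [hsum m _ _ (hu m'), hψ m _ _ (hu m')]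
      simp only [LinearMap.add_apply, map_add, map_smul, hd, smul_eq_mul]
      rcases hne m m' hmm' with ⟨h5, h6⟩ | ⟨h5, h6⟩
      · simp only [h5, h6, ↓ _root_.reduceIte, _root_.zero_add, _root_.mul_ite, _root_.mul_one, _root_.MulZeroClass.mul_zero, _root_.add_zero, _root_.map_zero]
      · simp only [h5, h6, ↓ _root_.reduceIte, _root_.add_zero, _root_.mul_ite, _root_.mul_one, _root_.MulZeroClass.mul_zero, _root_.map_zero]
    · simp only [Sum.elim_inl, Sum.elim_inr]
      rw [hsum m _ _ (hw a'), hψ m _ _ (hw a'), LinearMap.add_apply]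
      rcases h4 a' m with h5 | h5
      · rw [h5, map_zero, zero_add, zero_add]
      · rw [h5, map_zero, add_zero, add_zero]
    · simp only [Sum.elim_inl, Sum.elim_inr]
      rw [hsumw a _ _ (hu m'), hω a _ _ (hu m'), map_add, map_smul, smul_eq_mul]
      have e1 : ∀ b, F (ω a (e b) * ℓ b (e (i m') + c • e (j m'))) =
          (if b = i m' then F (ω a (e (i m'))) else 0) + (if b = j m' then F (c * ω a (e (j m'))) else 0) := by
        intro b
        rw [map_add, map_smul, hd, hd, smul_eq_mul]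
        by_cases ha : b = i m'
        · subst ha
          rw [if_pos rfl, if_neg (hij m'), if_pos rfl, if_neg (hij m'), mul_zero, add_zero, mul_one, add_zero]
        · by_cases hb : b = j m'
          · subst hb
            rw [if_neg ha, if_pos rfl, if_neg ha, if_pos rfl, zero_add, mul_one, zero_add, mul_comm]
          · rw [if_neg ha, if_neg hb, if_neg ha, if_neg hb, mul_zero, add_zero, mul_zero, map_zero, add_zero]
      rw [Finset.sum_congr rfl fun b _ => e1 b, Finset.sum_add_distrib, Finset.sum_ite_eq', Finset.sum_ite_eq',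
        if_pos (Finset.mem_univ _), if_pos (Finset.mem_univ _)]
      rcases h3 a m' with h5 | h5
      · rw [h5, map_zero, zero_add, zero_add]
      · rw [h5, mul_zero, map_zero, add_zero, add_zero]
    · exact absurd (congrArg Sum.inr (Subsingleton.elim a a')) hmm
  · rintro (m | a)
    · simp only [Sum.elim_inl]
      rw [hsum m _ _ (hu m), hψ m _ _ (hu m)]
      simp only [LinearMap.add_apply, map_add, map_smul, hd, smul_eq_mul, if_pos, if_neg (hij m), if_neg (hij m).symm,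
        mul_zero, mul_one, add_zero, zero_add, map_one]
      exact hc
    · simp only [Sum.elim_inr]
      rw [hsumw a _ _ (hw a), hω a _ _ (hw a)]
      have e1 : ∀ b, F (ω a (e b) * ℓ b (w a)) = 0 := by
        intro b
        rcases h2 a b with h5 | h5
        · rw [h5, zero_mul, map_zero]
        · rw [h5, mul_zero, map_zero]
      rw [Finset.sum_congr rfl fun b _ => e1 b, Finset.sum_const_zero]
      exact (map_ne_zero F).2 (h1 a)

end match_

end Cfsg.Agent.H927.LD
end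

-- part: H927/G2Lo8
section
/-!
# Simple modules of `G₂(K)` with highest weight a multiple of the first fundamental weight (helper927)
-/

set_option autoImplicit false
set_option linter.unusedSectionVars false
set_option linter.style.haveILetI false

namespace Cfsg.Agent.H927.LD

open Module

section match_

variable {G K E k V : Type*} [Group G] [Field K] [AddCommGroup E] [Module K E] [Field k] [AddCommGroup V] [Module k V]
  {act : G →* Module.End K E} {top : E →ₗ[K] K} {e₀ : E} {F : K →*₀ k} {ρ : G →* Module.End k V} {φ₀ : Dual k V} {v₀ : V}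

theorem col_of (hb : Col act top F ρ φ₀ e₀ v₀) (g : G) {x : E} (h : act g e₀ = x) :
    Col act top F ρ φ₀ x (ρ g v₀) := h ▸ hb.move g

theorem row_of (g : G) {ℓ : E →ₗ[K] K} (h : top ∘ₗ act g = ℓ) :
    Row act top F ρ φ₀ ℓ (φ₀ ∘ₗ ρ g) := h ▸ Row.base.comp g

end match_

end Cfsg.Agent.H927.LD

namespace Cfsg.Agent.H927.G2

open Cfsg.Agent.H927.LD
open Module

variable {K : Type} [Field K]

/-- basis vectors -/
def E8 (K : Type) [Field K] (i : Fin 8) : Fin 8 → K := Pi.single i 1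
/-- coordinates -/
def L8 (K : Type) [Field K] (i : Fin 8) : (Fin 8 → K) →ₗ[K] K := LinearMap.proj i

theorem L8_E8 (i j : Fin 8) : L8 K i (E8 K j) = if i = j then 1 else 0 := by
  change (Pi.single j 1 : Fin 8 → K) i = _
  rw [Pi.single_apply]

variable [Finite K]

section words

/-- the positions -/
def ix : Fin 6 → Fin 8 := ![1, 2, 3, 4, 5, 6]
/-- the first elements of the pairs -/
def pi8 : Fin 7 → Fin 6 := ![5, 5, 5, 5, 4, 4, 4]
/-- the second elements of the pairs -/
def pj8 : Fin 7 → Fin 6 := ![1, 0, 3, 4, 3, 0, 2]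

/-- the elements for the vertices -/
def gv8 (K : Type) [Field K] : Fin 6 → GK K := ![xg 8 (-1) * xg 3 1, xg 7 1 * xg 4 (-1),
  xg 7 (-1) * (xg 4 1 * (xg 11 (-1) * xg 0 1)), xg 10 (-1) * xg 1 1, xg 11 (-1) * xg 0 1, 1]

/-- the elements for the pairs -/
def gp8 (s : K) : Fin 7 → GK K := ![xg 4 (-s), xg 3 s, xg 1 s, xg 0 s, xg 6 (-s) * (xg 11 (-1) * xg 0 1),
  xg 9 s * (xg 11 (-1) * xg 0 1), xg 4 s * (xg 11 (-1) * xg 0 1)]

/-- the elements for the row vertices -/
def rv8 (K : Type) [Field K] : Fin 6 → GK K := ![xg 8 1 * xg 3 (-1), xg 7 (-1) * xg 4 1,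
  (xg 11 1 * xg 0 (-1)) * (xg 7 1 * xg 4 (-1)), xg 10 1 * xg 1 (-1), xg 11 1 * xg 0 (-1), 1]

/-- the elements for the row pairs -/
def rp8 (K : Type) [Field K] : Fin 7 → GK K := ![xg 7 (-1), xg 8 1, xg 10 1, xg 11 1, (xg 11 1 * xg 0 (-1)) * xg 5 (-1),
  (xg 11 1 * xg 0 (-1)) * xg 2 1, (xg 11 1 * xg 0 (-1)) * xg 7 1]

theorem a8_11_0 (x : Fin 8 → K) (hx : x = e8 K) : a8 K (xg 11 (-1) * xg 0 1) x = E8 K 5 := by
  subst hx
  rw [a8_mul, a8_0, a8_11]; ext i; (revert i; simp only [e8, E8, _root_.Fin.forall_fin_succ, _root_.Nat.succ_eq_add_one, Nat.reduceAdd, Fin.isValue, _root_.ne_eq, Fin.reduceEq, _root_.not_false_eq_true, _root_.Pi.single_eq_of_ne, _root_.MulZeroClass.mul_zero, _root_.sub_self, _root_.Pi.single_eq_same, _root_.mul_one, _root_.zero_add, _root_.Matrix.cons_val_zero, _root_.Matrix.cons_val_one, _root_.Matrix.cons_val, _root_.add_neg_cancel, _root_.Matrix.cons_val_succ, _root_.Fin.succ_zero_eq_one, _root_.Fin.succ_one_eq_two, Fin.reduceSucc,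 _root_.Matrix.cons_val_fin_one, _root_.IsEmpty.forall_iff, _root_.and_self])

theorem gv8_e (a : Fin 6) : a8 K (gv8 K a) (e8 K) = E8 K (ix a) := by
  fin_cases a
  · change a8 K (xg 8 (-1) * xg 3 1) _ = E8 K 1
    rw [a8_mul, a8_3, a8_8]; ext i; (revert i; simp only [e8, E8, _root_.Fin.forall_fin_succ, _root_.Nat.succ_eq_add_one, Nat.reduceAdd, Fin.isValue, _root_.ne_eq, Fin.reduceEq, _root_.not_false_eq_true, _root_.Pi.single_eq_of_ne, _root_.MulZeroClass.mul_zero, _root_.sub_self, _root_.Pi.single_eq_same, _root_.mul_one, _root_.zero_add, _root_.add_zero, _root_.one_pow, _root_.Matrix.cons_val_zero, _root_.Matrix.cons_val, _root_.Matrix.cons_val_one, _root_.even_two, _root_.Even.neg_pow, _root_.add_neg_cancel, _root_.zero_ne_one, _root_.Matrix.cons_val_succ, _root_.Fin.succ_zero_eq_one, _root_.Fin.succ_one_eq_two, Fin.reduceSucc, _root_.Matrix.cons_val_fin_one, _root_.IsEmpty.forall_iff, _root_.and_self])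
  · change a8 K (xg 7 1 * xg 4 (-1)) _ = E8 K 2
    rw [a8_mul, a8_4, a8_7]; ext i; (revert i; simp only [e8, E8, _root_.Fin.forall_fin_succ, _root_.Nat.succ_eq_add_one, Nat.reduceAdd, Fin.isValue, _root_.ne_eq, Fin.reduceEq, _root_.not_false_eq_true, _root_.Pi.single_eq_of_ne, _root_.MulZeroClass.mul_zero, _root_.sub_self, _root_.Pi.single_eq_same, _root_.mul_one, _root_.sub_neg_eq_add, _root_.zero_add, _root_.add_zero, _root_.even_two, _root_.Even.neg_pow, _root_.one_pow, _root_.Matrix.cons_val_zero, _root_.Matrix.cons_val, _root_.Matrix.cons_val_one, _root_.Matrix.cons_val_succ, _root_.Fin.succ_zero_eq_one, _root_.Fin.succ_one_eq_two, Fin.reduceSucc, _root_.Matrix.cons_val_fin_one, _root_.IsEmpty.forall_iff, _root_.and_self])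
  · change a8 K (xg 7 (-1) * (xg 4 1 * (xg 11 (-1) * xg 0 1))) _ = E8 K 3
    rw [a8_mul, a8_mul, a8_11_0 _ rfl, a8_4, a8_7]; ext i; (revert i; simp only [E8, _root_.Fin.forall_fin_succ, _root_.Nat.succ_eq_add_one, Nat.reduceAdd, Fin.isValue, _root_.ne_eq, Fin.reduceEq, _root_.not_false_eq_true, _root_.Pi.single_eq_of_ne, _root_.MulZeroClass.mul_zero, _root_.sub_self, _root_.Pi.single_eq_same, _root_.mul_one, _root_.zero_add, _root_.add_zero, _root_.one_pow, _root_.Matrix.cons_val_zero, _root_.Matrix.cons_val, _root_.Matrix.cons_val_one, _root_.even_two, _root_.Even.neg_pow, _root_.add_neg_cancel, _root_.Matrix.cons_val_succ, _root_.Fin.succ_zero_eq_one, _root_.Fin.succ_one_eq_two, Fin.reduceSucc, _root_.Matrix.cons_val_fin_one, _root_.IsEmpty.forall_iff, _root_.and_self])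
  · change a8 K (xg 10 (-1) * xg 1 1) _ = E8 K 4
    rw [a8_mul, a8_1, a8_10]; ext i; (revert i; simp only [e8, E8, _root_.Fin.forall_fin_succ, _root_.Nat.succ_eq_add_one, Nat.reduceAdd, Fin.isValue, _root_.ne_eq, Fin.reduceEq, _root_.not_false_eq_true, _root_.Pi.single_eq_of_ne, _root_.MulZeroClass.mul_zero, _root_.sub_self, _root_.Pi.single_eq_same, _root_.mul_one, _root_.zero_add, _root_.Matrix.cons_val_zero, _root_.Matrix.cons_val_one, _root_.Matrix.cons_val, _root_.add_neg_cancel, _root_.Matrix.cons_val_succ, _root_.Fin.succ_zero_eq_one, _root_.Fin.succ_one_eq_two, Fin.reduceSucc, _root_.Matrix.cons_val_fin_one, _root_.IsEmpty.forall_iff, _root_.and_self])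
  · exact a8_11_0 _ rfl
  · change a8 K 1 _ = E8 K 6
    rw [map_one]; rfl

theorem gp8_e (s : K) (m : Fin 7) : a8 K (gp8 s m) (e8 K) = E8 K (ix (pi8 m)) + s • E8 K (ix (pj8 m)) := by
  fin_cases m
  · change a8 K (xg 4 (-s)) _ = E8 K 6 + s • E8 K 2
    rw [a8_4]; ext i; (revert i; simp only [e8, E8, _root_.Fin.forall_fin_succ, _root_.Nat.succ_eq_add_one, Nat.reduceAdd, Fin.isValue, _root_.ne_eq, Fin.reduceEq, _root_.not_false_eq_true, _root_.Pi.single_eq_of_ne, _root_.MulZeroClass.mul_zero, _root_.sub_self, _root_.Pi.single_eq_same, _root_.mul_one, _root_.sub_neg_eq_add, _root_.zero_add, _root_.add_zero, _root_.even_two, _root_.Even.neg_pow, _root_.Pi.add_apply, _root_.Pi.smul_apply, _root_.smul_eq_mul, _root_.Matrix.cons_val_zero, _root_.Matrix.cons_val_succ, _root_.Fin.succ_zero_eq_one, _root_.Fin.succ_one_eq_two, Fin.reduceSucc, _root_.Matrix.cons_val_fin_one, _root_.IsEmpty.forall_iff, _root_.and_self])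
  · change a8 K (xg 3 s) _ = E8 K 6 + s • E8 K 1
    rw [a8_3]; ext i; (revert i; simp only [e8, E8, _root_.Fin.forall_fin_succ, _root_.Nat.succ_eq_add_one, Nat.reduceAdd, Fin.isValue, _root_.ne_eq, Fin.reduceEq, _root_.not_false_eq_true, _root_.Pi.single_eq_of_ne, _root_.MulZeroClass.mul_zero, _root_.sub_self, _root_.Pi.single_eq_same, _root_.mul_one, _root_.zero_add, _root_.add_zero, _root_.Pi.add_apply, _root_.Pi.smul_apply, _root_.smul_eq_mul, _root_.Matrix.cons_val_zero, _root_.zero_ne_one, _root_.Matrix.cons_val_succ, _root_.Fin.succ_zero_eq_one, _root_.Fin.succ_one_eq_two, Fin.reduceSucc, _root_.Matrix.cons_val_fin_one, _root_.IsEmpty.forall_iff, _root_.and_self])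
  · change a8 K (xg 1 s) _ = E8 K 6 + s • E8 K 4
    rw [a8_1]; ext i; (revert i; simp only [e8, E8, _root_.Fin.forall_fin_succ, _root_.Nat.succ_eq_add_one, Nat.reduceAdd, Fin.isValue, _root_.ne_eq, Fin.reduceEq, _root_.not_false_eq_true, _root_.Pi.single_eq_of_ne, _root_.MulZeroClass.mul_zero, _root_.sub_self, _root_.Pi.single_eq_same, _root_.mul_one, _root_.zero_add, _root_.Pi.add_apply, _root_.Pi.smul_apply, _root_.smul_eq_mul, _root_.Matrix.cons_val_zero, _root_.add_zero, _root_.Matrix.cons_val_succ, _root_.Fin.succ_zero_eq_one, _root_.Fin.succ_one_eq_two, Fin.reduceSucc, _root_.Matrix.cons_val_fin_one, _root_.IsEmpty.forall_iff, _root_.and_self])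
  · change a8 K (xg 0 s) _ = E8 K 6 + s • E8 K 5
    rw [a8_0]; ext i; (revert i; simp only [e8, E8, _root_.Fin.forall_fin_succ, _root_.Nat.succ_eq_add_one, Nat.reduceAdd, Fin.isValue, _root_.ne_eq, Fin.reduceEq, _root_.not_false_eq_true, _root_.Pi.single_eq_of_ne, _root_.MulZeroClass.mul_zero, _root_.sub_self, _root_.Pi.single_eq_same, _root_.mul_one, _root_.zero_add, _root_.Pi.add_apply, _root_.Pi.smul_apply, _root_.smul_eq_mul, _root_.Matrix.cons_val_zero, _root_.add_zero, _root_.Matrix.cons_val_succ, _root_.Fin.succ_zero_eq_one, _root_.Fin.succ_one_eq_two, Fin.reduceSucc, _root_.Matrix.cons_val_fin_one, _root_.IsEmpty.forall_iff, _root_.and_self])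
  · change a8 K (xg 6 (-s) * (xg 11 (-1) * xg 0 1)) _ = E8 K 5 + s • E8 K 4
    rw [a8_mul, a8_11_0 _ rfl, a8_6]; ext i; (revert i; simp only [E8, _root_.Fin.forall_fin_succ, _root_.Nat.succ_eq_add_one, Nat.reduceAdd, Fin.isValue, _root_.ne_eq, Fin.reduceEq, _root_.not_false_eq_true, _root_.Pi.single_eq_of_ne, _root_.MulZeroClass.mul_zero, _root_.add_zero, _root_.Pi.single_eq_same, _root_.mul_one, _root_.sub_neg_eq_add, _root_.zero_add, _root_.Pi.add_apply, _root_.Pi.smul_apply, _root_.smul_eq_mul, _root_.Matrix.cons_val_zero, _root_.Matrix.cons_val_succ, _root_.Fin.succ_zero_eq_one, _root_.Fin.succ_one_eq_two, Fin.reduceSucc, _root_.Matrix.cons_val_fin_one, _root_.IsEmpty.forall_iff, _root_.and_self])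
  · change a8 K (xg 9 s * (xg 11 (-1) * xg 0 1)) _ = E8 K 5 + s • E8 K 1
    rw [a8_mul, a8_11_0 _ rfl, a8_9]; ext i; (revert i; simp only [E8, _root_.Fin.forall_fin_succ, _root_.Nat.succ_eq_add_one, Nat.reduceAdd, Fin.isValue, _root_.ne_eq, Fin.reduceEq, _root_.not_false_eq_true, _root_.Pi.single_eq_of_ne, _root_.MulZeroClass.mul_zero, _root_.add_zero, _root_.Pi.single_eq_same, _root_.mul_one, _root_.zero_add, _root_.sub_self, _root_.Pi.add_apply, _root_.Pi.smul_apply, _root_.smul_eq_mul, _root_.Matrix.cons_val_zero, _root_.zero_ne_one, _root_.Matrix.cons_val_succ, _root_.Fin.succ_zero_eq_one, _root_.Fin.succ_one_eq_two, Fin.reduceSucc, _root_.Matrix.cons_val_fin_one, _root_.IsEmpty.forall_iff, _root_.and_self])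
  · change a8 K (xg 4 s * (xg 11 (-1) * xg 0 1)) _ = E8 K 5 + s • E8 K 3
    rw [a8_mul, a8_11_0 _ rfl, a8_4]; ext i; (revert i; simp only [E8, _root_.Fin.forall_fin_succ, _root_.Nat.succ_eq_add_one, Nat.reduceAdd, Fin.isValue, _root_.ne_eq, Fin.reduceEq, _root_.not_false_eq_true, _root_.Pi.single_eq_of_ne, _root_.MulZeroClass.mul_zero, _root_.sub_self, _root_.Pi.single_eq_same, _root_.mul_one, _root_.zero_add, _root_.add_zero, _root_.Pi.add_apply, _root_.Pi.smul_apply, _root_.smul_eq_mul, _root_.Matrix.cons_val_zero, _root_.Matrix.cons_val_succ, _root_.Fin.succ_zero_eq_one, _root_.Fin.succ_one_eq_two, Fin.reduceSucc, _root_.Matrix.cons_val_fin_one, _root_.IsEmpty.forall_iff, _root_.and_self])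

theorem l8_11_0 (x : Fin 8 → K) : l8 K (a8 K (xg 11 1 * xg 0 (-1)) x) = x 5 := by
  rw [a8_mul, a8_0, a8_11]; simp [l8]

theorem rv8_l (a : Fin 6) : l8 K ∘ₗ a8 K (rv8 K a) = L8 K (ix a) := by
  refine LinearMap.ext fun x => ?_
  rw [LinearMap.comp_apply]
  fin_cases a
  · change l8 K (a8 K (xg 8 1 * xg 3 (-1)) x) = x 1
    rw [a8_mul, a8_3, a8_8]; simp only [l8, _root_.Fin.isValue, _root_.Nat.succ_eq_add_one, _root_.Nat.reduceAdd, _root_.neg_mul, _root_.one_mul, _root_.sub_neg_eq_add, _root_.even_two, _root_.Even.neg_pow, _root_.one_pow, _root_.Matrix.cons_val_zero, _root_.Matrix.cons_val, _root_.add_add_sub_cancel, _root_.Matrix.cons_val_one, _root_.sub_add_cancel_right, _root_.add_neg_cancel_comm_assoc, _root_.LinearMap.coe_proj, _root_.Function.eval]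
  · change l8 K (a8 K (xg 7 (-1) * xg 4 1) x) = x 2
    rw [a8_mul, a8_4, a8_7]; simp only [l8, _root_.Fin.isValue, _root_.Nat.succ_eq_add_one, _root_.Nat.reduceAdd, _root_.one_mul, _root_.one_pow, _root_.Matrix.cons_val_zero, _root_.Matrix.cons_val, _root_.neg_mul, _root_.neg_sub, _root_.sub_add_sub_cancel, _root_.Matrix.cons_val_one, _root_.sub_sub_cancel, _root_.neg_add_rev, _root_.even_two, _root_.Even.neg_pow, _root_.add_neg_cancel_left, _root_.LinearMap.coe_proj, _root_.Function.eval]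
  · change l8 K (a8 K ((xg 11 1 * xg 0 (-1)) * (xg 7 1 * xg 4 (-1))) x) = x 3
    rw [a8_mul, l8_11_0, a8_mul, a8_4, a8_7]; simp only [_root_.Nat.succ_eq_add_one, _root_.Nat.reduceAdd, _root_.Fin.isValue, _root_.neg_mul, _root_.one_mul, _root_.sub_neg_eq_add, _root_.even_two, _root_.Even.neg_pow, _root_.one_pow, _root_.Matrix.cons_val_zero, _root_.Matrix.cons_val, _root_.add_add_sub_cancel, _root_.Matrix.cons_val_one, _root_.sub_add_cancel_right, _root_.add_neg_cancel_comm_assoc]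
  · change l8 K (a8 K (xg 10 1 * xg 1 (-1)) x) = x 4
    rw [a8_mul, a8_1, a8_10]; simp [l8]
  · exact l8_11_0 x
  · change l8 K (a8 K 1 x) = x 6
    rw [map_one]; rfl

theorem rp8_l (m : Fin 7) : l8 K ∘ₗ a8 K (rp8 K m) = L8 K (ix (pi8 m)) + L8 K (ix (pj8 m)) := by
  refine LinearMap.ext fun x => ?_
  rw [LinearMap.comp_apply]
  fin_cases m
  · change l8 K (a8 K (xg 7 (-1)) x) = x 6 + x 2
    rw [a8_7]; simp only [l8, _root_.Fin.isValue, _root_.Nat.succ_eq_add_one, _root_.Nat.reduceAdd, _root_.neg_mul, _root_.one_mul, _root_.sub_neg_eq_add, _root_.even_two, _root_.Even.neg_pow, _root_.one_pow, _root_.LinearMap.coe_proj, _root_.Function.eval, _root_.Matrix.cons_val]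
  · change l8 K (a8 K (xg 8 1) x) = x 6 + x 1
    rw [a8_8]; simp only [l8, _root_.Fin.isValue, _root_.Nat.succ_eq_add_one, _root_.Nat.reduceAdd, _root_.one_mul, _root_.one_pow, _root_.LinearMap.coe_proj, _root_.Function.eval, _root_.Matrix.cons_val]
  · change l8 K (a8 K (xg 10 1) x) = x 6 + x 4
    rw [a8_10]; simp [l8]
  · change l8 K (a8 K (xg 11 1) x) = x 6 + x 5
    rw [a8_11]; simp [l8]
  · change l8 K (a8 K ((xg 11 1 * xg 0 (-1)) * xg 5 (-1)) x) = x 5 + x 4
    rw [a8_mul, l8_11_0, a8_5]; simp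
  · change l8 K (a8 K ((xg 11 1 * xg 0 (-1)) * xg 2 1) x) = x 5 + x 1
    rw [a8_mul, l8_11_0, a8_2]; simp
  · change l8 K (a8 K ((xg 11 1 * xg 0 (-1)) * xg 7 1) x) = x 5 + x 3
    rw [a8_mul, l8_11_0, a8_7]; simp

end words

section low

variable {k V : Type*} [Field k] [AddCommGroup V] [Module k V] [FiniteDimensional k V]
  {F : K →*₀ k} {ρ : GK K →* Module.End k V} {φ₀ : Dual k V} {v₀ : V}

/-- `F` not additive : dimension at least 13 -/
theorem thirteen8 (hb : Col (a8 K) (l8 K) F ρ φ₀ (e8 K) v₀) {c : K} (hc : F (1 + c) ≠ 1 + F c) :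
    13 ≤ finrank k V := by
  have h := pairs_le (α := Fin 6) (β := Fin 7) (γ := Fin 0) hc (fun a => E8 K (ix a)) (fun a => L8 K (ix a))
    (fun a b => by
      rw [L8_E8]
      have : ∀ a b : Fin 6, (ix a = ix b) ↔ a = b := by decide
      simp only [this]) _ (fun a => col_of hb (gv8 K a) (gv8_e a)) _ (fun a => row_of (rv8 K a) (rv8_l a)) pi8 pj8 _
    (fun m => col_of hb (gp8 c m) (gp8_e c m)) _ (fun m => row_of (rp8 K m) (rp8_l m)) (by decide) (by decide)
    (fun a => a.elim0) (fun a => a.elim0) (fun a => a.elim0) (fun a => a.elim0) (fun a => a.elim0) (fun a => a.elim0)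
    (fun a => a.elim0) (fun a => a.elim0) (fun a => a.elim0) (fun a => a.elim0)
  simpa using h

/-- induction on the group -/
theorem g_induction {P : GK K → Prop} (h1 : P 1) (hm : ∀ a b, P a → P b → P (a * b))
    (hx : ∀ r, r < 12 → ∀ t, P (xg r t)) (g : GK K) : P g := by
  obtain ⟨g, hg⟩ := g
  refine Subgroup.closure_induction (p := fun g hg => P ⟨g, hg⟩) ?_ h1 (fun x y hx hy => hm ⟨x, hx⟩ ⟨y, hy⟩) ?_ hg
  · rintro x ⟨r, t, e⟩
    have h2 := hx r.1 r.2 t
    have h3 : xg r.1 t = ⟨x, Subgroup.subset_closure ⟨r, t, e⟩⟩ := by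
      apply Subtype.ext
      apply Units.ext
      rw [coe_xg r.1 r.2]
      exact e.symm
    rw [h3] at h2
    exact h2
  · intro x hx hP
    have h2 : ∀ n : ℕ, P ((⟨x, hx⟩ : GK K) ^ n) := by
      intro n
      induction n with
      | zero => rw [pow_zero]; exact h1
      | succ n ih => rw [pow_succ]; exact hm _ _ ih hP
    obtain ⟨n, hn⟩ : ∃ n : ℕ, (⟨x, hx⟩ : GK K) ^ n = (⟨x, hx⟩ : GK K)⁻¹ :=
      (Submonoid.mem_powers_iff _ _).1 (((isOfFinOrder_of_finite (⟨x, hx⟩ : GK K)).mem_powers_iff_mem_zpowers).2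
        (inv_mem (Subgroup.mem_zpowers _)))
    have h3 := h2 n
    rw [hn] at h3
    exact h3

/-- the trace coordinate -/
theorem a8_tr (g : GK K) : ∀ x : Fin 8 → K, a8 K g x 0 + a8 K g x 7 = x 0 + x 7 := by
  refine g_induction (P := fun g => ∀ x : Fin 8 → K, a8 K g x 0 + a8 K g x 7 = x 0 + x 7) ?_ ?_ ?_ g
  · intro x
    rw [map_one]; rfl
  · intro a b ha hb x
    rw [a8_mul, ha, hb]
  · intro r hr t x
    interval_cases r
    · rw [a8_0]; simp
    · rw [a8_1]; simp
    · rw [a8_2]; simp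
    · rw [a8_3]; simp
    · rw [a8_4]; simp
    · rw [a8_5]; simp
    · rw [a8_6]; simp
    · rw [a8_7]; simp
    · rw [a8_8]; simp
    · rw [a8_9]; simp
    · rw [a8_10]; simp
    · rw [a8_11]; simp

/-- the identity -/
theorem a8_one8 (g : GK K) : a8 K g (E8 K 0 + E8 K 7) = E8 K 0 + E8 K 7 := by
  refine g_induction (P := fun g => a8 K g (E8 K 0 + E8 K 7) = E8 K 0 + E8 K 7) ?_ ?_ ?_ g
  · rw [map_one]; rfl
  · intro a b ha hb
    rw [a8_mul, hb, ha]
  · intro r hr t
    interval_cases r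
    · rw [a8_0]; ext i; (revert i; simp only [E8, _root_.Fin.forall_fin_succ, _root_.Nat.succ_eq_add_one, Nat.reduceAdd, Fin.isValue, _root_.Pi.add_apply, _root_.Pi.single_eq_same, _root_.ne_eq, Fin.reduceEq, _root_.not_false_eq_true, _root_.Pi.single_eq_of_ne, _root_.add_zero, _root_.one_ne_zero, _root_.MulZeroClass.mul_zero, _root_.sub_self, _root_.zero_add, _root_.Matrix.cons_val_zero, _root_.Matrix.cons_val_succ, _root_.Fin.succ_ne_zero, _root_.Fin.succ_zero_eq_one, _root_.Fin.succ_one_eq_two, Fin.reduceSucc, _root_.Matrix.cons_val_fin_one, _root_.IsEmpty.forall_iff, _root_.and_self])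
    · rw [a8_1]; ext i; (revert i; simp only [E8, _root_.Fin.forall_fin_succ, _root_.Nat.succ_eq_add_one, Nat.reduceAdd, Fin.isValue, _root_.Pi.add_apply, _root_.Pi.single_eq_same, _root_.ne_eq, Fin.reduceEq, _root_.not_false_eq_true, _root_.Pi.single_eq_of_ne, _root_.add_zero, _root_.one_ne_zero, _root_.MulZeroClass.mul_zero, _root_.sub_self, _root_.zero_add, _root_.Matrix.cons_val_zero, _root_.Matrix.cons_val_succ, _root_.Fin.succ_ne_zero, _root_.Fin.succ_zero_eq_one, _root_.Fin.succ_one_eq_two, Fin.reduceSucc, _root_.Matrix.cons_val_fin_one, _root_.IsEmpty.forall_iff, _root_.and_self])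
    · rw [a8_2]; ext i; (revert i; simp only [E8, _root_.Fin.forall_fin_succ, _root_.Nat.succ_eq_add_one, Nat.reduceAdd, Fin.isValue, _root_.Pi.add_apply, _root_.Pi.single_eq_same, _root_.ne_eq, Fin.reduceEq, _root_.not_false_eq_true, _root_.Pi.single_eq_of_ne, _root_.add_zero, _root_.MulZeroClass.mul_zero, _root_.sub_zero, _root_.one_ne_zero, _root_.mul_one, _root_.zero_add, _root_.sub_self, _root_.Matrix.cons_val_zero, _root_.Matrix.cons_val_succ, _root_.Fin.succ_ne_zero, _root_.Fin.succ_zero_eq_one, _root_.Fin.succ_one_eq_two, Fin.reduceSucc, _root_.Matrix.cons_val_fin_one, _root_.IsEmpty.forall_iff, _root_.and_self])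
    · rw [a8_3]; ext i; (revert i; simp only [E8, _root_.Fin.forall_fin_succ, _root_.Nat.succ_eq_add_one, Nat.reduceAdd, Fin.isValue, _root_.Pi.add_apply, _root_.Pi.single_eq_same, _root_.ne_eq, Fin.reduceEq, _root_.not_false_eq_true, _root_.Pi.single_eq_of_ne, _root_.add_zero, _root_.MulZeroClass.mul_zero, _root_.sub_zero, _root_.one_ne_zero, _root_.sub_self, _root_.mul_one, _root_.zero_add, _root_.Matrix.cons_val_zero, _root_.Matrix.cons_val_succ, _root_.Fin.succ_ne_zero, _root_.Fin.succ_zero_eq_one, _root_.Fin.succ_one_eq_two, Fin.reduceSucc, _root_.Matrix.cons_val_fin_one, _root_.IsEmpty.forall_iff, _root_.and_self])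
    · rw [a8_4]; ext i; (revert i; simp only [E8, _root_.Fin.forall_fin_succ, _root_.Nat.succ_eq_add_one, Nat.reduceAdd, Fin.isValue, _root_.Pi.add_apply, _root_.Pi.single_eq_same, _root_.ne_eq, Fin.reduceEq, _root_.not_false_eq_true, _root_.Pi.single_eq_of_ne, _root_.add_zero, _root_.one_ne_zero, _root_.MulZeroClass.mul_zero, _root_.sub_zero, _root_.sub_self, _root_.mul_one, _root_.zero_add, _root_.Matrix.cons_val_zero, _root_.Matrix.cons_val_succ, _root_.Fin.succ_ne_zero, _root_.Fin.succ_zero_eq_one, _root_.Fin.succ_one_eq_two, Fin.reduceSucc, _root_.Matrix.cons_val_fin_one, _root_.IsEmpty.forall_iff, _root_.and_self])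
    · rw [a8_5]; ext i; (revert i; simp only [E8, _root_.Fin.forall_fin_succ, _root_.Nat.succ_eq_add_one, Nat.reduceAdd, Fin.isValue, _root_.Pi.add_apply, _root_.Pi.single_eq_same, _root_.ne_eq, Fin.reduceEq, _root_.not_false_eq_true, _root_.Pi.single_eq_of_ne, _root_.add_zero, _root_.one_ne_zero, _root_.MulZeroClass.mul_zero, _root_.sub_self, _root_.zero_add, _root_.Matrix.cons_val_zero, _root_.Matrix.cons_val_succ, _root_.Fin.succ_ne_zero, _root_.Fin.succ_zero_eq_one, _root_.Fin.succ_one_eq_two, Fin.reduceSucc, _root_.Matrix.cons_val_fin_one, _root_.IsEmpty.forall_iff, _root_.and_self])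
    · rw [a8_6]; ext i; (revert i; simp only [E8, _root_.Fin.forall_fin_succ, _root_.Nat.succ_eq_add_one, Nat.reduceAdd, Fin.isValue, _root_.Pi.add_apply, _root_.Pi.single_eq_same, _root_.ne_eq, Fin.reduceEq, _root_.not_false_eq_true, _root_.Pi.single_eq_of_ne, _root_.add_zero, _root_.one_ne_zero, _root_.MulZeroClass.mul_zero, _root_.sub_self, _root_.zero_add, _root_.Matrix.cons_val_zero, _root_.Matrix.cons_val_succ, _root_.Fin.succ_ne_zero, _root_.Fin.succ_zero_eq_one, _root_.Fin.succ_one_eq_two, Fin.reduceSucc, _root_.Matrix.cons_val_fin_one, _root_.IsEmpty.forall_iff, _root_.and_self])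
    · rw [a8_7]; ext i; (revert i; simp only [E8, _root_.Fin.forall_fin_succ, _root_.Nat.succ_eq_add_one, Nat.reduceAdd, Fin.isValue, _root_.Pi.add_apply, _root_.Pi.single_eq_same, _root_.ne_eq, Fin.reduceEq, _root_.not_false_eq_true, _root_.Pi.single_eq_of_ne, _root_.add_zero, _root_.MulZeroClass.mul_zero, _root_.one_ne_zero, _root_.mul_one, _root_.zero_sub, _root_.zero_add, _root_.neg_add_cancel, _root_.sub_self, _root_.sub_zero, _root_.Matrix.cons_val_zero, _root_.Matrix.cons_val_succ, _root_.Fin.succ_ne_zero, _root_.Fin.succ_zero_eq_one, _root_.Fin.succ_one_eq_two, Fin.reduceSucc, _root_.Matrix.cons_val_fin_one, _root_.IsEmpty.forall_iff, _root_.and_self])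
    · rw [a8_8]; ext i; (revert i; simp only [E8, _root_.Fin.forall_fin_succ, _root_.Nat.succ_eq_add_one, Nat.reduceAdd, Fin.isValue, _root_.Pi.add_apply, _root_.Pi.single_eq_same, _root_.ne_eq, Fin.reduceEq, _root_.not_false_eq_true, _root_.Pi.single_eq_of_ne, _root_.add_zero, _root_.MulZeroClass.mul_zero, _root_.one_ne_zero, _root_.mul_one, _root_.zero_sub, _root_.zero_add, _root_.neg_add_cancel, _root_.sub_self, _root_.sub_zero, _root_.Matrix.cons_val_zero, _root_.Matrix.cons_val_succ, _root_.Fin.succ_ne_zero, _root_.Fin.succ_zero_eq_one, _root_.Fin.succ_one_eq_two, Fin.reduceSucc, _root_.Matrix.cons_val_fin_one, _root_.IsEmpty.forall_iff, _root_.and_self])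
    · rw [a8_9]; ext i; (revert i; simp only [E8, _root_.Fin.forall_fin_succ, _root_.Nat.succ_eq_add_one, Nat.reduceAdd, Fin.isValue, _root_.Pi.add_apply, _root_.Pi.single_eq_same, _root_.ne_eq, Fin.reduceEq, _root_.not_false_eq_true, _root_.Pi.single_eq_of_ne, _root_.add_zero, _root_.MulZeroClass.mul_zero, _root_.one_ne_zero, _root_.sub_self, _root_.mul_one, _root_.zero_sub, _root_.zero_add, _root_.neg_add_cancel, _root_.sub_zero, _root_.Matrix.cons_val_zero, _root_.Matrix.cons_val_succ, _root_.Fin.succ_ne_zero, _root_.Fin.succ_zero_eq_one, _root_.Fin.succ_one_eq_two, Fin.reduceSucc, _root_.Matrix.cons_val_fin_one, _root_.IsEmpty.forall_iff, _root_.and_self])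
    · rw [a8_10]; ext i; (revert i; simp only [E8, _root_.Fin.forall_fin_succ, _root_.Nat.succ_eq_add_one, Nat.reduceAdd, Fin.isValue, _root_.Pi.add_apply, _root_.Pi.single_eq_same, _root_.ne_eq, Fin.reduceEq, _root_.not_false_eq_true, _root_.Pi.single_eq_of_ne, _root_.add_zero, _root_.one_ne_zero, _root_.MulZeroClass.mul_zero, _root_.sub_self, _root_.zero_add, _root_.Matrix.cons_val_zero, _root_.Matrix.cons_val_succ, _root_.Fin.succ_ne_zero, _root_.Fin.succ_zero_eq_one, _root_.Fin.succ_one_eq_two, Fin.reduceSucc, _root_.Matrix.cons_val_fin_one, _root_.IsEmpty.forall_iff, _root_.and_self])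
    · rw [a8_11]; ext i; (revert i; simp only [E8, _root_.Fin.forall_fin_succ, _root_.Nat.succ_eq_add_one, Nat.reduceAdd, Fin.isValue, _root_.Pi.add_apply, _root_.Pi.single_eq_same, _root_.ne_eq, Fin.reduceEq, _root_.not_false_eq_true, _root_.Pi.single_eq_of_ne, _root_.add_zero, _root_.one_ne_zero, _root_.MulZeroClass.mul_zero, _root_.sub_self, _root_.zero_add, _root_.Matrix.cons_val_zero, _root_.Matrix.cons_val_succ, _root_.Fin.succ_ne_zero, _root_.Fin.succ_zero_eq_one, _root_.Fin.succ_one_eq_two, Fin.reduceSucc, _root_.Matrix.cons_val_fin_one, _root_.IsEmpty.forall_iff, _root_.and_self])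

/-- the rows and columns -/
theorem l8_mul (g h : GK K) : l8 K (a8 K (g * h) (e8 K)) = ∑ a : Fin 6, l8 K (a8 K g (E8 K (ix a))) * L8 K (ix a) (a8 K h (e8 K)) +
    2 * (l8 K (a8 K g (E8 K 0)) * L8 K 0 (a8 K h (e8 K))) := by
  have h1 := a8_tr h (e8 K)
  have h2 : l8 K (a8 K g (E8 K 0)) + l8 K (a8 K g (E8 K 7)) = 0 := by
    rw [← map_add, ← map_add, a8_one8]
    simp [l8, E8]
  have h3 : a8 K h (e8 K) = ∑ i, a8 K h (e8 K) i • E8 K i := pi_eq_sum_univ' _
  rw [a8_mul]
  conv_lhs => rw [h3]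
  rw [map_sum, map_sum]
  simp only [map_smul, smul_eq_mul]
  have h4 : a8 K h (e8 K) 7 = - a8 K h (e8 K) 0 := by
    have h5 : e8 K 0 + e8 K 7 = 0 := by simp [e8]
    rw [h5] at h1
    linear_combination h1
  have h6 : l8 K (a8 K g (E8 K 7)) = - l8 K (a8 K g (E8 K 0)) := by linear_combination h2
  rw [Fin.sum_univ_eight, Fin.sum_univ_six, h4, h6]
  simp only [L8, LinearMap.proj_apply, ix]
  simp only [_root_.Fin.isValue, _root_.mul_neg, _root_.neg_mul, _root_.neg_neg, _root_.Matrix.cons_val_zero, _root_.Matrix.cons_val_one, _root_.Matrix.cons_val]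
  ring

section add

variable (hadd : ∀ x y, F (x + y) = F x + F y)
include hadd

theorem six8 (hb : Col (a8 K) (l8 K) F ρ φ₀ (e8 K) v₀) : 6 ≤ finrank k V := by
  have h := le_finrank_of_sub hadd (α := Fin 6) (fun a => E8 K (ix a)) (fun a => L8 K (ix a))
    (fun a => ⟨_, col_of hb (gv8 K a) (gv8_e a)⟩) (fun a => ⟨_, row_of (rv8 K a) (rv8_l a)⟩)
    (fun a => by rw [L8_E8, if_pos rfl]; exact one_ne_zero)
    (fun a b hab => by
      rw [L8_E8, if_neg]
      have : ∀ a b : Fin 6, (ix a = ix b) → a = b := by decide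
      exact fun h => hab (this a b h))
  simpa using h

theorem seven8 (hb : Col (a8 K) (l8 K) F ρ φ₀ (e8 K) v₀) (h2 : (2 : K) ≠ 0) : 7 ≤ finrank k V := by
  have hcol : ∀ a, E8 K (ix a) ∈ colSub hadd (a8 K) (l8 K) ρ φ₀ := fun a => ⟨_, col_of hb (gv8 K a) (gv8_e a)⟩
  have hrow : ∀ a, L8 K (ix a) ∈ rowSub hadd (a8 K) (l8 K) ρ φ₀ := fun a => ⟨_, row_of (rv8 K a) (rv8_l a)⟩
  have hc : E8 K 0 - E8 K 7 ∈ colSub hadd (a8 K) (l8 K) ρ φ₀ := by
    have h3 : a8 K (xg 2 1) (e8 K) ∈ colSub hadd (a8 K) (l8 K) ρ φ₀ := ⟨_, col_of hb _ rfl⟩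
    have h4 : E8 K 0 - E8 K 7 = E8 K (ix 5) - E8 K (ix 2) - a8 K (xg 2 1) (e8 K) := by
      rw [a8_2]; ext i; (revert i; simp only [E8, e8, ix, _root_.Fin.forall_fin_succ, Fin.isValue, _root_.Pi.sub_apply, _root_.Matrix.cons_val, _root_.Nat.succ_eq_add_one, Nat.reduceAdd, _root_.ne_eq, Fin.reduceEq, _root_.not_false_eq_true, _root_.Pi.single_eq_of_ne, _root_.Pi.single_eq_same, _root_.mul_one, _root_.zero_sub, _root_.MulZeroClass.mul_zero, _root_.add_zero, _root_.sub_self, _root_.one_pow, _root_.zero_add, _root_.sub_zero, _root_.Matrix.cons_val_zero, _root_.sub_neg_eq_add, _root_.Fin.succ_ne_zero, _root_.Matrix.cons_val_succ, _root_.Fin.succ_zero_eq_one, _root_.neg_zero, _root_.Fin.succ_one_eq_two, Fin.reduceSucc, _root_.Matrix.cons_val_fin_one, _root_.IsEmpty.forall_iff, _root_.and_self])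
    rw [h4]
    exact Submodule.sub_mem _ (Submodule.sub_mem _ (hcol 5) (hcol 2)) h3
  have hr : L8 K 0 - L8 K 7 ∈ rowSub hadd (a8 K) (l8 K) ρ φ₀ := by
    have h3 : l8 K ∘ₗ a8 K (xg 9 1) ∈ rowSub hadd (a8 K) (l8 K) ρ φ₀ := ⟨_, row_of _ rfl⟩
    have h4 : L8 K 0 - L8 K 7 = L8 K (ix 5) - L8 K (ix 2) - l8 K ∘ₗ a8 K (xg 9 1) := by
      refine LinearMap.ext fun x => ?_
      rw [LinearMap.sub_apply, LinearMap.sub_apply, LinearMap.sub_apply, LinearMap.comp_apply, a8_9]
      simp only [L8, l8, ix, _root_.Fin.isValue, _root_.LinearMap.coe_proj, _root_.Function.eval, _root_.Matrix.cons_val, _root_.Nat.succ_eq_add_one, _root_.Nat.reduceAdd, _root_.one_mul, _root_.one_pow, _root_.sub_sub_sub_cancel_right]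
      ring
    rw [h4]
    exact Submodule.sub_mem _ (Submodule.sub_mem _ (hrow 5) (hrow 2)) h3
  have h := le_finrank_of_sub hadd (α := Option (Fin 6)) (fun a => a.elim (E8 K 0 - E8 K 7) fun a => E8 K (ix a))
    (fun a => a.elim (L8 K 0 - L8 K 7) fun a => L8 K (ix a))
    (by
      rintro (_ | a)
      · exact hc
      · exact hcol a)
    (by
      rintro (_ | a)
      · exact hr
      · exact hrow a)
    (by
      rintro (_ | a)
      · simp only [Option.elim, LinearMap.sub_apply, map_sub, L8_E8]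
        simp only [Fin.isValue, if_true, show ((0 : Fin 8) = 7) = False by decide, show ((7 : Fin 8) = 0) = False by decide,
          if_false]
        intro h5
        apply h2
        linear_combination h5
      · simp only [Option.elim, L8_E8, if_true]
        exact one_ne_zero)
    (by
      have hi0 : ∀ a, ix a ≠ 0 := by decide
      have hi7 : ∀ a, ix a ≠ 7 := by decide
      rintro (_ | a) (_ | b) hab
      · exact absurd rfl hab
      · simp only [Option.elim, LinearMap.sub_apply, L8_E8, if_neg (hi0 b).symm, if_neg (hi7 b).symm, sub_zero]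
      · simp only [Option.elim, map_sub, L8_E8, if_neg (hi0 a), if_neg (hi7 a), sub_zero]
      · simp only [Option.elim, L8_E8]
        rw [if_neg]
        have : ∀ a b : Fin 6, (ix a = ix b) → a = b := by decide
        exact fun h => hab (congrArg some (this a b h)))
  simpa using h

theorem le_seven8 (hirr : ∀ L : Submodule k V, (∀ g, ∀ w ∈ L, ρ g w ∈ L) → L = ⊥ ∨ L = ⊤) (hφ : φ₀ ≠ 0) (hv : v₀ ≠ 0)
    (hb : Col (a8 K) (l8 K) F ρ φ₀ (e8 K) v₀) : finrank k V ≤ 7 := by
  have hs : ∀ (s : Finset (Fin 6)) (f : Fin 6 → K), F (∑ a ∈ s, f a) = ∑ a ∈ s, F (f a) := by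
    intro s f
    induction s using Finset.induction_on with
    | empty => simp
    | insert a s ha ih => rw [Finset.sum_insert ha, Finset.sum_insert ha, hadd, ih]
  have h := Cfsg.Agent.H887.DS.finrank_le hirr (M := Option (Fin 6)) (φ := φ₀) (v := v₀)
    (c := fun a => a.elim (F 2) fun _ => 1)
    (F := fun a g => a.elim (F (l8 K (a8 K g (E8 K 0)))) fun a => F (l8 K (a8 K g (E8 K (ix a)))))
    (Gf := fun a h => a.elim (F (L8 K 0 (a8 K h (e8 K)))) fun a => F (L8 K (ix a) (a8 K h (e8 K)))) hφ hv (fun g h => by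
      rw [hb (g * h), l8_mul, hadd, hs, Fintype.sum_option]
      simp only [Option.elim, map_mul, one_mul]
      ring)
  simpa using h

theorem le_six8 (hirr : ∀ L : Submodule k V, (∀ g, ∀ w ∈ L, ρ g w ∈ L) → L = ⊥ ∨ L = ⊤) (hφ : φ₀ ≠ 0) (hv : v₀ ≠ 0)
    (hb : Col (a8 K) (l8 K) F ρ φ₀ (e8 K) v₀) (h2 : (2 : K) = 0) : finrank k V ≤ 6 := by
  have hs : ∀ (s : Finset (Fin 6)) (f : Fin 6 → K), F (∑ a ∈ s, f a) = ∑ a ∈ s, F (f a) := by
    intro s f
    induction s using Finset.induction_on with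
    | empty => simp
    | insert a s ha ih => rw [Finset.sum_insert ha, Finset.sum_insert ha, hadd, ih]
  have h := Cfsg.Agent.H887.DS.finrank_le hirr (M := Fin 6) (φ := φ₀) (v := v₀)
    (c := fun _ => 1)
    (F := fun a g => F (l8 K (a8 K g (E8 K (ix a)))))
    (Gf := fun a h => F (L8 K (ix a) (a8 K h (e8 K)))) hφ hv (fun g h => by
      rw [hb (g * h), l8_mul, h2, zero_mul, add_zero, hs]
      simp only [map_mul, one_mul])
  simpa using h

end add

end low

end Cfsg.Agent.H927.G2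
end

-- part: H927/G2Lo14
section
/-!
# Simple modules of `G₂(K)` with highest weight a multiple of the second fundamental weight (helper927)
-/

set_option autoImplicit false
set_option linter.unusedSectionVars false
set_option linter.style.haveILetI false
set_option linter.unusedSimpArgs false

namespace Cfsg.Agent.H927.G2

open Cfsg.Agent.H927.LD
open Module Cfsg.Lie

variable {K : Type} [Field K]

section words

/-- the long roots -/
def lx : Fin 6 → chevG2.Idx := ![rv 11, rv 10, rv 5, rv 0, rv 1, rv 6]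
/-- the pairs -/
def pj14 : Fin 6 → Fin 6 := ![1, 2, 3, 4, 5, 0]

theorem lx_inj (a b : Fin 6) : lx a = lx b ↔ a = b := by revert a b; decide +kernel

/-- words -/
def w10 (K : Type) [Field K] : GK K := xg 6 (-1) * xg 5 1
def w5 (K : Type) [Field K] : GK K := xg 11 1 * (xg 0 (-1) * w10 K)
def w0 (K : Type) [Field K] : GK K := xg 10 (-1) * (xg 1 1 * w5 K)
def w1 (K : Type) [Field K] : GK K := xg 5 1 * (xg 6 (-1) * w0 K)
def w6 (K : Type) [Field K] : GK K := xg 0 (-1) * (xg 11 1 * w1 K)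
def r10 (K : Type) [Field K] : GK K := xg 6 1 * xg 5 (-1)
def r5 (K : Type) [Field K] : GK K := r10 K * (xg 11 (-1) * xg 0 1)
def r0 (K : Type) [Field K] : GK K := r5 K * (xg 10 1 * xg 1 (-1))
def r1 (K : Type) [Field K] : GK K := r0 K * (xg 5 (-1) * xg 6 1)
def r6 (K : Type) [Field K] : GK K := r1 K * (xg 0 1 * xg 11 (-1))

theorem w10_e : a14 K (w10 K) (e14 K) = e (rv 10) := by
  unfold w10 e14
  simp only [a14_mul, map_add, map_smul, C_5_11, C_6_10, C_6_11]
  module
theorem w5_e : a14 K (w5 K) (e14 K) = e (rv 5) := by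
  unfold w5
  rw [a14_mul, a14_mul, w10_e]
  simp only [a14_mul, map_add, map_smul, C_0_10, C_11_10, C_11_5]
  module
theorem w0_e : a14 K (w0 K) (e14 K) = e (rv 0) := by
  unfold w0
  rw [a14_mul, a14_mul, w5_e]
  simp only [a14_mul, map_add, map_smul, C_1_5, C_10_5, C_10_0]
  module
theorem w1_e : a14 K (w1 K) (e14 K) = e (rv 1) := by
  unfold w1
  rw [a14_mul, a14_mul, w0_e]
  simp only [a14_mul, map_add, map_smul, C_6_0, C_5_0, C_5_1]
  module
theorem w6_e : a14 K (w6 K) (e14 K) = e (rv 6) := by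
  unfold w6
  rw [a14_mul, a14_mul, w1_e]
  simp only [a14_mul, map_add, map_smul, C_11_1, C_0_1, C_0_6]
  module

theorem r10_l (x : chevG2.Idx → K) : l14 K (a14 K (r10 K) x) = l (rv 10) x := by
  unfold r10 l14
  simp only [a14_mul, R_6_11, R_5_10, R_5_11]
  ring
theorem r5_l (x : chevG2.Idx → K) : l14 K (a14 K (r5 K) x) = l (rv 5) x := by
  unfold r5
  rw [a14_mul, r10_l]
  simp only [a14_mul, R_11_10, R_0_5, R_0_10]
  ring
theorem r0_l (x : chevG2.Idx → K) : l14 K (a14 K (r0 K) x) = l (rv 0) x := by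
  unfold r0
  rw [a14_mul, r5_l]
  simp only [a14_mul, R_10_5, R_1_0, R_1_5]
  ring
theorem r1_l (x : chevG2.Idx → K) : l14 K (a14 K (r1 K) x) = l (rv 1) x := by
  unfold r1
  rw [a14_mul, r0_l]
  simp only [a14_mul, R_5_0, R_6_1, R_6_0]
  ring
theorem r6_l (x : chevG2.Idx → K) : l14 K (a14 K (r6 K) x) = l (rv 6) x := by
  unfold r6
  rw [a14_mul, r1_l]
  simp only [a14_mul, R_0_1, R_11_6, R_11_1]
  ring

/-- the elements for the vertices -/
def gv14 (K : Type) [Field K] : Fin 6 → GK K := ![1, w10 K, w5 K, w0 K, w1 K, w6 K]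

/-- the elements for the pairs -/
def gp14 (c : K) : Fin 6 → GK K := ![xg 5 c, xg 0 (-c) * w10 K, xg 1 c * w5 K, xg 6 (-c) * w0 K, xg 11 c * w1 K,
  xg 10 (-c) * w6 K]

/-- the elements for the row vertices -/
def rv14 (K : Type) [Field K] : Fin 6 → GK K := ![1, r10 K, r5 K, r0 K, r1 K, r6 K]

/-- the elements for the row pairs -/
def rp14 (K : Type) [Field K] : Fin 6 → GK K := ![xg 6 1, r10 K * xg 11 (-1), r5 K * xg 10 1, r0 K * xg 5 (-1),
  r1 K * xg 0 1, r6 K * xg 1 (-1)]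

theorem gv14_e (a : Fin 6) : a14 K (gv14 K a) (e14 K) = e (lx a) := by
  fin_cases a
  · change a14 K 1 _ = e (rv 11)
    rw [map_one]; rfl
  · exact w10_e
  · exact w5_e
  · exact w0_e
  · exact w1_e
  · exact w6_e

theorem gp14_e (c : K) (m : Fin 6) : a14 K (gp14 c m) (e14 K) = e (lx m) + c • e (lx (pj14 m)) := by
  fin_cases m
  · change a14 K (xg 5 c) (e (rv 11)) = e (rv 11) + c • e (rv 10)
    rw [C_5_11]; module
  · change a14 K (xg 0 (-c) * w10 K) (e14 K) = e (rv 10) + c • e (rv 5)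
    rw [a14_mul, w10_e, C_0_10]; module
  · change a14 K (xg 1 c * w5 K) (e14 K) = e (rv 5) + c • e (rv 0)
    rw [a14_mul, w5_e, C_1_5]; module
  · change a14 K (xg 6 (-c) * w0 K) (e14 K) = e (rv 0) + c • e (rv 1)
    rw [a14_mul, w0_e, C_6_0]; module
  · change a14 K (xg 11 c * w1 K) (e14 K) = e (rv 1) + c • e (rv 6)
    rw [a14_mul, w1_e, C_11_1]
  · change a14 K (xg 10 (-c) * w6 K) (e14 K) = e (rv 6) + c • e (rv 11)
    rw [a14_mul, w6_e, C_10_6]; module

theorem rv14_l (a : Fin 6) : l14 K ∘ₗ a14 K (rv14 K a) = l (lx a) := by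
  refine LinearMap.ext fun x => ?_
  rw [LinearMap.comp_apply]
  fin_cases a
  · change l14 K (a14 K 1 x) = l (rv 11) x
    rw [map_one]; rfl
  · exact r10_l x
  · exact r5_l x
  · exact r0_l x
  · exact r1_l x
  · exact r6_l x

theorem rp14_l (m : Fin 6) : l14 K ∘ₗ a14 K (rp14 K m) = l (lx m) + l (lx (pj14 m)) := by
  refine LinearMap.ext fun x => ?_
  rw [LinearMap.comp_apply]
  fin_cases m
  · change l (rv 11) (a14 K (xg 6 1) x) = l (rv 11) x + l (rv 10) x
    rw [R_6_11]; ring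
  · change l14 K (a14 K (r10 K * xg 11 (-1)) x) = l (rv 10) x + l (rv 5) x
    rw [a14_mul, r10_l, R_11_10]; ring
  · change l14 K (a14 K (r5 K * xg 10 1) x) = l (rv 5) x + l (rv 0) x
    rw [a14_mul, r5_l, R_10_5]; ring
  · change l14 K (a14 K (r0 K * xg 5 (-1)) x) = l (rv 0) x + l (rv 1) x
    rw [a14_mul, r0_l, R_5_0]; ring
  · change l14 K (a14 K (r1 K * xg 0 1) x) = l (rv 1) x + l (rv 6) x
    rw [a14_mul, r1_l, R_0_1]; ring
  · change l14 K (a14 K (r6 K * xg 1 (-1)) x) = l (rv 6) x + l (rv 11) x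
    rw [a14_mul, r6_l, R_1_6]; ring

end words

section low

variable {k V : Type*} [Field k] [AddCommGroup V] [Module k V] [FiniteDimensional k V]
  {F : K →*₀ k} {ρ : GK K →* Module.End k V} {φ₀ : Dual k V} {v₀ : V}

/-- the extra vector -/
def we (K : Type) [Field K] : chevG2.Idx → K := e (rv 6) - e (hv 1) - e (rv 5)
/-- the extra functional -/
def oe (K : Type) [Field K] : (chevG2.Idx → K) →ₗ[K] K := l (rv 11) - l (hv 1) - l (rv 0)

theorem l_we (s : chevG2.Idx) : l s (we K) = (if s = rv 6 then 1 else 0) - (if s = hv 1 then 1 else 0) -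
    (if s = rv 5 then 1 else 0) := by
  unfold we
  rw [map_sub, map_sub, l_e, l_e, l_e]

theorem oe_e (s : chevG2.Idx) : oe K (e s) = (if rv 11 = s then 1 else 0) - (if hv 1 = s then 1 else 0) -
    (if rv 0 = s then 1 else 0) := by
  unfold oe
  rw [LinearMap.sub_apply, LinearMap.sub_apply, l_e, l_e, l_e]

theorem oe_we : oe K (we K) = 1 := by
  unfold oe
  rw [LinearMap.sub_apply, LinearMap.sub_apply, l_we, l_we, l_we]
  rw [if_neg (by decide +kernel), if_neg (by decide +kernel), if_neg (by decide +kernel), if_neg (by decide +kernel),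
    if_pos rfl, if_neg (by decide +kernel), if_neg (by decide +kernel), if_neg (by decide +kernel), if_neg (by decide +kernel)]
  ring

theorem we_e : a14 K (xg 5 1 * w6 K) (e14 K) = we K := by
  rw [a14_mul, w6_e, C_5_6]
  unfold we
  module

theorem oe_l : l14 K ∘ₗ a14 K (xg 11 1) = oe K := by
  refine LinearMap.ext fun x => ?_
  rw [LinearMap.comp_apply]
  change l (rv 11) _ = l (rv 11) x - l (hv 1) x - l (rv 0) x
  rw [R_11_11]; ring

/-- `F` not additive : dimension at least 13 -/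
theorem thirteen14 (hb : Col (a14 K) (l14 K) F ρ φ₀ (e14 K) v₀) {c : K} (hc : F (1 + c) ≠ 1 + F c) :
    13 ≤ finrank k V := by
  have h := pairs_le (α := Fin 6) (β := Fin 6) (γ := Unit) hc (fun a => e (lx a)) (fun a => l (lx a))
    (fun a b => by rw [l_e]; simp only [lx_inj]) _ (fun a => col_of hb (gv14 K a) (gv14_e a)) _
    (fun a => row_of (rv14 K a) (rv14_l a)) id pj14 _
    (fun m => col_of hb (gp14 c m) (gp14_e c m)) _ (fun m => row_of (rp14 K m) (rp14_l m)) (by decide) (by decide)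
    (fun _ => we K) _ (fun _ => col_of hb (xg 5 1 * w6 K) we_e)
    (fun _ => oe K) _ (fun _ => row_of (xg 11 1) oe_l) (fun _ => by rw [oe_we]; exact one_ne_zero)
    (by
      intro _ b
      have h1 : ∀ b, (rv 11 ≠ lx b ∧ hv 1 ≠ lx b ∧ rv 0 ≠ lx b) ∨ (lx b ≠ rv 6 ∧ lx b ≠ hv 1 ∧ lx b ≠ rv 5) := by
        decide +kernel
      rcases h1 b with ⟨h1, h2, h3⟩ | ⟨h1, h2, h3⟩
      · left; rw [oe_e, if_neg h1, if_neg h2, if_neg h3]; ring
      · right; rw [l_we, if_neg h1, if_neg h2, if_neg h3]; ring)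
    (by
      intro _ b
      have h1 : ∀ b, (rv 11 ≠ lx b ∧ hv 1 ≠ lx b ∧ rv 0 ≠ lx b) ∨
          (rv 11 ≠ lx (pj14 b) ∧ hv 1 ≠ lx (pj14 b) ∧ rv 0 ≠ lx (pj14 b)) := by
        decide +kernel
      rcases h1 b with ⟨h1, h2, h3⟩ | ⟨h1, h2, h3⟩
      · left; rw [id, oe_e, if_neg h1, if_neg h2, if_neg h3]; ring
      · right; rw [oe_e, if_neg h1, if_neg h2, if_neg h3]; ring)
    (by
      intro _ b
      have h1 : ∀ b, (lx b ≠ rv 6 ∧ lx b ≠ hv 1 ∧ lx b ≠ rv 5) ∨
          (lx (pj14 b) ≠ rv 6 ∧ lx (pj14 b) ≠ hv 1 ∧ lx (pj14 b) ≠ rv 5) := by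
        decide +kernel
      rcases h1 b with ⟨h1, h2, h3⟩ | ⟨h1, h2, h3⟩
      · left; rw [id, l_we, if_neg h1, if_neg h2, if_neg h3]; ring
      · right; rw [l_we, if_neg h1, if_neg h2, if_neg h3]; ring)
  simpa using h

/-- the positions -/
def lx7 : Fin 7 → chevG2.Idx := ![hv 1, rv 11, rv 10, rv 5, rv 0, rv 1, rv 6]

theorem lx7_inj : Function.Injective lx7 := by
  have : ∀ a b, lx7 a = lx7 b → a = b := by decide +kernel
  exact this

/-- the positions -/
def lx13 : Fin 13 → chevG2.Idx := ![hv 1, rv 0, rv 1, rv 2, rv 3, rv 4, rv 5, rv 6, rv 7, rv 8, rv 9, rv 10, rv 11]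

theorem lx13_inj : Function.Injective lx13 := by
  have : ∀ a b, lx13 a = lx13 b → a = b := by decide +kernel
  exact this

omit [FiniteDimensional k V] in
theorem two_mem {E : Type*} [AddCommGroup E] [Module K E] (S : Submodule K E) {a b : E}
    (h : ∀ t : K, t • a + t ^ 2 • b ∈ S) {c : K} (h0 : c ≠ 0) (h1 : c ≠ 1) : a ∈ S ∧ b ∈ S := by
  have e1 := h 1
  have e2 := h c
  have e3 : (c - c ^ 2) • b ∈ S := by
    have e4 : (c - c ^ 2) • b = c • ((1 : K) • a + (1 : K) ^ 2 • b) - (c • a + c ^ 2 • b) := by module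
    rw [e4]
    exact Submodule.sub_mem _ (Submodule.smul_mem _ _ e1) e2
  have e5 : c - c ^ 2 ≠ 0 := by
    have : c - c ^ 2 = c * (1 - c) := by ring
    rw [this]
    exact mul_ne_zero h0 (sub_ne_zero.2 (Ne.symm h1))
  have e6 : b ∈ S := (Submodule.smul_mem_iff _ e5).1 e3
  refine ⟨?_, e6⟩
  have e7 : a = ((1 : K) • a + (1 : K) ^ 2 • b) - b := by module
  rw [e7]
  exact Submodule.sub_mem _ e1 e6

section add

variable (hadd : ∀ x y, F (x + y) = F x + F y)
include hadd

theorem col14 (hb : Col (a14 K) (l14 K) F ρ φ₀ (e14 K) v₀) (a : Fin 6) : e (lx a) ∈ colSub hadd (a14 K) (l14 K) ρ φ₀ :=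
  ⟨_, col_of hb (gv14 K a) (gv14_e a)⟩

theorem row14 (a : Fin 6) : l (lx a) ∈ rowSub hadd (a14 K) (l14 K) ρ φ₀ := ⟨_, row_of (rv14 K a) (rv14_l a)⟩

theorem colh (hb : Col (a14 K) (l14 K) F ρ φ₀ (e14 K) v₀) : e (hv 1) ∈ colSub hadd (a14 K) (l14 K) ρ φ₀ := by
  have h3 : we K ∈ colSub hadd (a14 K) (l14 K) ρ φ₀ := ⟨_, col_of hb _ we_e⟩
  have h4 : e (hv 1) = e (lx 5) - e (lx 2) - we K := by
    unfold we
    change e (hv 1) = e (rv 6) - e (rv 5) - (e (rv 6) - e (hv 1) - e (rv 5))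
    module
  rw [h4]
  exact Submodule.sub_mem _ (Submodule.sub_mem _ (col14 hadd hb 5) (col14 hadd hb 2)) h3

theorem rowh : l (hv 1) ∈ rowSub hadd (a14 K) (l14 K) ρ φ₀ := by
  have h3 : oe K ∈ rowSub hadd (a14 K) (l14 K) ρ φ₀ := ⟨_, row_of _ oe_l⟩
  have h4 : l (hv 1) = l (lx 0) - l (lx 3) - oe K := by
    unfold oe
    change l (hv 1) = l (rv 11) - l (rv 0) - (l (rv 11) - l (hv 1) - l (rv 0))
    module
  rw [h4]
  exact Submodule.sub_mem _ (Submodule.sub_mem _ (row14 hadd 0) (row14 hadd 3)) h3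

theorem seven14 (hb : Col (a14 K) (l14 K) F ρ φ₀ (e14 K) v₀) : 7 ≤ finrank k V := by
  have h := le_finrank_of_sub hadd (α := Fin 7) (fun a => e (lx7 a)) (fun a => l (lx7 a))
    (by
      intro a
      fin_cases a
      · exact colh hadd hb
      · exact col14 hadd hb 0
      · exact col14 hadd hb 1
      · exact col14 hadd hb 2
      · exact col14 hadd hb 3
      · exact col14 hadd hb 4
      · exact col14 hadd hb 5)
    (by
      intro a
      fin_cases a
      · exact rowh hadd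
      · exact row14 hadd 0
      · exact row14 hadd 1
      · exact row14 hadd 2
      · exact row14 hadd 3
      · exact row14 hadd 4
      · exact row14 hadd 5)
    (fun a => by rw [l_e, if_pos rfl]; exact one_ne_zero)
    (fun a b hab => by rw [l_e, if_neg (fun h => hab (lx7_inj h))])
  simpa using h

theorem thirteen14' (hb : Col (a14 K) (l14 K) F ρ φ₀ (e14 K) v₀) (h3 : (3 : K) ≠ 0) {c : K} (h0 : c ≠ 0) (h1 : c ≠ 1) :
    13 ≤ finrank k V := by
  have c11 : e (rv 11) ∈ colSub hadd (a14 K) (l14 K) ρ φ₀ := col14 hadd hb 0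
  have c10 : e (rv 10) ∈ colSub hadd (a14 K) (l14 K) ρ φ₀ := col14 hadd hb 1
  have c5 : e (rv 5) ∈ colSub hadd (a14 K) (l14 K) ρ φ₀ := col14 hadd hb 2
  have c0 : e (rv 0) ∈ colSub hadd (a14 K) (l14 K) ρ φ₀ := col14 hadd hb 3
  have c1 : e (rv 1) ∈ colSub hadd (a14 K) (l14 K) ρ φ₀ := col14 hadd hb 4
  have c6 : e (rv 6) ∈ colSub hadd (a14 K) (l14 K) ρ φ₀ := col14 hadd hb 5
  have l11 : l (rv 11) ∈ rowSub hadd (a14 K) (l14 K) ρ φ₀ := row14 hadd 0
  have l10 : l (rv 10) ∈ rowSub hadd (a14 K) (l14 K) ρ φ₀ := row14 hadd 1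
  have l5 : l (rv 5) ∈ rowSub hadd (a14 K) (l14 K) ρ φ₀ := row14 hadd 2
  have l0 : l (rv 0) ∈ rowSub hadd (a14 K) (l14 K) ρ φ₀ := row14 hadd 3
  have l1 : l (rv 1) ∈ rowSub hadd (a14 K) (l14 K) ρ φ₀ := row14 hadd 4
  have l6 : l (rv 6) ∈ rowSub hadd (a14 K) (l14 K) ρ φ₀ := row14 hadd 5
  have q1 := two_mem (colSub hadd (a14 K) (l14 K) ρ φ₀) (a := e (rv 4)) (b := -e (rv 2)) (fun t => by
    have h5 : t • e (rv 4) + t ^ 2 • -e (rv 2) = a14 K (xg 3 t) (e (rv 6)) - e (rv 6) - t ^ 3 • e (rv 0) := by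
      rw [C_3_6]; module
    rw [h5]
    exact Submodule.sub_mem _ (Submodule.sub_mem _ (act_mem_colSub c6 _) c6) (Submodule.smul_mem _ _ c0)) h0 h1
  have c4 := q1.1
  have c2 := (Submodule.neg_mem_iff _).1 q1.2
  have q2 := two_mem (colSub hadd (a14 K) (l14 K) ρ φ₀) (a := e (rv 9)) (b := e (rv 7)) (fun t => by
    have h5 : t • e (rv 9) + t ^ 2 • e (rv 7) = a14 K (xg 3 t) (e (rv 11)) - e (rv 11) + t ^ 3 • e (rv 5) := by
      rw [C_3_11]; module
    rw [h5]
    exact Submodule.add_mem _ (Submodule.sub_mem _ (act_mem_colSub c11 _) c11) (Submodule.smul_mem _ _ c5)) h0 h1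
  have c9 := q2.1
  have c7 := q2.2
  have q3 := two_mem (colSub hadd (a14 K) (l14 K) ρ φ₀) (a := -e (rv 7)) (b := e (rv 3)) (fun t => by
    have h5 : t • -e (rv 7) + t ^ 2 • e (rv 3) = a14 K (xg 2 t) (e (rv 10)) - e (rv 10) - t ^ 3 • e (rv 0) := by
      rw [C_2_10]; module
    rw [h5]
    exact Submodule.sub_mem _ (Submodule.sub_mem _ (act_mem_colSub c10 _) c10) (Submodule.smul_mem _ _ c0)) h0 h1
  have c3 := q3.2
  have q4 := two_mem (colSub hadd (a14 K) (l14 K) ρ φ₀) (a := -e (rv 8)) (b := -e (rv 4)) (fun t => by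
    have h5 : t • -e (rv 8) + t ^ 2 • -e (rv 4) = a14 K (xg 2 t) (e (rv 11)) - e (rv 11) + t ^ 3 • e (rv 1) := by
      rw [C_2_11]; module
    rw [h5]
    exact Submodule.add_mem _ (Submodule.sub_mem _ (act_mem_colSub c11 _) c11) (Submodule.smul_mem _ _ c1)) h0 h1
  have c8 := (Submodule.neg_mem_iff _).1 q4.1
  have z1 := two_mem (rowSub hadd (a14 K) (l14 K) ρ φ₀) (a := (3 : K) • l (rv 9)) (b := (3 : K) • l (rv 7)) (fun t => by
    have h5 : t • (3 : K) • l (rv 9) + t ^ 2 • (3 : K) • l (rv 7) =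
        l (rv 11) ∘ₗ a14 K (xg 8 t) - l (rv 11) + t ^ 3 • l (rv 5) := by
      refine LinearMap.ext fun x => ?_
      simp only [LinearMap.add_apply, LinearMap.sub_apply, LinearMap.smul_apply, LinearMap.comp_apply, R_8_11, smul_eq_mul]
      ring
    rw [h5]
    exact Submodule.add_mem _ (Submodule.sub_mem _ (comp_mem_rowSub l11 _) l11) (Submodule.smul_mem _ _ l5)) h0 h1
  have l9 := (Submodule.smul_mem_iff _ h3).1 z1.1
  have l7 := (Submodule.smul_mem_iff _ h3).1 z1.2
  have z2 := two_mem (rowSub hadd (a14 K) (l14 K) ρ φ₀) (a := -((3 : K) • l (rv 8))) (b := -((3 : K) • l (rv 4))) (fun t => by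
    have h5 : t • -((3 : K) • l (rv 8)) + t ^ 2 • -((3 : K) • l (rv 4)) =
        l (rv 11) ∘ₗ a14 K (xg 9 t) - l (rv 11) + t ^ 3 • l (rv 1) := by
      refine LinearMap.ext fun x => ?_
      simp only [LinearMap.add_apply, LinearMap.sub_apply, LinearMap.smul_apply, LinearMap.comp_apply, R_9_11, smul_eq_mul,
        LinearMap.neg_apply]
      ring
    rw [h5]
    exact Submodule.add_mem _ (Submodule.sub_mem _ (comp_mem_rowSub l11 _) l11) (Submodule.smul_mem _ _ l1)) h0 h1
  have l8 := (Submodule.smul_mem_iff _ h3).1 ((Submodule.neg_mem_iff _).1 z2.1)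
  have l4 := (Submodule.smul_mem_iff _ h3).1 ((Submodule.neg_mem_iff _).1 z2.2)
  have z3 := two_mem (rowSub hadd (a14 K) (l14 K) ρ φ₀) (a := (3 : K) • l (rv 4)) (b := -((3 : K) • l (rv 2))) (fun t => by
    have h5 : t • (3 : K) • l (rv 4) + t ^ 2 • -((3 : K) • l (rv 2)) =
        l (rv 6) ∘ₗ a14 K (xg 8 t) - l (rv 6) - t ^ 3 • l (rv 0) := by
      refine LinearMap.ext fun x => ?_
      simp only [LinearMap.add_apply, LinearMap.sub_apply, LinearMap.smul_apply, LinearMap.comp_apply, R_8_6, smul_eq_mul,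
        LinearMap.neg_apply]
      ring
    rw [h5]
    exact Submodule.sub_mem _ (Submodule.sub_mem _ (comp_mem_rowSub l6 _) l6) (Submodule.smul_mem _ _ l0)) h0 h1
  have l2 := (Submodule.smul_mem_iff _ h3).1 ((Submodule.neg_mem_iff _).1 z3.2)
  have z4 := two_mem (rowSub hadd (a14 K) (l14 K) ρ φ₀) (a := (3 : K) • l (rv 3)) (b := (3 : K) • l (rv 2)) (fun t => by
    have h5 : t • (3 : K) • l (rv 3) + t ^ 2 • (3 : K) • l (rv 2) =
        l (rv 5) ∘ₗ a14 K (xg 7 t) - l (rv 5) + t ^ 3 • l (rv 1) := by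
      refine LinearMap.ext fun x => ?_
      simp only [LinearMap.add_apply, LinearMap.sub_apply, LinearMap.smul_apply, LinearMap.comp_apply, R_7_5, smul_eq_mul,
        LinearMap.neg_apply]
      ring
    rw [h5]
    exact Submodule.add_mem _ (Submodule.sub_mem _ (comp_mem_rowSub l5 _) l5) (Submodule.smul_mem _ _ l1)) h0 h1
  have l3 := (Submodule.smul_mem_iff _ h3).1 z4.1
  have h := le_finrank_of_sub hadd (α := Fin 13) (fun a => e (lx13 a)) (fun a => l (lx13 a))
    (by
      intro a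
      fin_cases a
      · exact colh hadd hb
      · exact c0
      · exact c1
      · exact c2
      · exact c3
      · exact c4
      · exact c5
      · exact c6
      · exact c7
      · exact c8
      · exact c9
      · exact c10
      · exact c11)
    (by
      intro a
      fin_cases a
      · exact rowh hadd
      · exact l0
      · exact l1
      · exact l2
      · exact l3
      · exact l4
      · exact l5
      · exact l6
      · exact l7
      · exact l8
      · exact l9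
      · exact l10
      · exact l11)
    (fun a => by rw [l_e, if_pos rfl]; exact one_ne_zero)
    (fun a b hab => by rw [l_e, if_neg (fun h => hab (lx13_inj h))])
  simpa using h

end add

/-! ### characteristic 3 -/

theorem row_tab : ∀ r : Fin 12, ∀ a : Fin 7, ∀ p ∈ row r (lx7 a), (∃ b, p.1 = lx7 b) ∨ (3 : ℤ) ∣ p.2.2 := by
  decide +kernel

theorem long_zero [Finite K] (h3 : (3 : K) = 0) (g : GK K) : ∀ x : chevG2.Idx → K, (∀ a, x (lx7 a) = 0) →
    ∀ a, a14 K g x (lx7 a) = 0 := by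
  refine g_induction (P := fun g => ∀ x : chevG2.Idx → K, (∀ a, x (lx7 a) = 0) → ∀ a, a14 K g x (lx7 a) = 0) ?_ ?_ ?_ g
  · intro x hx a
    rw [map_one]
    exact hx a
  · intro g h hg hh x hx a
    rw [a14_mul]
    exact hg _ (hh x hx) a
  · intro r hr t x hx a
    have h1 := LinearMap.congr_fun (a14_row (K := K) ⟨r, hr⟩ (lx7 a) t) x
    have h2 : a14 K (xg r t) x (lx7 a) = (l (lx7 a) ∘ₗ a14 K (xg ((⟨r, hr⟩ : Fin 12) : ℕ) t)) x := rfl
    rw [h2, h1]
    have h4 := row_tab ⟨r, hr⟩ a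
    generalize row ⟨r, hr⟩ (lx7 a) = L at h4
    clear h1 h2
    induction L with
    | nil => simp
    | cons p L ih =>
      rw [List.map_cons, List.sum_cons, LinearMap.add_apply, ih fun q hq => h4 q (List.mem_cons_of_mem _ hq), add_zero,
        LinearMap.smul_apply]
      rcases h4 p List.mem_cons_self with ⟨b, h5⟩ | ⟨b, h5⟩
      · rw [h5, l_apply, hx b, smul_zero]
      · rw [h5, Int.cast_mul]
        have : ((3 : ℤ) : K) = 0 := by rw [← h3]; norm_num
        rw [this, zero_mul, zero_mul, zero_smul]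

theorem l14_mul_three [Finite K] (h3 : (3 : K) = 0) (g h : GK K) : l14 K (a14 K (g * h) (e14 K)) =
    ∑ a, l14 K (a14 K g (e (lx7 a))) * l (lx7 a) (a14 K h (e14 K)) := by
  rw [a14_mul]
  generalize a14 K h (e14 K) = y
  have h4 : y = (y - ∑ a, y (lx7 a) • e (lx7 a)) + ∑ a, y (lx7 a) • e (lx7 a) := by abel
  have h5 : l14 K (a14 K g (y - ∑ a, y (lx7 a) • e (lx7 a))) = 0 := by
    refine long_zero h3 g _ (fun b => ?_) 1
    rw [Pi.sub_apply, Finset.sum_apply, Finset.sum_eq_single b]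
    · rw [Pi.smul_apply, e, Pi.single_eq_same, smul_eq_mul, mul_one, sub_self]
    · intro a _ hab
      rw [Pi.smul_apply, e, Pi.single_eq_of_ne (fun h => hab (lx7_inj h).symm), smul_zero]
    · intro h
      exact absurd (Finset.mem_univ b) h
  conv_lhs => rw [h4]
  rw [map_add, map_add, h5, zero_add, map_sum, map_sum]
  refine Finset.sum_congr rfl fun a _ => ?_
  rw [map_smul, map_smul, smul_eq_mul, mul_comm, l_apply]

theorem le_seven14 [Finite K] (hadd : ∀ x y, F (x + y) = F x + F y)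
    (hirr : ∀ L : Submodule k V, (∀ g, ∀ w ∈ L, ρ g w ∈ L) → L = ⊥ ∨ L = ⊤) (hφ : φ₀ ≠ 0) (hv : v₀ ≠ 0)
    (hb : Col (a14 K) (l14 K) F ρ φ₀ (e14 K) v₀) (h3 : (3 : K) = 0) : finrank k V ≤ 7 := by
  have hs : ∀ (s : Finset (Fin 7)) (f : Fin 7 → K), F (∑ a ∈ s, f a) = ∑ a ∈ s, F (f a) := by
    intro s f
    induction s using Finset.induction_on with
    | empty => simp
    | insert a s ha ih => rw [Finset.sum_insert ha, Finset.sum_insert ha, hadd, ih]
  have h := Cfsg.Agent.H887.DS.finrank_le hirr (M := Fin 7) (φ := φ₀) (v := v₀)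
    (c := fun _ => 1)
    (F := fun a g => F (l14 K (a14 K g (e (lx7 a)))))
    (Gf := fun a h => F (l (lx7 a) (a14 K h (e14 K)))) hφ hv (fun g h => by
      rw [hb (g * h), l14_mul_three h3, hs]
      simp only [map_mul, one_mul])
  simpa using h

end low

end Cfsg.Agent.H927.G2
end

-- part: H927/G2Full
section
/-!
# Simple modules of `G₂(K)` with highest weight moved by both simple reflections: `n ≥ 13` (helper927)
-/

set_option autoImplicit false
set_option linter.unusedSectionVars false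
set_option linter.style.haveILetI false
set_option linter.unusedSimpArgs false

namespace Cfsg.Agent.H927.G2

open Cfsg.Agent.H927.LD
open Module Cfsg.Lie

variable {K : Type} [Field K] [Finite K]

section

variable {k V : Type*} [Field k] [AddCommGroup V] [Module k V] [FiniteDimensional k V]
  {Fa Fb : K →*₀ k} {ρ : GK K →* Module.End k V} {φ₀ : Dual k V} {v₀ : V}

/-- `v` corresponds to `(x, y)` -/
def Col2 (Fa Fb : K →*₀ k) (ρ : GK K →* Module.End k V) (φ₀ : Dual k V) (x : Fin 8 → K) (y : chevG2.Idx → K) (v : V) : Prop :=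
  ∀ g, φ₀ (ρ g v) = Fa (l8 K (a8 K g x)) * Fb (l14 K (a14 K g y))

/-- `ψ` corresponds to `(ℓ, m)` -/
def Row2 (Fa Fb : K →*₀ k) (ρ : GK K →* Module.End k V) (φ₀ : Dual k V) (ℓ : (Fin 8 → K) →ₗ[K] K)
    (m : (chevG2.Idx → K) →ₗ[K] K) (ψ : Dual k V) : Prop :=
  ∀ x y v, Col2 Fa Fb ρ φ₀ x y v → ψ v = Fa (ℓ x) * Fb (m y)

theorem Col2.move {x y} {v : V} (h : Col2 Fa Fb ρ φ₀ x y v) (a : GK K) : Col2 Fa Fb ρ φ₀ (a8 K a x) (a14 K a y) (ρ a v) := by
  intro g
  have := h (g * a)
  rw [map_mul, map_mul, map_mul] at this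
  exact this

theorem Row2.base : Row2 Fa Fb ρ φ₀ (l8 K) (l14 K) φ₀ := by
  intro x y v h
  have := h 1
  rw [map_one, map_one, map_one] at this
  exact this

theorem Row2.comp {ℓ m} {ψ : Dual k V} (h : Row2 Fa Fb ρ φ₀ ℓ m ψ) (a : GK K) :
    Row2 Fa Fb ρ φ₀ (ℓ ∘ₗ a8 K a) (m ∘ₗ a14 K a) (ψ ∘ₗ ρ a) := fun _ _ _ hx => h _ _ _ (hx.move a)

theorem Col2.smul {x y} {v : V} (h : Col2 Fa Fb ρ φ₀ x y v) (c d : K) : Col2 Fa Fb ρ φ₀ (c • x) (d • y) ((Fa c * Fb d) • v) := by
  intro g
  simp only [map_smul, smul_eq_mul, h g, map_mul]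
  ring

theorem Row2.smul {ℓ m} {ψ : Dual k V} (h : Row2 Fa Fb ρ φ₀ ℓ m ψ) (c d : K) :
    Row2 Fa Fb ρ φ₀ (c • ℓ) (d • m) ((Fa c * Fb d) • ψ) := fun x y v hx => by
  simp only [LinearMap.smul_apply, h x y v hx, smul_eq_mul, map_mul]
  ring

/-- the flags -/
def iw : Fin 12 → Fin 8 := ![6, 2, 1, 4, 5, 3, 3, 5, 4, 1, 2, 6]
/-- the flags -/
def rw_ : Fin 12 → chevG2.Idx := ![rv 11, rv 11, rv 10, rv 6, rv 5, rv 1, rv 0, rv 0, rv 1, rv 5, rv 6, rv 10]

theorem flag_inj : ∀ a b, iw a = iw b → rw_ a = rw_ b → a = b := by decide +kernel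

/-- the column `(i, r)` occurs -/
def FC (K : Type) [Field K] [Finite K] (i : Fin 8) (r : chevG2.Idx) : Prop :=
  ∃ (g : GK K) (c d : K), c ≠ 0 ∧ d ≠ 0 ∧ a8 K g (e8 K) = c • E8 K i ∧ a14 K g (e14 K) = d • e r

/-- the row `(i, r)` occurs -/
def FR (K : Type) [Field K] [Finite K] (i : Fin 8) (r : chevG2.Idx) : Prop :=
  ∃ (g : GK K) (c d : K), c ≠ 0 ∧ d ≠ 0 ∧ l8 K ∘ₗ a8 K g = c • L8 K i ∧ l14 K ∘ₗ a14 K g = d • l r

theorem FC.step {i i' : Fin 8} {r r' : chevG2.Idx} (h : FC K i r) (n : GK K) {c d : K} (hc : c ≠ 0) (hd : d ≠ 0)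
    (h1 : a8 K n (E8 K i) = c • E8 K i') (h2 : a14 K n (e r) = d • e r') : FC K i' r' := by
  obtain ⟨g, a, b, ha, hb, h3, h4⟩ := h
  refine ⟨n * g, a * c, b * d, mul_ne_zero ha hc, mul_ne_zero hb hd, ?_, ?_⟩
  · rw [a8_mul, h3, map_smul, h1, smul_smul]
  · rw [a14_mul, h4, map_smul, h2, smul_smul]

theorem FR.step {i i' : Fin 8} {r r' : chevG2.Idx} (h : FR K i r) (n : GK K) {c d : K} (hc : c ≠ 0) (hd : d ≠ 0)
    (h1 : L8 K i ∘ₗ a8 K n = c • L8 K i') (h2 : l r ∘ₗ a14 K n = d • l r') : FR K i' r' := by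
  obtain ⟨g, a, b, ha, hb, h3, h4⟩ := h
  refine ⟨g * n, a * c, b * d, mul_ne_zero ha hc, mul_ne_zero hb hd, ?_, ?_⟩
  · have : l8 K ∘ₗ a8 K (g * n) = (l8 K ∘ₗ a8 K g) ∘ₗ a8 K n := by rw [map_mul]; rfl
    rw [this, h3, LinearMap.smul_comp, h1, smul_smul]
  · have : l14 K ∘ₗ a14 K (g * n) = (l14 K ∘ₗ a14 K g) ∘ₗ a14 K n := by rw [map_mul]; rfl
    rw [this, h4, LinearMap.smul_comp, h2, smul_smul]

theorem E0 (i j : Fin 8) (c : K) (h : ![(E8 K i) 7, -(E8 K i) 4, (E8 K i) 6, -(E8 K i) 5, -(E8 K i) 1, (E8 K i) 3, -(E8 K i) 2, (E8 K i) 0] = c • E8 K j) :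
    a8 K (n2 K 0) (E8 K i) = c • E8 K j := by rw [a8_n0]; exact h
theorem E1 (i j : Fin 8) (c : K) (h : ![(E8 K i) 0, -(E8 K i) 2, (E8 K i) 1, (E8 K i) 3, -(E8 K i) 5, (E8 K i) 4, (E8 K i) 6, (E8 K i) 7] = c • E8 K j) :
    a8 K (n2 K 1) (E8 K i) = c • E8 K j := by rw [a8_n1]; exact h

theorem FC_all : ∀ a, FC K (iw a) (rw_ a) := by
  have one := one_ne_zero (α := K)
  have mone : (-1 : K) ≠ 0 := neg_ne_zero.2 one
  have f0 : FC K 6 (rv 11) := ⟨1, 1, 1, one, one, by rw [map_one, one_smul]; rfl, by rw [map_one, one_smul]; rfl⟩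
  have f1 : FC K 2 (rv 11) := f0.step (n2 K 0) (c := 1) one one (E0 _ _ _ (by ext j; (revert j; simp only [E8, _root_.Fin.forall_fin_succ, _root_.Nat.succ_eq_add_one, Nat.reduceAdd, Fin.isValue, _root_.ne_eq, Fin.reduceEq, _root_.not_false_eq_true, _root_.Pi.single_eq_of_ne, _root_.neg_zero, _root_.Pi.single_eq_same, _root_.Pi.smul_apply, _root_.smul_eq_mul, _root_.one_mul, _root_.Matrix.cons_val_zero, _root_.Matrix.cons_val_succ, _root_.Fin.succ_zero_eq_one, _root_.Fin.succ_one_eq_two, Fin.reduceSucc, _root_.Matrix.cons_val_fin_one, _root_.IsEmpty.forall_iff, _root_.and_self]))) NC0_11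
  have f2 : FC K 1 (rv 10) := f1.step (n2 K 1) (c := -1) mone mone (E1 _ _ _ (by ext j; (revert j; simp only [E8, _root_.Fin.forall_fin_succ, _root_.Nat.succ_eq_add_one, Nat.reduceAdd, Fin.isValue, _root_.ne_eq, Fin.reduceEq, _root_.not_false_eq_true, _root_.Pi.single_eq_of_ne, _root_.Pi.single_eq_same, _root_.neg_zero, _root_.Pi.smul_apply, _root_.smul_eq_mul, _root_.neg_mul, _root_.one_mul, _root_.Matrix.cons_val_zero, _root_.zero_ne_one, _root_.Matrix.cons_val_succ, _root_.Fin.succ_zero_eq_one, _root_.Fin.succ_one_eq_two, Fin.reduceSucc, _root_.Matrix.cons_val_fin_one, _root_.zero_eq_neg, _root_.IsEmpty.forall_iff, _root_.and_self]))) NC1_11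
  have f3 : FC K 4 (rv 6) := f2.step (n2 K 0) (c := -1) mone mone (E0 _ _ _ (by ext j; (revert j; simp only [E8, _root_.Fin.forall_fin_succ, _root_.Nat.succ_eq_add_one, Nat.reduceAdd, Fin.isValue, _root_.ne_eq, Fin.reduceEq, _root_.not_false_eq_true, _root_.Pi.single_eq_of_ne, _root_.neg_zero, _root_.Pi.single_eq_same, _root_.zero_ne_one, _root_.Pi.smul_apply, _root_.smul_eq_mul, _root_.neg_mul, _root_.one_mul, _root_.Matrix.cons_val_zero, _root_.Matrix.cons_val_succ, _root_.Fin.succ_zero_eq_one, _root_.Fin.succ_one_eq_two, Fin.reduceSucc, _root_.Matrix.cons_val_fin_one, _root_.zero_eq_neg, _root_.IsEmpty.forall_iff, _root_.and_self]))) NC0_10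
  have f4 : FC K 5 (rv 5) := f3.step (n2 K 1) (c := 1) one mone (E1 _ _ _ (by ext j; (revert j; simp only [E8, _root_.Fin.forall_fin_succ, _root_.Nat.succ_eq_add_one, Nat.reduceAdd, Fin.isValue, _root_.ne_eq, Fin.reduceEq, _root_.not_false_eq_true, _root_.Pi.single_eq_of_ne, _root_.neg_zero, _root_.Pi.single_eq_same, _root_.Pi.smul_apply, _root_.smul_eq_mul, _root_.one_mul, _root_.Matrix.cons_val_zero, _root_.Matrix.cons_val_succ, _root_.Fin.succ_zero_eq_one, _root_.Fin.succ_one_eq_two, Fin.reduceSucc, _root_.Matrix.cons_val_fin_one, _root_.IsEmpty.forall_iff, _root_.and_self]))) NC1_6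
  have f5 : FC K 3 (rv 1) := f4.step (n2 K 0) (c := -1) mone one (E0 _ _ _ (by ext j; (revert j; simp only [E8, _root_.Fin.forall_fin_succ, _root_.Nat.succ_eq_add_one, Nat.reduceAdd, Fin.isValue, _root_.ne_eq, Fin.reduceEq, _root_.not_false_eq_true, _root_.Pi.single_eq_of_ne, _root_.neg_zero, _root_.Pi.single_eq_same, _root_.Pi.smul_apply, _root_.smul_eq_mul, _root_.neg_mul, _root_.one_mul, _root_.Matrix.cons_val_zero, _root_.Matrix.cons_val_succ, _root_.Fin.succ_zero_eq_one, _root_.Fin.succ_one_eq_two, Fin.reduceSucc, _root_.Matrix.cons_val_fin_one, _root_.zero_eq_neg, _root_.IsEmpty.forall_iff, _root_.and_self]))) NC0_5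
  have f6 : FC K 3 (rv 0) := f5.step (n2 K 1) (c := 1) one one (E1 _ _ _ (by ext j; (revert j; simp only [E8, _root_.Fin.forall_fin_succ, _root_.Nat.succ_eq_add_one, Nat.reduceAdd, Fin.isValue, _root_.ne_eq, Fin.reduceEq, _root_.not_false_eq_true, _root_.Pi.single_eq_of_ne, _root_.neg_zero, _root_.Pi.single_eq_same, _root_.Pi.smul_apply, _root_.smul_eq_mul, _root_.one_mul, _root_.Matrix.cons_val_zero, _root_.Matrix.cons_val_succ, _root_.Fin.succ_zero_eq_one, _root_.Fin.succ_one_eq_two, Fin.reduceSucc, _root_.Matrix.cons_val_fin_one, _root_.IsEmpty.forall_iff, _root_.and_self]))) NC1_1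
  have f7 : FC K 5 (rv 0) := f6.step (n2 K 0) (c := 1) one one (E0 _ _ _ (by ext j; (revert j; simp only [E8, _root_.Fin.forall_fin_succ, _root_.Nat.succ_eq_add_one, Nat.reduceAdd, Fin.isValue, _root_.ne_eq, Fin.reduceEq, _root_.not_false_eq_true, _root_.Pi.single_eq_of_ne, _root_.neg_zero, _root_.Pi.single_eq_same, _root_.Pi.smul_apply, _root_.smul_eq_mul, _root_.one_mul, _root_.Matrix.cons_val_zero, _root_.Matrix.cons_val_succ, _root_.Fin.succ_zero_eq_one, _root_.Fin.succ_one_eq_two, Fin.reduceSucc, _root_.Matrix.cons_val_fin_one, _root_.IsEmpty.forall_iff, _root_.and_self]))) NC0_0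
  have f8 : FC K 4 (rv 1) := f7.step (n2 K 1) (c := -1) mone mone (E1 _ _ _ (by ext j; (revert j; simp only [E8, _root_.Fin.forall_fin_succ, _root_.Nat.succ_eq_add_one, Nat.reduceAdd, Fin.isValue, _root_.ne_eq, Fin.reduceEq, _root_.not_false_eq_true, _root_.Pi.single_eq_of_ne, _root_.neg_zero, _root_.Pi.single_eq_same, _root_.Pi.smul_apply, _root_.smul_eq_mul, _root_.neg_mul, _root_.one_mul, _root_.Matrix.cons_val_zero, _root_.Matrix.cons_val_succ, _root_.Fin.succ_zero_eq_one, _root_.Fin.succ_one_eq_two, Fin.reduceSucc, _root_.Matrix.cons_val_fin_one, _root_.zero_eq_neg, _root_.IsEmpty.forall_iff, _root_.and_self]))) NC1_0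
  have f9 : FC K 1 (rv 5) := f8.step (n2 K 0) (c := -1) mone mone (E0 _ _ _ (by ext j; (revert j; simp only [E8, _root_.Fin.forall_fin_succ, _root_.Nat.succ_eq_add_one, Nat.reduceAdd, Fin.isValue, _root_.ne_eq, Fin.reduceEq, _root_.not_false_eq_true, _root_.Pi.single_eq_of_ne, _root_.Pi.single_eq_same, _root_.neg_zero, _root_.Pi.smul_apply, _root_.smul_eq_mul, _root_.neg_mul, _root_.one_mul, _root_.Matrix.cons_val_zero, _root_.zero_ne_one, _root_.Matrix.cons_val_succ, _root_.Fin.succ_zero_eq_one, _root_.Fin.succ_one_eq_two, Fin.reduceSucc, _root_.Matrix.cons_val_fin_one, _root_.zero_eq_neg, _root_.IsEmpty.forall_iff, _root_.and_self]))) NC0_1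
  have f10 : FC K 2 (rv 6) := f9.step (n2 K 1) (c := 1) one mone (E1 _ _ _ (by ext j; (revert j; simp only [E8, _root_.Fin.forall_fin_succ, _root_.Nat.succ_eq_add_one, Nat.reduceAdd, Fin.isValue, _root_.ne_eq, _root_.zero_ne_one, _root_.not_false_eq_true, _root_.Pi.single_eq_of_ne, Fin.reduceEq, _root_.neg_zero, _root_.Pi.single_eq_same, _root_.Pi.smul_apply, _root_.smul_eq_mul, _root_.one_mul, _root_.Matrix.cons_val_zero, _root_.Matrix.cons_val_succ, _root_.Fin.succ_zero_eq_one, _root_.Fin.succ_one_eq_two, Fin.reduceSucc, _root_.Matrix.cons_val_fin_one, _root_.IsEmpty.forall_iff, _root_.and_self]))) NC1_5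
  have f11 : FC K 6 (rv 10) := f10.step (n2 K 0) (c := -1) mone one (E0 _ _ _ (by ext j; (revert j; simp only [E8, _root_.Fin.forall_fin_succ, _root_.Nat.succ_eq_add_one, Nat.reduceAdd, Fin.isValue, _root_.ne_eq, Fin.reduceEq, _root_.not_false_eq_true, _root_.Pi.single_eq_of_ne, _root_.neg_zero, _root_.Pi.single_eq_same, _root_.Pi.smul_apply, _root_.smul_eq_mul, _root_.neg_mul, _root_.one_mul, _root_.Matrix.cons_val_zero, _root_.Matrix.cons_val_succ, _root_.Fin.succ_zero_eq_one, _root_.Fin.succ_one_eq_two, Fin.reduceSucc, _root_.Matrix.cons_val_fin_one, _root_.zero_eq_neg, _root_.IsEmpty.forall_iff, _root_.and_self]))) NC0_6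
  intro a
  fin_cases a
  · exact f0
  · exact f1
  · exact f2
  · exact f3
  · exact f4
  · exact f5
  · exact f6
  · exact f7
  · exact f8
  · exact f9
  · exact f10
  · exact f11

theorem L0 (i j : Fin 8) (c : K) (h : ∀ x : Fin 8 → K, ![x 7, -x 4, x 6, -x 5, -x 1, x 3, -x 2, x 0] i = c * x j) :
    L8 K i ∘ₗ a8 K (n2 K 0) = c • L8 K j := by
  refine LinearMap.ext fun x => ?_
  rw [LinearMap.comp_apply, a8_n0]
  exact h x
theorem L1 (i j : Fin 8) (c : K) (h : ∀ x : Fin 8 → K, ![x 0, -x 2, x 1, x 3, -x 5, x 4, x 6, x 7] i = c * x j) :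
    L8 K i ∘ₗ a8 K (n2 K 1) = c • L8 K j := by
  refine LinearMap.ext fun x => ?_
  rw [LinearMap.comp_apply, a8_n1]
  exact h x

theorem FR_all : ∀ a, FR K (iw a) (rw_ a) := by
  have one := one_ne_zero (α := K)
  have mone : (-1 : K) ≠ 0 := neg_ne_zero.2 one
  have f0 : FR K 6 (rv 11) := ⟨1, 1, 1, one, one, by rw [map_one, one_smul]; rfl, by rw [map_one, one_smul]; rfl⟩
  have f1 : FR K 2 (rv 11) := f0.step (n2 K 0) (c := -1) mone one (L0 _ _ _ (fun x => by simp)) NR0_11
  have f2 : FR K 1 (rv 10) := f1.step (n2 K 1) (c := 1) one one (L1 _ _ _ (fun x => by simp)) NR1_11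
  have f3 : FR K 4 (rv 6) := f2.step (n2 K 0) (c := -1) mone one (L0 _ _ _ (fun x => by simp)) NR0_10
  have f4 : FR K 5 (rv 5) := f3.step (n2 K 1) (c := -1) mone mone (L1 _ _ _ (fun x => by simp)) NR1_6
  have f5 : FR K 3 (rv 1) := f4.step (n2 K 0) (c := 1) one mone (L0 _ _ _ (fun x => by simp)) NR0_5
  have f6 : FR K 3 (rv 0) := f5.step (n2 K 1) (c := 1) one mone (L1 _ _ _ (fun x => by simp)) NR1_1
  have f7 : FR K 5 (rv 0) := f6.step (n2 K 0) (c := -1) mone one (L0 _ _ _ (fun x => by simp)) NR0_0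
  have f8 : FR K 4 (rv 1) := f7.step (n2 K 1) (c := 1) one one (L1 _ _ _ (fun x => by simp)) NR1_0
  have f9 : FR K 1 (rv 5) := f8.step (n2 K 0) (c := -1) mone one (L0 _ _ _ (fun x => by simp)) NR0_1
  have f10 : FR K 2 (rv 6) := f9.step (n2 K 1) (c := -1) mone mone (L1 _ _ _ (fun x => by simp)) NR1_5
  have f11 : FR K 6 (rv 10) := f10.step (n2 K 0) (c := 1) one mone (L0 _ _ _ (fun x => by simp)) NR0_6
  intro a
  fin_cases a
  · exact f0
  · exact f1
  · exact f2
  · exact f3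
  · exact f4
  · exact f5
  · exact f6
  · exact f7
  · exact f8
  · exact f9
  · exact f10
  · exact f11

/-- **the identity** -/
theorem ident (hb : Col2 Fa Fb ρ φ₀ (e8 K) (e14 K) v₀) (hn : ¬ 13 ≤ finrank k V)
    {x : Fin 8 → K} {y : chevG2.Idx → K} {u : V} (hu : Col2 Fa Fb ρ φ₀ x y u)
    {ℓ : (Fin 8 → K) →ₗ[K] K} {m : (chevG2.Idx → K) →ₗ[K] K} {ψ : Dual k V} (hψ : Row2 Fa Fb ρ φ₀ ℓ m ψ) :
    Fa (ℓ x) * Fb (m y) = ∑ a, Fa (ℓ (E8 K (iw a)) * x (iw a)) * Fb (m (e (rw_ a)) * y (rw_ a)) := by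
  by_contra hne
  apply hn
  have hc : ∀ a, ∃ v : V, Col2 Fa Fb ρ φ₀ (E8 K (iw a)) (e (rw_ a)) v := by
    intro a
    obtain ⟨g, c, d, h0, h1, h2, h3⟩ := FC_all (K := K) a
    have h4 := (hb.move g).smul c⁻¹ d⁻¹
    rw [h2, h3, smul_smul, smul_smul, inv_mul_cancel₀ h0, inv_mul_cancel₀ h1, one_smul, one_smul] at h4
    exact ⟨_, h4⟩
  have hr : ∀ a, ∃ ψ : Dual k V, Row2 Fa Fb ρ φ₀ (L8 K (iw a)) (l (rw_ a)) ψ := by
    intro a
    obtain ⟨g, c, d, h0, h1, h2, h3⟩ := FR_all (K := K) a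
    have h4 := ((Row2.base (Fa := Fa) (Fb := Fb) (ρ := ρ) (φ₀ := φ₀)).comp g).smul c⁻¹ d⁻¹
    rw [h2, h3, smul_smul, smul_smul, inv_mul_cancel₀ h0, inv_mul_cancel₀ h1, one_smul, one_smul] at h4
    exact ⟨_, h4⟩
  choose v hv using hc
  choose φ hφ using hr
  have h := schur_le (α := Fin 12) (β := Unit) v (fun _ => u) φ (fun _ => ψ) (fun a b => by
    rw [hφ a _ _ _ (hv b), L8_E8, l_e]
    by_cases hab : a = b
    · subst hab
      rw [if_pos rfl, if_pos rfl, if_pos rfl, map_one, map_one, one_mul]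
    · rw [if_neg hab]
      by_cases h1 : iw a = iw b
      · have h2 : rw_ a ≠ rw_ b := fun h => hab (flag_inj a b h1 h)
        rw [if_neg h2, map_zero, mul_zero]
      · rw [if_neg h1, map_zero, zero_mul]) (fun _ _ h => absurd rfl h) (fun _ => by
    rw [hψ _ _ _ hu]
    intro h
    apply hne
    rw [h]
    refine Finset.sum_congr rfl fun a _ => ?_
    rw [hψ _ _ _ (hv a), hφ a _ _ _ hu, map_mul, map_mul]
    change _ * (Fa (x (iw a)) * Fb (y (rw_ a))) = _
    ring)
  simpa using h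

end

end Cfsg.Agent.H927.G2
end

-- part: H927/G2Full2
section
/-!
# Simple modules of `G₂(K)` with highest weight moved by both simple reflections: `n ≥ 13` (helper927), end
-/

set_option autoImplicit false
set_option linter.unusedSectionVars false
set_option linter.style.haveILetI false
set_option linter.unusedSimpArgs false

namespace Cfsg.Agent.H927.G2

open Cfsg.Agent.H927.LD
open Module Cfsg.Lie

variable {K : Type} [Field K] [Finite K]

section

variable {k V : Type*} [Field k] [AddCommGroup V] [Module k V] [FiniteDimensional k V]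
  {Fa Fb : K →*₀ k} {ρ : GK K →* Module.End k V} {φ₀ : Dual k V} {v₀ : V}

theorem col2_of (hb : Col2 Fa Fb ρ φ₀ (e8 K) (e14 K) v₀) (g : GK K) {x y} (h1 : a8 K g (e8 K) = x)
    (h2 : a14 K g (e14 K) = y) : Col2 Fa Fb ρ φ₀ x y (ρ g v₀) := h1 ▸ h2 ▸ hb.move g

theorem row2_of (g : GK K) {ℓ m} (h1 : l8 K ∘ₗ a8 K g = ℓ)
    (h2 : l14 K ∘ₗ a14 K g = m) : Row2 Fa Fb ρ φ₀ ℓ m (φ₀ ∘ₗ ρ g) := h1 ▸ h2 ▸ Row2.base.comp g

/-- the sum with two terms -/
theorem ident_two (hb : Col2 Fa Fb ρ φ₀ (e8 K) (e14 K) v₀) (hn : ¬ 13 ≤ finrank k V)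
    {x : Fin 8 → K} {y : chevG2.Idx → K} {u : V} (hu : Col2 Fa Fb ρ φ₀ x y u)
    {ℓ : (Fin 8 → K) →ₗ[K] K} {m : (chevG2.Idx → K) →ₗ[K] K} {ψ : Dual k V} (hψ : Row2 Fa Fb ρ φ₀ ℓ m ψ) (j : Fin 12)
    (hj : j ≠ 0) (h0 : ∀ a, a ≠ 0 → a ≠ j → x (iw a) = 0 ∨ m (e (rw_ a)) = 0) :
    Fa (ℓ x) * Fb (m y) = Fa (ℓ (E8 K 6) * x 6) * Fb (m (e (rv 11)) * y (rv 11)) +
      Fa (ℓ (E8 K (iw j)) * x (iw j)) * Fb (m (e (rw_ j)) * y (rw_ j)) := by
  rw [ident hb hn hu hψ, Finset.sum_eq_add (0 : Fin 12) j hj.symm]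
  · rfl
  · rintro a _ ⟨h1, h2⟩
    rcases h0 a h1 h2 with h | h
    · rw [h, mul_zero, map_zero, zero_mul]
    · rw [h, zero_mul, map_zero, mul_zero]
  · intro h
    exact absurd (Finset.mem_univ _) h
  · intro h
    exact absurd (Finset.mem_univ _) h

theorem add_a (hb : Col2 Fa Fb ρ φ₀ (e8 K) (e14 K) v₀) (hn : ¬ 13 ≤ finrank k V) (c : K) : Fa (1 + c) = 1 + Fa c := by
  have hu := col2_of hb (xg 4 c) (x := E8 K 6 - c • E8 K 2) (y := e (rv 11)) (by
    rw [a8_4]; ext i; (revert i; simp only [e8, E8, _root_.Fin.forall_fin_succ, _root_.Nat.succ_eq_add_one, Nat.reduceAdd, Fin.isValue, _root_.ne_eq, Fin.reduceEq, _root_.not_false_eq_true, _root_.Pi.single_eq_of_ne, _root_.MulZeroClass.mul_zero, _root_.sub_self, _root_.Pi.single_eq_same, _root_.mul_one, _root_.zero_sub, _root_.add_zero, _root_.Pi.sub_apply, _root_.Pi.smul_apply, _root_.smul_eq_mul, _root_.Matrix.cons_val_zero, _root_.Matrix.cons_val_succ, _root_.Fin.succ_zero_eq_one, _root_.Fin.succ_one_eq_two,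 Fin.reduceSucc, _root_.sub_zero, _root_.Matrix.cons_val_fin_one, _root_.IsEmpty.forall_iff, _root_.and_self])) (a14_pos (by norm_num) (by norm_num) c)
  have hr := row2_of (Fa := Fa) (Fb := Fb) (ρ := ρ) (φ₀ := φ₀) (xg 7 1) (ℓ := L8 K 6 - L8 K 2) (m := l (rv 11)) (by
    refine LinearMap.ext fun x => ?_
    rw [LinearMap.comp_apply, a8_7]
    simp only [l8, L8, _root_.Fin.isValue, _root_.Nat.succ_eq_add_one, _root_.Nat.reduceAdd, _root_.one_mul, _root_.one_pow, _root_.LinearMap.coe_proj, _root_.Function.eval, _root_.Matrix.cons_val, _root_.LinearMap.sub_apply]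
    try ring) (LinearMap.ext fun x => a14_neg (by norm_num) (by norm_num) 1 x)
  have h := ident_two hb hn hu hr 1 (by decide) (by
    intro a h1 h2
    have h3 : ∀ a : Fin 12, a ≠ 0 → a ≠ 1 → (iw a ≠ 6 ∧ iw a ≠ 2) ∨ rv 11 ≠ rw_ a := by decide +kernel
    rcases h3 a h1 h2 with ⟨h4, h5⟩ | h4
    · left
      simp [E8, h4, h5]
    · right
      rw [l_e, if_neg h4])
  simp only [LinearMap.sub_apply, map_sub, map_smul, L8_E8, l_e] at h
  simp only [E8, iw, rw_, e, ↓ _root_.reduceIte, _root_.Fin.isValue, _root_.Fin.reduceEq, _root_.sub_zero, _root_.zero_sub, _root_.smul_eq_mul, _root_.mul_neg, _root_.mul_one, _root_.sub_neg_eq_add, _root_.map_one, _root_.Pi.sub_apply, _root_.Pi.single_eq_same, _root_.Pi.smul_apply, _root_.ne_eq, _root_.not_false_eq_true, _root_.Pi.single_eq_of_ne, _root_.MulZeroClass.mul_zero, _root_.Matrix.cons_val_one, _root_.Matrix.cons_val_zero, _root_.neg_mul, _root_.one_mul, _root_.neg_neg] at h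
  exact h

theorem add_b (hb : Col2 Fa Fb ρ φ₀ (e8 K) (e14 K) v₀) (hn : ¬ 13 ≤ finrank k V) (c : K) : Fb (1 + c) = 1 + Fb c := by
  have hu := col2_of hb (xg 5 c) (x := E8 K 6) (y := e (rv 11) + c • e (rv 10)) (a8_pos (by norm_num) (by norm_num) c) (by
    unfold e14
    rw [C_5_11]; module)
  have hr := row2_of (Fa := Fa) (Fb := Fb) (ρ := ρ) (φ₀ := φ₀) (xg 6 1) (ℓ := L8 K 6) (m := l (rv 11) + l (rv 10))
    (LinearMap.ext fun x => a8_neg (by norm_num) 1 x) (by
    refine LinearMap.ext fun x => ?_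
    rw [LinearMap.comp_apply]
    unfold l14
    rw [R_6_11, LinearMap.add_apply]
    ring)
  have h := ident_two hb hn hu hr 11 (by decide) (by
    intro a h1 h2
    have h3 : ∀ a : Fin 12, a ≠ 0 → a ≠ 11 → (iw a ≠ 6) ∨ (rv 11 ≠ rw_ a ∧ rv 10 ≠ rw_ a) := by decide +kernel
    rcases h3 a h1 h2 with h4 | ⟨h4, h5⟩
    · left
      simp [E8, h4]
    · right
      rw [LinearMap.add_apply, l_e, l_e, if_neg h4, if_neg h5, add_zero])
  have hne : (rv 11 : chevG2.Idx) ≠ rv 10 := by decide +kernel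
  simp only [LinearMap.add_apply, map_add, map_smul, L8_E8, l_e, if_neg hne, if_neg hne.symm, if_true, smul_zero, smul_eq_mul,
    mul_one, add_zero, zero_add] at h
  simp only [E8, iw, rw_, e, hne, hne.symm, _root_.map_one, _root_.one_mul, _root_.Fin.isValue, _root_.Pi.single_eq_same, _root_.mul_one, _root_.Pi.add_apply, _root_.Pi.smul_apply, _root_.ne_eq, _root_.not_false_eq_true, _root_.Pi.single_eq_of_ne, _root_.smul_eq_mul, _root_.MulZeroClass.mul_zero, _root_.add_zero, _root_.Matrix.cons_val, ↓ _root_.reduceIte, _root_.zero_add] at h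
  exact h

theorem add_ab (hb : Col2 Fa Fb ρ φ₀ (e8 K) (e14 K) v₀) (hn : ¬ 13 ≤ finrank k V) (c : K) :
    Fa (1 + c) * Fb (1 + c) = 1 + Fa c * Fb c := by
  have hu := col2_of hb (xg 1 c) (x := E8 K 6 + c • E8 K 4) (y := e (rv 11) - c • e (rv 6)) (by
    rw [a8_1]; ext i; (revert i; simp only [e8, E8, _root_.Fin.forall_fin_succ, _root_.Nat.succ_eq_add_one, Nat.reduceAdd, Fin.isValue, _root_.ne_eq, Fin.reduceEq, _root_.not_false_eq_true, _root_.Pi.single_eq_of_ne, _root_.MulZeroClass.mul_zero, _root_.sub_self, _root_.Pi.single_eq_same, _root_.mul_one, _root_.zero_add, _root_.Pi.add_apply, _root_.Pi.smul_apply, _root_.smul_eq_mul, _root_.Matrix.cons_val_zero, _root_.add_zero, _root_.Matrix.cons_val_succ, _root_.Fin.succ_zero_eq_one, _root_.Fin.succ_one_eq_two, Fin.reduceSucc, _root_.Matrix.cons_val_fin_one, _root_.IsEmpty.forall_iff, _root_.and_self])) (by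
    unfold e14
    rw [C_1_11]; module)
  have hr := row2_of (Fa := Fa) (Fb := Fb) (ρ := ρ) (φ₀ := φ₀) (xg 10 1) (ℓ := L8 K 6 + L8 K 4) (m := l (rv 11) - l (rv 6)) (by
    refine LinearMap.ext fun x => ?_
    rw [LinearMap.comp_apply, a8_10]
    simp [l8, L8]) (by
    refine LinearMap.ext fun x => ?_
    rw [LinearMap.comp_apply]
    unfold l14
    rw [R_10_11, LinearMap.sub_apply]
    ring)
  have h := ident_two hb hn hu hr 3 (by decide) (by
    intro a h1 h2
    have h3 : ∀ a : Fin 12, a ≠ 0 → a ≠ 3 → (iw a ≠ 6 ∧ iw a ≠ 4) ∨ (rv 11 ≠ rw_ a ∧ rv 6 ≠ rw_ a) := by decide +kernel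
    rcases h3 a h1 h2 with ⟨h4, h5⟩ | ⟨h4, h5⟩
    · left
      simp [E8, h4, h5]
    · right
      rw [LinearMap.sub_apply, l_e, l_e, if_neg h4, if_neg h5, sub_zero])
  have hne : (rv 11 : chevG2.Idx) ≠ rv 6 := by decide +kernel
  simp only [LinearMap.add_apply, LinearMap.sub_apply, map_add, map_sub, map_smul, L8_E8, l_e, if_neg hne, if_neg hne.symm,
    if_true, smul_zero, smul_eq_mul, mul_one, add_zero, zero_add] at h
  simp only [E8, iw, rw_, e, hne, hne.symm, _root_.Fin.isValue, _root_.Fin.reduceEq, ↓ _root_.reduceIte, _root_.add_zero, _root_.zero_add, _root_.mul_one, _root_.sub_zero, _root_.zero_sub, _root_.mul_neg, _root_.sub_neg_eq_add, _root_.Pi.add_apply, _root_.Pi.single_eq_same, _root_.Pi.smul_apply, _root_.ne_eq, _root_.not_false_eq_true, _root_.Pi.single_eq_of_ne, _root_.smul_eq_mul, _root_.MulZeroClass.mul_zero, _root_.map_one, _root_.Pi.sub_apply, _root_.Matrix.cons_val, _root_.one_mul, _root_.neg_mul, _root_.neg_neg] at h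
  exact h

theorem add_abb (hb : Col2 Fa Fb ρ φ₀ (e8 K) (e14 K) v₀) (hn : ¬ 13 ≤ finrank k V) (c : K) :
    Fa (1 + c) * Fb (1 + c) ^ 2 = 1 + Fa c * Fb c ^ 2 := by
  have hu := col2_of hb (xg 0 c) (x := E8 K 6 + c • E8 K 5) (y := e (rv 11) - c • e (hv 0) - (2 * c) • e (hv 1) - c ^ 2 • e (rv 0)) (by
    rw [a8_0]; ext i; (revert i; simp only [e8, E8, _root_.Fin.forall_fin_succ, _root_.Nat.succ_eq_add_one, Nat.reduceAdd, Fin.isValue, _root_.ne_eq, Fin.reduceEq, _root_.not_false_eq_true, _root_.Pi.single_eq_of_ne, _root_.MulZeroClass.mul_zero, _root_.sub_self, _root_.Pi.single_eq_same, _root_.mul_one, _root_.zero_add, _root_.Pi.add_apply, _root_.Pi.smul_apply, _root_.smul_eq_mul, _root_.Matrix.cons_val_zero, _root_.add_zero, _root_.Matrix.cons_val_succ, _root_.Fin.succ_zero_eq_one, _root_.Fin.succ_one_eq_two, Fin.reduceSucc, _root_.Matrix.cons_val_fin_one, _root_.IsEmpty.forall_iff, _root_.and_self])) (by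
    unfold e14
    rw [C_0_11]; module)
  have hr := row2_of (Fa := Fa) (Fb := Fb) (ρ := ρ) (φ₀ := φ₀) (xg 11 1) (ℓ := L8 K 6 + L8 K 5)
    (m := l (rv 11) - l (hv 1) - l (rv 0)) (by
    refine LinearMap.ext fun x => ?_
    rw [LinearMap.comp_apply, a8_11]
    simp [l8, L8]) (by
    refine LinearMap.ext fun x => ?_
    rw [LinearMap.comp_apply]
    unfold l14
    rw [R_11_11, LinearMap.sub_apply, LinearMap.sub_apply]
    ring)
  have h := ident_two hb hn hu hr 7 (by decide) (by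
    intro a h1 h2
    have h3 : ∀ a : Fin 12, a ≠ 0 → a ≠ 7 → (iw a ≠ 6 ∧ iw a ≠ 5) ∨ (rv 11 ≠ rw_ a ∧ hv 1 ≠ rw_ a ∧ rv 0 ≠ rw_ a) := by
      decide +kernel
    rcases h3 a h1 h2 with ⟨h4, h5⟩ | ⟨h4, h5, h6⟩
    · left
      simp [E8, h4, h5]
    · right
      rw [LinearMap.sub_apply, LinearMap.sub_apply, l_e, l_e, l_e, if_neg h4, if_neg h5, if_neg h6, sub_zero, sub_zero])
  have h1 : (rv 11 : chevG2.Idx) ≠ rv 0 := by decide +kernel
  have h2 : (rv 11 : chevG2.Idx) ≠ hv 0 := by decide +kernel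
  have h3 : (rv 11 : chevG2.Idx) ≠ hv 1 := by decide +kernel
  have h4 : (rv 0 : chevG2.Idx) ≠ hv 0 := by decide +kernel
  have h5 : (rv 0 : chevG2.Idx) ≠ hv 1 := by decide +kernel
  have h6 : (hv 0 : chevG2.Idx) ≠ hv 1 := by decide +kernel
  simp only [LinearMap.add_apply, LinearMap.sub_apply, map_add, map_sub, map_smul, L8_E8, l_e, if_neg h1, if_neg h1.symm,
    if_neg h2, if_neg h2.symm, if_neg h3, if_neg h3.symm, if_neg h4, if_neg h4.symm, if_neg h5, if_neg h5.symm, if_neg h6,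
    if_neg h6.symm, if_true, smul_zero, smul_eq_mul, mul_one, add_zero, zero_add] at h
  simp only [E8, iw, rw_, e, h1, h1.symm, h2, h2.symm, h3, h3.symm, h4, h4.symm, h5, h5.symm, _root_.Fin.isValue, _root_.Fin.reduceEq, ↓ _root_.reduceIte, _root_.add_zero, _root_.zero_add, _root_.mul_one, _root_.sub_zero, _root_.sub_self, _root_.MulZeroClass.mul_zero, _root_.zero_sub, _root_.mul_neg, _root_.sub_neg_eq_add, _root_.Pi.add_apply, _root_.Pi.single_eq_same, _root_.Pi.smul_apply, _root_.ne_eq, _root_.not_false_eq_true, _root_.Pi.single_eq_of_ne, _root_.smul_eq_mul, _root_.map_one, _root_.Pi.sub_apply, _root_.Matrix.cons_val, _root_.one_mul, _root_.neg_mul, _root_.neg_neg, _root_.map_pow] at h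
  rw [← map_pow, show (1 + c) ^ 2 = 1 + 2 * c + c ^ 2 by ring]
  exact h

/-- **both reflections move the highest weight** -/
theorem thirteen_full (hb : Col2 Fa Fb ρ φ₀ (e8 K) (e14 K) v₀) {c : K} (h0 : c ≠ 0) (h1 : c ≠ 1) : 13 ≤ finrank k V := by
  by_contra hn
  have A := add_a hb hn
  have B := add_b hb hn
  have AB := add_ab hb hn
  have ABB := add_abb hb hn
  have e1 : ∀ c, Fa c + Fb c = 0 := by
    intro c
    have h := AB c
    rw [A, B] at h
    linear_combination h
  have e2 : (2 : k) = 0 := by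
    have h := e1 1
    rw [map_one, map_one] at h
    linear_combination h
  have e3 : (1 + 1 : K) = 0 := by
    have h := A 1
    rw [map_one] at h
    have h' : Fa (1 + 1) = 0 := by rw [h]; linear_combination e2
    exact (map_eq_zero Fa).1 h'
  have e4 : Fa c * (1 + Fa c) = 0 := by
    have h := ABB c
    rw [A, B] at h
    have h5 : Fb c = Fa c := by linear_combination e1 c - Fa c * e2
    rw [h5] at h
    linear_combination h - (Fa c + Fa c ^ 2) * e2
  rcases mul_eq_zero.1 e4 with h | h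
  · exact h0 ((map_eq_zero Fa).1 h)
  · rw [← A] at h
    have h5 : 1 + c = 0 := (map_eq_zero Fa).1 h
    apply h1
    linear_combination h5 - e3

end

end Cfsg.Agent.H927.G2
end

-- part: H927/G2Main
section
/-!
# `G₂(K)` in its own characteristic, degree at most 12 (helper927)

* `cases` : the simple modules of dimension at most 12 over an algebraically closed field;
* `core_g2` : `Core P`, `Soc P ≃* G₂(K)`, `|ι| ≤ 12`.
-/

set_option autoImplicit false
set_option linter.unusedSectionVars false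
set_option linter.style.haveILetI false

namespace Cfsg.Agent.H927.G2

open Cfsg.Lie Matrix Cfsg.Agent.H638.G2Rep Cfsg.Agent.H638.G2Mem
open Cfsg.Agent.H638
open CoxeterSystem Cfsg.Agent.ChevalleyStructure.CoxeterGeom Cfsg.Agent.Tits.Roots Cfsg.Agent.Tits.Core
  Cfsg.Agent.Tits.Exchange Cfsg.Agent.Nodes.Reps Cfsg.Agent.Nodes.BNOf Cfsg.Agent.Nodes.StabComb
  Cfsg.Agent.Nodes.Bruhat Cfsg.Agent.Nodes.OppDec Cfsg.Agent.Nodes.LeviDec Cfsg.Agent.KFacts.RgdOpp
  Cfsg.Agent.Omega.CR Cfsg.Agent.Omega.FOne.Lift.Sd Cfsg.Agent.Nodes.RGDLib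
open Cfsg.Agent.H905.Md Cfsg.Agent.H64.CrossChev Cfsg.Agent.Nodes.RGDChev
open Module Cfsg.Agent.H927.LD

variable {K : Type} [Field K] [Finite K]

theorem GG2 : GG cs2 hc2 (T2 K) (X2 K) = ⊤ := by
  rw [eq_top_iff, ← gen2]
  exact le_sup_right

theorem exists_two (h3 : 3 ≤ Nat.card K) : ∃ c : K, c ≠ 0 ∧ c ≠ 1 := by
  classical
  haveI := Fintype.ofFinite K
  by_contra hcon
  push Not at hcon
  have h1 : (Finset.univ : Finset K) ⊆ {0, 1} := by
    intro x _
    by_cases hx : x = 0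
    · simp only [hx, _root_.Finset.mem_insert, _root_.Finset.mem_singleton, _root_.zero_ne_one, _root_.or_false]
    · simp only [hcon x hx, _root_.Finset.mem_insert, _root_.one_ne_zero, _root_.Finset.mem_singleton, _root_.or_true]
  have h2 := Finset.card_le_card h1
  have h4 : ({0, 1} : Finset K).card ≤ 2 := Finset.card_le_two
  rw [Finset.card_univ, ← Nat.card_eq_fintype_card] at h2
  omega

section

variable {k V : Type*} [Field k] [IsAlgClosed k] [AddCommGroup V] [Module k V] [FiniteDimensional k V] [Nontrivial V]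
  {ρ : GK K →* Module.End k V}

/-- the two possible coefficients -/
theorem cases (p : ℕ) [hp : Fact p.Prime] [CharP K p] [CharP k p] (h3 : 3 ≤ Nat.card K)
    (hirr : ∀ L : Submodule k V, Ivt ρ (GG cs2 hc2 (T2 K) (X2 K)) L → L = ⊥ ∨ L = ⊤)
    (h2 : 2 ≤ finrank k V) (hn : finrank k V ≤ 12) :
    ∃ v ∈ D cs2 hc2 (X2 K) ρ, ∃ φ ∈ fx (dualRep ρ) (UN cs2 hc2 (X2 K)), φ v = 1 ∧
      (∀ t ∈ T2 K, ρ t v = φ (ρ t v) • v) ∧ ∃ j : K →+* k,
      ((∀ g, φ (ρ g v) = j (x1 g)) ∧ ((p ≠ 2 ∧ finrank k V = 7) ∨ (p = 2 ∧ finrank k V = 6))) ∨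
      ((∀ g, φ (ρ g v) = j (x2 g)) ∧ p = 3 ∧ finrank k V = 7) := by
  obtain ⟨v, hv, φ, hφ, hφv, F, hF1, hF0, hc, hT⟩ := exists_coef hirr p
  obtain ⟨c, hc0, hc1⟩ := exists_two h3
  have hv0 : v ≠ 0 := by
    rintro rfl
    rw [map_zero] at hφv
    exact zero_ne_one hφv
  have hφ0 : φ ≠ 0 := by
    rintro rfl
    exact zero_ne_one hφv
  have hirr' : ∀ L : Submodule k V, (∀ g, ∀ w ∈ L, ρ g w ∈ L) → L = ⊥ ∨ L = ⊤ := fun L hL =>
    hirr L fun g _ w hw => hL g w hw
  refine ⟨v, hv, φ, hφ, hφv, hT, ?_⟩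
  have h23 : p = 2 ↔ (2 : K) = 0 := by
    have h4 : ((2 : ℕ) : K) = 0 ↔ p ∣ 2 := CharP.cast_eq_zero_iff K p 2
    rw [Nat.prime_dvd_prime_iff_eq hp.out Nat.prime_two] at h4
    rw [← h4]
    push_cast
    rfl
  have h33 : p = 3 ↔ (3 : K) = 0 := by
    have h4 : ((3 : ℕ) : K) = 0 ↔ p ∣ 3 := CharP.cast_eq_zero_iff K p 3
    rw [Nat.prime_dvd_prime_iff_eq hp.out Nat.prime_three] at h4
    rw [← h4]
    push_cast
    rfl
  let mk : ∀ (f : K →*₀ k), (∀ x y, f (x + y) = f x + f y) → (K →+* k) := fun f hf =>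
    { f with map_add' := hf }
  by_cases h0J : (0 : Fin 2) ∈ Jx cs2 hc2 (X2 K) ρ
  · by_cases h1J : (1 : Fin 2) ∈ Jx cs2 hc2 (X2 K) ρ
    · -- trivial
      exfalso
      have h5 : ∀ g, φ (ρ g v) = 1 := by
        intro g
        rw [hc, hF1 0 h0J, hF1 1 h1J, MonoidHom.one_apply, MonoidHom.one_apply, one_mul]
      have h6 : ∀ h, ρ h v = v := by
        intro h
        apply Cfsg.Agent.H887.DS.Psi_injective hirr' hφ0
        funext g
        rw [Cfsg.Agent.H887.DS.Psi_apply, Cfsg.Agent.H887.DS.Psi_apply, h5, ← rho_mul, h5]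
      have h7 := Cfsg.Agent.H887.DS.span_eq_top hirr' hv0
      have h8 : (Set.range fun g => ρ g v) = {v} := by
        ext w
        constructor
        · rintro ⟨g, rfl⟩
          exact h6 g
        · rintro rfl
          exact ⟨1, h6 1⟩
      rw [h8] at h7
      have h9 := finrank_span_singleton (K := k) hv0
      rw [h7, finrank_top] at h9
      omega
    · -- the adjoint type
      let f : K →*₀ k := { F 1 with map_zero' := hF0 1 h1J }
      have hb : Col (a14 K) (l14 K) f ρ φ (e14 K) v := by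
        intro g
        rw [hc, hF1 0 h0J, MonoidHom.one_apply, one_mul]
        rfl
      have hadd : ∀ c, f (1 + c) = 1 + f c := by
        intro c
        by_contra hne
        have := thirteen14 hb hne
        omega
      have hadd' := additive_of hadd
      have h5 : p = 3 := by
        rw [h33]
        by_contra hne
        have := thirteen14' hadd' hb hne hc0 hc1
        omega
      refine ⟨mk f hadd', Or.inr ⟨hb, h5, ?_⟩⟩
      exact le_antisymm (le_seven14 hadd' hirr' hφ0 hv0 hb (h33.1 h5)) (seven14 hadd' hb)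
  · by_cases h1J : (1 : Fin 2) ∈ Jx cs2 hc2 (X2 K) ρ
    · let f : K →*₀ k := { F 0 with map_zero' := hF0 0 h0J }
      have hb : Col (a8 K) (l8 K) f ρ φ (e8 K) v := by
        intro g
        rw [hc, hF1 1 h1J, MonoidHom.one_apply, mul_one]
        rfl
      have hadd : ∀ c, f (1 + c) = 1 + f c := by
        intro c
        by_contra hne
        have := thirteen8 hb hne
        omega
      have hadd' := additive_of hadd
      refine ⟨mk f hadd', Or.inl ⟨hb, ?_⟩⟩
      by_cases h5 : p = 2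
      · exact Or.inr ⟨h5, le_antisymm (le_six8 hadd' hirr' hφ0 hv0 hb (h23.1 h5)) (six8 hadd' hb)⟩
      · exact Or.inl ⟨h5, le_antisymm (le_seven8 hadd' hirr' hφ0 hv0 hb) (seven8 hadd' hb (fun h => h5 (h23.2 h)))⟩
    · exfalso
      let f0 : K →*₀ k := { F 0 with map_zero' := hF0 0 h0J }
      let f1 : K →*₀ k := { F 1 with map_zero' := hF0 1 h1J }
      have hb : Col2 f0 f1 ρ φ (e8 K) (e14 K) v := fun g => hc g
      have := thirteen_full hb hc0 hc1
      omega

end

/-! ### the core -/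

section core

open Cfsg Cfsg.Geo Cfsg.Agent.H915.LD Cfsg.Agent.H151.Six Cfsg.Agent.H911

universe u

variable {ι : Type} [Fintype ι] [DecidableEq ι] {F : Type u} [Field F] [Finite F] {P : Subgroup (GL ι F)}

theorem T2_pow (t : GK K) (ht' : t ∈ T2 K) : t ^ Nat.card K = t := by
  obtain ⟨χ, h1⟩ := Cfsg.Agent.ChevalleyStructure.HMatDiagAll.mem_torus.1
    (Cfsg.Agent.ChevalleyStructure.HMatDiagAll.diagonalSubgroup_le_torus ht.inList (Subgroup.mem_subgroupOf.1 ht'))
  haveI := Fintype.ofFinite K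
  apply Subtype.ext
  apply Units.ext
  rw [Subgroup.coe_pow, Units.val_pow_eq_pow_val, h1, Matrix.diagonal_pow]
  congr 1
  funext i
  rw [Pi.pow_apply, Nat.card_eq_fintype_card, FiniteField.pow_card]

theorem fr_g2 (p : ℕ) [hp : Fact p.Prime] [CharP F p] [CharP K p] (hC : Core P) (f : P ≃* GK K) : Fr P (Nat.card K) := by
  haveI := Fintype.ofFinite K
  haveI := hC.nonempty
  obtain ⟨a, -, ha⟩ := FiniteField.card K p
  have hcard : Nat.card K = p ^ (a : ℕ) := by rw [Nat.card_eq_fintype_card, ha]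
  have hφ : (P.subtype.comp f.symm.toMonoidHom).range = P := by
    rw [MonoidHom.range_comp, MonoidHom.range_eq_top.2 f.symm.surjective, ← MonoidHom.range_eq_map,
      Subgroup.range_subtype]
  intro g hg
  rw [hcard]
  exact Cfsg.Agent.H905.Md.trace_pow (rgd2 (K := K) p) GG2 T2_comm hφ hC.absIrred (fun t htt => by
    rw [← hcard]; exact T2_pow t htt) hg

/-- an alternating form in odd dimension -/
theorem not_fixA (h2 : (2 : F) ≠ 0) (hodd : Odd (Fintype.card ι)) : ¬ FixA P := by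
  intro h
  obtain ⟨B, h1, h2', -⟩ := exists_skew h
  have h3 : B.det = (-1) ^ Fintype.card ι * B.det := by
    conv_lhs => rw [← Matrix.det_transpose, h1, Matrix.det_neg]
  rw [hodd.neg_one_pow] at h3
  have h4 : 2 * B.det = 0 := by linear_combination h3
  rcases mul_eq_zero.1 h4 with h | h
  · exact h2 h
  · exact h2'.ne_zero h

/-- **`G₂(K)` in its own characteristic, degree at most 12.** -/
theorem core_g2 (p : ℕ) [hp : Fact p.Prime] [CharP F p] [CharP K p] (hC : Core P) (h3 : 3 ≤ Nat.card K)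
    (e : Soc P ≃* GK K) (hn : Fintype.card ι ≤ 12) :
    SD P ∧ Nat.card F = Nat.card K ∧ Nonempty (K ≃+* F) ∧ Nonempty (P ≃* GK K) ∧
      ((p ≠ 2 ∧ Fintype.card ι = 7 ∧ FixQ P ∧ ¬ FixA P) ∨ (p = 2 ∧ Fintype.card ι = 6 ∧ FixA P)) := by
  haveI := Fintype.ofFinite K
  haveI := hC.nonempty
  have h3' : 3 ≤ Fintype.card K := by rwa [← Nat.card_eq_fintype_card]
  obtain ⟨f⟩ := Cfsg.Agent.H48.DsChev.g2_equiv p hC h3' e
  have hsd := Cfsg.Agent.H48.DsChev.g2_sd p hC h3' e
  have hfr := fr_g2 p hC f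
  obtain ⟨φ, hφ⟩ : ∃ φ : GK K →* GL ι F, φ.range = P := ⟨P.subtype.comp f.symm.toMonoidHom, by
    rw [MonoidHom.range_comp, MonoidHom.range_eq_top.2 f.symm.surjective, ← MonoidHom.range_eq_map,
      Subgroup.range_subtype]⟩
  have hchar : CharP (AlgebraicClosure F) p := charP_of_injective_algebraMap (algebraMap F _).injective p
  have hirr : ∀ L : Submodule (AlgebraicClosure F) (ι → AlgebraicClosure F),
      Ivt (lin (acRep φ)) (GG cs2 hc2 (T2 K) (X2 K)) L → L = ⊥ ∨ L = ⊤ :=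
    fun L hL => acRep_irr hφ (H920.span_eq_top hC.absIrred) GG2 L hL
  have hfin : Module.finrank (AlgebraicClosure F) (ι → AlgebraicClosure F) = Fintype.card ι :=
    Module.finrank_fintype_fun_eq_card _
  obtain ⟨v, hv, ψ, hψ, hψv, hT, j, hj⟩ := cases p h3 hirr (by rw [hfin]; exact hC.two_le) (by rw [hfin]; exact hn)
  rw [hfin] at hj
  have hv0 : v ≠ 0 := by
    rintro rfl
    rw [map_zero] at hψv
    exact zero_ne_one hψv
  have hmem : ∀ x : K, ∃ y : F, algebraMap F (AlgebraicClosure F) y = j x := by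
    intro x
    by_cases hx : x = 0
    · exact ⟨0, by rw [hx, map_zero, map_zero]⟩
    · rcases hj with ⟨h5, -⟩ | ⟨h5, -⟩
      · obtain ⟨y, hy⟩ := chi_mem (rgd2 (K := K) p) GG2 hφ hC.absIrred hv hv0 hT (hh_mem 0 hx)
        exact ⟨y, by rw [hy, h5, x1_hh 0 hx, if_pos rfl]⟩
      · obtain ⟨y, hy⟩ := chi_mem (rgd2 (K := K) p) GG2 hφ hC.absIrred hv hv0 hT (hh_mem 1 hx)
        exact ⟨y, by rw [hy, h5, x2_hh 1 hx, if_pos rfl]⟩
  have hinj : ∃ s : K → F, Function.Injective s := by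
    choose s hs using hmem
    exact ⟨s, fun a b hab => j.injective (by rw [← hs, ← hs, hab])⟩
  have hcardF : Nat.card F = Nat.card K := by
    obtain ⟨a, -, ha⟩ := FiniteField.card K p
    have hcard : Nat.card K = p ^ (a : ℕ) := by rw [Nat.card_eq_fintype_card, ha]
    rw [hcard] at hfr
    obtain ⟨j', hj1, hj'⟩ := card_pow_eq (F := F) p a.ne_zero (hC.pow_eq p hfr)
    obtain ⟨s, hs⟩ := hinj
    have h1 : Nat.card K ≤ Nat.card F := Nat.card_le_card_of_injective s hs
    rw [← hcard] at hj'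
    have h2 : 1 < Nat.card F := Finite.one_lt_card
    have h3 : j' = 1 := by
      by_contra hne
      have h4 : Nat.card F ^ 1 < Nat.card F ^ j' := Nat.pow_lt_pow_right h2 (by omega)
      rw [pow_one] at h4
      omega
    rw [h3, pow_one] at hj'
    exact hj'
  have hring : Nonempty (K ≃+* F) := by
    haveI := Fintype.ofFinite F
    refine ⟨FiniteField.ringEquivOfCardEq ?_⟩
    rw [← Nat.card_eq_fintype_card, ← Nat.card_eq_fintype_card, hcardF]
  refine ⟨hsd, hcardF, hring, ⟨f⟩, ?_⟩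
  have hform := hC.forms_of_sd hsd
  have h2F : p ≠ 2 → (2 : F) ≠ 0 := by
    intro h5 h
    have h6 : ((2 : ℕ) : F) = 0 := by exact_mod_cast h
    rw [CharP.cast_eq_zero_iff F p, Nat.prime_dvd_prime_iff_eq hp.out Nat.prime_two] at h6
    exact h5 h6
  have hodd : p ≠ 2 → Fintype.card ι = 7 → (p ≠ 2 ∧ Fintype.card ι = 7 ∧ FixQ P ∧ ¬ FixA P) := by
    intro h5 h7
    have h6 := not_fixA (P := P) (h2F h5) (by rw [h7]; decide)
    exact ⟨h5, h7, hform.resolve_right h6, h6⟩
  rcases hj with ⟨-, ⟨h5, h7⟩ | ⟨rfl, h7⟩⟩ | ⟨-, h5, h7⟩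
  · exact Or.inl (hodd h5 h7)
  · right
    refine ⟨rfl, h7, ?_⟩
    rcases hform with h | h
    · obtain ⟨Q, hQ, hfix⟩ := h
      have h2F : (2 : F) = 0 := CharTwo.two_eq_zero
      refine ⟨QuadraticMap.polar Q, ⟨hQ.polar_bilinear, ?_, ?_, hQ.nondegenerate⟩, ?_⟩
      · intro v w
        rw [QuadraticMap.polar_comm, CharTwo.neg_eq]
      · intro v
        unfold QuadraticMap.polar
        have h5 := hQ.smul 2 v
        rw [two_smul, h2F] at h5
        rw [h5]
        linear_combination (- Q v) * h2F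
      · intro s hs u v
        unfold QuadraticMap.polar
        rw [← Matrix.mulVec_add, hfix s hs, hfix s hs, hfix s hs]
    · exact h
  · exact Or.inl (hodd (by rw [h5]; norm_num) h7)

end core

end Cfsg.Agent.H927.G2
end

private theorem dce_78c66cec886e : _root_.True := by
  try have : _root_.True := by simp only [_root_.Cfsg.Agent.H927.G2.E8.eq_1]
  try have : _root_.True := by simp only [_root_.Cfsg.Agent.H927.G2.L8.eq_1]
  try have : _root_.True := by simp only [_root_.Cfsg.Agent.H927.G2.rw_.eq_1]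
  try have : _root_.True := by simp only [_root_.Cfsg.Agent.H927.G2.ix.eq_1]
  try have : _root_.True := by simp only [_root_.Cfsg.Agent.H927.G2.iw.eq_1]
  exact _root_.True.intro
end
end
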