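import Cfsg.Agent.H86.Pair
import Cfsg.Agent.ChevalleyStructure.NBlock_mg
import Cfsg.Agent.S1034
import Cfsg.Agent.S1032
import Cfsg.Agent.FastGrp
import Cfsg.Agent.Prune
set_option linter.all false
prune_inst 0x7f00000000000000000000000000000000000000000000000000000000000000000000000000000000000000000000000000000000000000000000000000000000000000000000000000000000000000003fffffffffffffffffffffffffffbeffbdffffffff
open scoped Cfsg.Agent.FastGrp

-- part: H927/SzOpp
section
/-!
# Opposite long root subgroups (S2539, part 1)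

`cj g A = g A g⁻¹`; `LR A` : `A` is a long root subgroup; `Opp A B` : `(A, B)` is conjugate to `(X_a, X_{-a})`.
`opp_iff_del` : `Opp (cj g' X_a) (cj g X_a)` iff the entry `(-a, a)` of `g'⁻¹ g` is non-zero.
-/

set_option autoImplicit false

namespace Cfsg.Agent.H927.Sz

open Cfsg.Lie Cfsg.Agent.ChevalleyStructure Cfsg.Agent.ChevalleyStructure.RootCombGood
  Cfsg.Agent.ChevalleyStructure.RootWord Cfsg.Agent.ChevalleyStructure.RootVec
  Cfsg.Agent.ChevalleyStructure.RootVecTab Cfsg.Agent.ChevalleyStructure.RootSupport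
  Cfsg.Agent.ChevalleyStructure.Elts Cfsg.Agent.ChevalleyStructure.BruhatSplit
  Cfsg.Agent.H86.Lev Cfsg.Agent.H86.Graded Cfsg.Agent.H86.Par Cfsg.Agent.H92.ChevCent
  Cfsg.Agent.ChevalleyStructure.BlockMonomial

universe u

variable {D : ChevalleyDatum} {K : Type u} [Field K]

/-- conjugate subgroup `g A g⁻¹` -/
def cj {G : Type*} [Group G] (g : G) (A : Subgroup G) : Subgroup G := A.map (MulAut.conj g).toMonoidHom

section Cj

variable {G : Type*} [Group G]

theorem mem_cj {g x : G} {A : Subgroup G} : x ∈ cj g A ↔ g⁻¹ * x * g ∈ A := by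
  constructor
  · rintro ⟨y, hy, rfl⟩
    have : g⁻¹ * (g * y * g⁻¹) * g = y := by group
    show g⁻¹ * (g * y * g⁻¹) * g ∈ A
    rwa [this]
  · intro h
    refine ⟨_, h, ?_⟩
    show g * (g⁻¹ * x * g) * g⁻¹ = x
    group

theorem conj_mem_cj {g x : G} {A : Subgroup G} (h : x ∈ A) : g * x * g⁻¹ ∈ cj g A := ⟨x, h, rfl⟩

theorem cj_mul (g h : G) (A : Subgroup G) : cj (g * h) A = cj g (cj h A) := by
  ext x
  rw [mem_cj, mem_cj, mem_cj]
  have : (g * h)⁻¹ * x * (g * h) = h⁻¹ * (g⁻¹ * x * g) * h := by group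
  rw [this]

@[simp] theorem cj_one (A : Subgroup G) : cj 1 A = A := by
  ext x; rw [mem_cj]; simp

theorem cj_inv_cj (g : G) (A : Subgroup G) : cj g⁻¹ (cj g A) = A := by rw [← cj_mul, inv_mul_cancel, cj_one]

theorem cj_cj_inv (g : G) (A : Subgroup G) : cj g (cj g⁻¹ A) = A := by rw [← cj_mul, mul_inv_cancel, cj_one]

theorem cj_eq_iff {g : G} {A B : Subgroup G} : cj g A = B ↔ A = cj g⁻¹ B := by
  constructor
  · rintro rfl; rw [cj_inv_cj]
  · rintro rfl; rw [cj_cj_inv]

theorem cj_le_iff {g : G} {A B : Subgroup G} : cj g A ≤ B ↔ A ≤ cj g⁻¹ B := by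
  constructor
  · intro h x hx
    rw [mem_cj, inv_inv]
    exact h (conj_mem_cj hx)
  · intro h x hx
    have := h (mem_cj.1 hx)
    rw [mem_cj, inv_inv] at this
    have e : g * (g⁻¹ * x * g) * g⁻¹ = x := by group
    rwa [e] at this

theorem cj_mono {g : G} {A B : Subgroup G} (h : A ≤ B) : cj g A ≤ cj g B := Subgroup.map_mono h

theorem cj_of_mem {g : G} {F : Subgroup G} (h : g ∈ F) : cj g F = F := by
  ext x
  rw [mem_cj]
  constructor
  · intro hx
    have e : g * (g⁻¹ * x * g) * g⁻¹ = x := by group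
    rw [← e]
    exact F.mul_mem (F.mul_mem h hx) (F.inv_mem h)
  · intro hx
    exact F.mul_mem (F.mul_mem (F.inv_mem h) hx) h

theorem cj_le_of_mem {g : G} {F A : Subgroup G} (h : g ∈ F) (hA : A ≤ F) : cj g A ≤ F :=
  (cj_mono hA).trans (cj_of_mem h).le

theorem cj_eq_self_iff {g : G} {A : Subgroup G} : cj g A = A ↔ g ∈ Subgroup.normalizer (A : Set G) := by
  rw [Subgroup.mem_normalizer_iff]
  constructor
  · intro h x
    constructor
    · intro hx
      have := conj_mem_cj (g := g) hx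
      rwa [h] at this
    · intro hx
      have hx' : g * x * g⁻¹ ∈ A := hx
      rw [← h, mem_cj] at hx'
      have e : g⁻¹ * (g * x * g⁻¹) * g = x := by group
      rwa [e] at hx'
  · intro h
    ext x
    rw [mem_cj]
    have := h (g⁻¹ * x * g)
    have e : g * (g⁻¹ * x * g) * g⁻¹ = x := by group
    rw [e] at this
    exact this

theorem cj_sup (g : G) (A B : Subgroup G) : cj g (A ⊔ B) = cj g A ⊔ cj g B := Subgroup.map_sup _ _ _

theorem cj_of_comm {g : G} {A : Subgroup G} (h : ∀ x ∈ A, g * x = x * g) : cj g A = A := by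
  rw [cj_eq_self_iff, Subgroup.mem_normalizer_iff]
  intro x
  constructor
  · intro hx
    rw [h x hx, mul_inv_cancel_right]
    exact hx
  · intro hx
    have h1 := h _ hx
    have e : x = g * x * g⁻¹ := by
      have : g * (g * x * g⁻¹) = g * x := by rw [h1]; group
      have := mul_left_cancel this
      exact this.symm
    rw [e]; exact hx

end Cj

/-! ### the highest root subgroup and its opposite -/

/-- index of `e_a`, `a` the highest root -/
def iT (hD : InList D) : D.Idx := Sum.inr ⟨top D, top_lt hD⟩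

/-- index of `e_{-a}` -/
def iB (hD : InList D) : D.Idx := Sum.inr ⟨0, zero_lt hD⟩

/-- the entry `(-a, a)` -/
def Del (hD : InList D) (g : GL D.Idx K) : K := (g : Matrix D.Idx D.Idx K) (iB hD) (iT hD)

/-- `X_a` -/
abbrev XT (D : ChevalleyDatum) (K : Type u) [Field K] : Subgroup (GL D.Idx K) := D.rootSubgroup K (top D)

/-- `X_{-a}` -/
abbrev XB (D : ChevalleyDatum) (K : Type u) [Field K] : Subgroup (GL D.Idx K) := D.rootSubgroup K 0

theorem wl_iT (hD : InList D) : wl D (car D (top D)) (iT hD) = 2 := by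
  rw [iT, wl_inr]; exact car_top hD

theorem wl_iB (hD : InList D) : wl D (car D (top D)) (iB hD) = -2 := by
  rw [iB, wl_inr]; exact car_zero hD

theorem eq_iT (hD : InList D) {j : D.Idx} (h : 2 ≤ wl D (car D (top D)) j) : j = iT hD := by
  rcases j with i | s
  · rw [wl_inl] at h; norm_num at h
  · rw [wl_inr] at h
    have := (hiT hD).top s s.2 (le_antisymm ((hiT hD).high s s.2) h)
    rw [iT]
    congr 1
    exact Fin.ext this

theorem eq_iB (hD : InList D) {j : D.Idx} (h : wl D (car D (top D)) j ≤ -2) : j = iB hD := by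
  rcases j with i | s
  · rw [wl_inl] at h; norm_num at h
  · rw [wl_inr] at h
    have h1 : car D 0 s = 2 := by
      rw [car0 hD]
      have := (hiT hD).low s s.2
      omega
    have := (hi0 hD).top s s.2 h1
    rw [iB]
    congr 1
    exact Fin.ext this

theorem rootSubgroup_le_group (hD : InList D) (r : ℕ) : D.rootSubgroup K r ≤ D.group K := by
  intro x hx
  obtain ⟨t, rfl⟩ := (mem_rootSubgroup_iff hD _ _).1 hx
  exact xG_mem_group hD r t

/-! ### monomial elements -/

/-- the columns `e_s` of the elements of `N` -/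
theorem mono_aux (hD : InList D) {n : GL D.Idx K} (hn : n ∈ D.monomialSubgroup K) :
    ∃ w : List ℕ, (∀ a ∈ w, a < D.rank) ∧ Acts n w ∧
      (∀ (s u : Fin D.nroots), u.val ≠ wact D w s.val → (n : Matrix D.Idx D.Idx K) (Sum.inr u) (Sum.inr s) = 0) ∧
      (∀ (s : Fin D.nroots) (i : Fin D.rank), (n : Matrix D.Idx D.Idx K) (Sum.inl i) (Sum.inr s) = 0) := by
  have G : Good D := good hD
  let S : Subgroup (GL D.Idx K) :=
    { carrier := {n | ∃ w : List ℕ, (∀ a ∈ w, a < D.rank) ∧ Acts n w ∧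
        (∀ (s u : Fin D.nroots), u.val ≠ wact D w s.val →
          (n : Matrix D.Idx D.Idx K) (Sum.inr u) (Sum.inr s) = 0) ∧
        (∀ (s : Fin D.nroots) (i : Fin D.rank), (n : Matrix D.Idx D.Idx K) (Sum.inl i) (Sum.inr s) = 0)}
      one_mem' := by
        refine ⟨[], by simp, acts_one, fun s u hu => ?_, fun s i => ?_⟩
        · exact Matrix.one_apply_ne fun e => hu (congrArg Fin.val (Sum.inr_injective e))
        · exact Matrix.one_apply_ne (by simp)
      mul_mem' := by
        rintro m n ⟨v, hv, hav, h1, h2⟩ ⟨w, hw, haw, h3, h4⟩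
        refine ⟨v ++ w, ?_, Acts.mul G hav haw hw, fun s u hu => ?_, fun s i => ?_⟩
        · intro a ha
          rcases List.mem_append.1 ha with h | h
          · exact hv a h
          · exact hw a h
        · rw [wact_append] at hu
          rw [Units.val_mul, Matrix.mul_apply, Fintype.sum_sum_type]
          rw [Finset.sum_eq_zero fun i _ => by rw [h4, mul_zero], zero_add]
          refine Finset.sum_eq_zero fun x _ => ?_
          by_cases hx : x.val = wact D w s.val
          · rw [h1 x u (by rw [hx]; exact hu), zero_mul]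
          · rw [h3 s x hx, mul_zero]
        · rw [Units.val_mul, Matrix.mul_apply, Fintype.sum_sum_type]
          rw [Finset.sum_eq_zero fun i _ => by rw [h4, mul_zero], zero_add]
          exact Finset.sum_eq_zero fun x _ => by rw [h2, zero_mul]
      inv_mem' := by
        rintro n ⟨w, hw, haw, h3, h4⟩
        have hwr : ∀ a ∈ w.reverse, a < D.rank := fun a ha => hw a (by simpa using ha)
        have hinv : (n : Matrix D.Idx D.Idx K) * ((n⁻¹ : GL D.Idx K) : Matrix D.Idx D.Idx K) = 1 := by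
          rw [← Units.val_mul, mul_inv_cancel]; rfl
        have hinv' : ((n⁻¹ : GL D.Idx K) : Matrix D.Idx D.Idx K) * (n : Matrix D.Idx D.Idx K) = 1 := by
          rw [← Units.val_mul, inv_mul_cancel]; rfl
        -- the nonzero entry of the column `e_s`
        have hcol : ∀ (s : Fin D.nroots) (j : D.Idx), (((n⁻¹ : GL D.Idx K) : Matrix D.Idx D.Idx K) *
            (n : Matrix D.Idx D.Idx K)) j (Sum.inr s) =
            ((n⁻¹ : GL D.Idx K) : Matrix D.Idx D.Idx K) j (Sum.inr ⟨wact D w s.val, wact_lt G hw s.2⟩) *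
              (n : Matrix D.Idx D.Idx K) (Sum.inr ⟨wact D w s.val, wact_lt G hw s.2⟩) (Sum.inr s) := by
          intro s j
          rw [Matrix.mul_apply, Fintype.sum_sum_type]
          rw [Finset.sum_eq_zero fun i _ => by rw [h4, mul_zero], zero_add]
          refine Finset.sum_eq_single _ (fun x _ hx => ?_) (fun h => absurd (Finset.mem_univ _) h)
          rw [h3 s x fun e => hx (Fin.ext e), mul_zero]
        have hne : ∀ s : Fin D.nroots,
            (n : Matrix D.Idx D.Idx K) (Sum.inr ⟨wact D w s.val, wact_lt G hw s.2⟩) (Sum.inr s) ≠ 0 := by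
          intro s h0
          have := hcol s (Sum.inr s)
          rw [hinv', h0, mul_zero, Matrix.one_apply_eq] at this
          exact one_ne_zero this
        have hs : ∀ s : Fin D.nroots, ∃ s' : Fin D.nroots, s'.val = wact D w.reverse s.val ∧
            (⟨wact D w s'.val, wact_lt G hw s'.2⟩ : Fin D.nroots) = s := by
          intro s
          refine ⟨⟨wact D w.reverse s.val, wact_lt G hwr s.2⟩, rfl, Fin.ext ?_⟩
          exact wact_reverse' G hw s.2
        refine ⟨w.reverse, hwr, Acts.inv G haw hw, fun s u hu => ?_, fun s i => ?_⟩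
        · obtain ⟨s', e1, e2⟩ := hs s
          have h5 := hcol s' (Sum.inr u)
          rw [e2] at h5
          rw [hinv', Matrix.one_apply_ne (by
            intro e
            exact hu (by rw [Sum.inr_injective e, e1]))] at h5
          have := hne s'
          rw [e2] at this
          rcases mul_eq_zero.1 h5.symm with h | h
          · exact h
          · exact absurd h this
        · obtain ⟨s', e1, e2⟩ := hs s
          have h5 := hcol s' (Sum.inl i)
          rw [e2] at h5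
          rw [hinv', Matrix.one_apply_ne (by simp)] at h5
          have := hne s'
          rw [e2] at this
          rcases mul_eq_zero.1 h5.symm with h | h
          · exact h
          · exact absurd h this }
  have hle : D.monomialSubgroup K ≤ S := by
    rw [NPerm.monomial_eq hD K]
    refine sup_le ((Subgroup.closure_le _).2 ?_) ?_
    · rintro g ⟨i, hi, rfl⟩
      refine ⟨[i], by simpa using hi, acts_nG_simple hD hi, fun s u hu => ?_, fun s j => ?_⟩
      · obtain ⟨η, -, -, -, -, h⟩ := Cfsg.Agent.S1095.result (F := K) D hD i hi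
        rw [coe_nG, h]
        show (if (u : ℕ) = D.reflectRoot i s then ((η s : ℤ) : K) else 0) = 0
        exact if_neg hu
      · obtain ⟨η, -, -, -, -, h⟩ := Cfsg.Agent.S1095.result (F := K) D hD i hi
        rw [coe_nG, h]
        rfl
    · intro g hg
      obtain ⟨χ, -, h⟩ := HDiag.exists_dmat D hD g hg
      refine ⟨[], by simp, acts_of_mem_diagonal hD G hg, fun s u hu => ?_, fun s i => ?_⟩
      · rw [h]
        exact Matrix.diagonal_apply_ne _ fun e => hu (congrArg Fin.val (Sum.inr_injective e))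
      · rw [h]
        exact Matrix.diagonal_apply_ne _ (by simp)
  exact hle hn

/-- words with the same action on root subgroups act in the same way -/
theorem acts_unique (hD : InList D) {n : GL D.Idx K} {v w : List ℕ} (hv : ∀ a ∈ v, a < D.rank)
    (hw : ∀ a ∈ w, a < D.rank) (h1 : Acts n v) (h2 : Acts n w) {s : ℕ} (hs : s < D.nroots) :
    wact D v s = wact D w s :=
  NPerm.rootSubgroup_injective hD K (wact_lt (good hD) hv hs) (wact_lt (good hD) hw hs)
    ((h1 s hs).symm.trans (h2 s hs))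

theorem mono_entry (hD : InList D) {n : GL D.Idx K} (hn : n ∈ D.monomialSubgroup K) {w : List ℕ}
    (hw : ∀ a ∈ w, a < D.rank) (hact : Acts n w) (s u : Fin D.nroots) (hu : u.val ≠ wact D w s.val) :
    (n : Matrix D.Idx D.Idx K) (Sum.inr u) (Sum.inr s) = 0 := by
  obtain ⟨v, hv, hav, h1, -⟩ := mono_aux hD hn
  exact h1 s u (by rwa [acts_unique hD hv hw hav hact s.2])

theorem mono_entry_ne (hD : InList D) {n : GL D.Idx K} (hn : n ∈ D.monomialSubgroup K) {w : List ℕ}
    (hw : ∀ a ∈ w, a < D.rank) (hact : Acts n w) (s u : Fin D.nroots) (hu : u.val = wact D w s.val) :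
    (n : Matrix D.Idx D.Idx K) (Sum.inr u) (Sum.inr s) ≠ 0 := by
  obtain ⟨v, hv, hav, h1, h2⟩ := mono_aux hD hn
  intro h0
  have hinv' : ((n⁻¹ : GL D.Idx K) : Matrix D.Idx D.Idx K) * (n : Matrix D.Idx D.Idx K) = 1 := by
    rw [← Units.val_mul, inv_mul_cancel]; rfl
  have h3 := congrFun (congrFun hinv' (Sum.inr s)) (Sum.inr s)
  rw [Matrix.one_apply_eq, Matrix.mul_apply, Fintype.sum_sum_type] at h3
  rw [Finset.sum_eq_zero fun i _ => by rw [h2, mul_zero], zero_add, Finset.sum_eq_zero] at h3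
  · exact zero_ne_one h3
  · intro x _
    by_cases hx : x = u
    · rw [hx, h0, mul_zero]
    · rw [mono_entry hD hn hw hact s x fun e => hx (Fin.ext (e.trans hu.symm)), mul_zero]

end Cfsg.Agent.H927.Sz
end

-- part: H927/SzOpp2
section
/-!
# Opposite long root subgroups: the entry `Del` and the decomposition `P = Q (P ∩ N(X_{-a}))`
-/

set_option autoImplicit false

namespace Cfsg.Agent.H927.Sz

open Cfsg.Lie Cfsg.Agent.ChevalleyStructure Cfsg.Agent.ChevalleyStructure.RootCombGood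
  Cfsg.Agent.ChevalleyStructure.RootWord Cfsg.Agent.ChevalleyStructure.RootVec
  Cfsg.Agent.ChevalleyStructure.RootVecTab Cfsg.Agent.ChevalleyStructure.RootSupport
  Cfsg.Agent.ChevalleyStructure.Elts Cfsg.Agent.ChevalleyStructure.BruhatSplit
  Cfsg.Agent.H86.Lev Cfsg.Agent.H86.Graded Cfsg.Agent.H86.Par Cfsg.Agent.H92.ChevCent
  Cfsg.Agent.ChevalleyStructure.BlockMonomial

universe u

variable {D : ChevalleyDatum} {K : Type u} [Field K]

/-- `L⟨0⟩` : the level does not drop -/
abbrev R0 (D : ChevalleyDatum) (K : Type u) [Field K] : Subgroup (GL D.Idx K) :=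
  Rg D K (car D (top D)) 0 le_rfl

theorem mem_R0 {g : GL D.Idx K} (h1 : Raises (car D (top D)) 0 (g : Matrix D.Idx D.Idx K))
    (h2 : Raises (car D (top D)) 0 ((g⁻¹ : GL D.Idx K) : Matrix D.Idx D.Idx K)) : g ∈ R0 D K :=
  ⟨h1.sub Raises.one, h2.sub Raises.one⟩

theorem mono_raises (hD : InList D) {n : GL D.Idx K} (hn : n ∈ D.monomialSubgroup K) {w : List ℕ}
    (hw : ∀ a ∈ w, a < D.rank) (hact : Acts n w) (h : wact D w (top D) = top D) :
    Raises (car D (top D)) 0 (n : Matrix D.Idx D.Idx K) := by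
  obtain ⟨-, -, -, -, h2⟩ := mono_aux hD hn
  have hbm : ∀ (u : Fin D.nroots) (i : Fin D.rank), (n : Matrix D.Idx D.Idx K) (Sum.inr u) (Sum.inl i) = 0 := by
    have hle : D.monomialSubgroup K ≤ BM (Fin D.rank) (Fin D.nroots) K := by
      rw [NPerm.monomial_eq hD K]
      refine sup_le ((Subgroup.closure_le _).2 ?_) (fun g hg => NBlock.isBM_diagonal hD g hg)
      rintro g ⟨i, hi, rfl⟩
      exact NBlock.isBM_nS hD hi
    exact (hle hn).1
  rintro (i | u) (j | s) hne
  · simp
  · exact absurd (h2 s i) hne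
  · exact absurd (hbm u j) hne
  · have hu : u.val = wact D w s.val := by
      by_contra hu
      exact hne (mono_entry hD hn hw hact s u hu)
    rw [wl_inr, wl_inr, hu, level_wact hD hw h s.2, add_zero]

theorem P_le_R0 (hD : InList D) : P K D ≤ R0 D K := by
  intro p hp
  obtain ⟨b, hb, n, hn, hnP, u, hu, rfl⟩ := P_bruhat hD hp
  have G := good hD
  have hU : D.posUnipotent K ≤ R0 D K := by
    rw [posUnipotent_le_iff hD]
    intro r hr t
    exact xG_mem_Rg hD (lin_car (checked_of_mem hD) _) hr.1 _ (pos_level hD hr) t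
  have hT : D.diagonalSubgroup K ≤ R0 D K := by
    intro g hg
    have key : ∀ g ∈ D.diagonalSubgroup K, Raises (car D (top D)) 0 (g : Matrix D.Idx D.Idx K) := by
      intro g hg i j hij
      obtain ⟨χ, -, h⟩ := HDiag.exists_dmat D hD g hg
      rw [h] at hij
      have : i = j := by
        by_contra hne
        exact hij (Matrix.diagonal_apply_ne _ hne)
      rw [this, add_zero]
    exact mem_R0 (key g hg) (key _ (Subgroup.inv_mem _ hg))
  have hB : D.borelSubgroup K ≤ R0 D K := sup_le hU hT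
  obtain ⟨w, hw, hact⟩ := exists_acts hD (NL_le D hn)
  have hwt := wact_of_mem_P hD hnP hw hact
  have hwr : ∀ a ∈ w.reverse, a < D.rank := fun a ha => hw a (by simpa using ha)
  have hn' : n ∈ R0 D K := by
    refine mem_R0 (mono_raises hD (NL_le D hn) hw hact hwt)
      (mono_raises hD (Subgroup.inv_mem _ (NL_le D hn)) hwr (Acts.inv G hact hw) ?_)
    have := wact_reverse G hw (top_lt hD)
    rwa [hwt] at this
  exact Subgroup.mul_mem _ (Subgroup.mul_mem _ (hB hb) hn') (hU (Um_le _ hu))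

theorem Del_mul_right (hD : InList D) (g : GL D.Idx K) {p : GL D.Idx K} (hp : p ∈ P K D) :
    Del hD (g * p) = Del hD g * (p : Matrix D.Idx D.Idx K) (iT hD) (iT hD) := by
  have h1 := Rg.raises_zero (P_le_R0 hD hp)
  unfold Del
  rw [Units.val_mul, Matrix.mul_apply]
  refine Finset.sum_eq_single _ (fun j _ hj => ?_) (fun h => absurd (Finset.mem_univ _) h)
  by_contra hne
  have := h1 j (iT hD) (right_ne_zero_of_mul hne)
  rw [wl_iT, add_zero] at this
  exact hj (eq_iT hD this)

theorem Del_mul_left (hD : InList D) (g : GL D.Idx K) {p : GL D.Idx K} (hp : p ∈ P K D) :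
    Del hD (p * g) = (p : Matrix D.Idx D.Idx K) (iB hD) (iB hD) * Del hD g := by
  have h1 := Rg.raises_zero (P_le_R0 hD hp)
  unfold Del
  rw [Units.val_mul, Matrix.mul_apply]
  refine Finset.sum_eq_single _ (fun j _ hj => ?_) (fun h => absurd (Finset.mem_univ _) h)
  by_contra hne
  have := h1 (iB hD) j (left_ne_zero_of_mul hne)
  rw [wl_iB, add_zero] at this
  exact hj (eq_iB hD this)

theorem P_iT_ne (hD : InList D) {p : GL D.Idx K} (hp : p ∈ P K D) :
    (p : Matrix D.Idx D.Idx K) (iT hD) (iT hD) ≠ 0 := by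
  intro h0
  have h1 := Rg.raises_zero (P_le_R0 hD hp)
  have hinv' : ((p⁻¹ : GL D.Idx K) : Matrix D.Idx D.Idx K) * (p : Matrix D.Idx D.Idx K) = 1 := by
    rw [← Units.val_mul, inv_mul_cancel]; rfl
  have h3 := congrFun (congrFun hinv' (iT hD)) (iT hD)
  rw [Matrix.one_apply_eq, Matrix.mul_apply, Finset.sum_eq_zero] at h3
  · exact zero_ne_one h3
  · intro j _
    by_cases hj : j = iT hD
    · rw [hj, h0, mul_zero]
    · by_contra hne
      have := h1 j (iT hD) (right_ne_zero_of_mul hne)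
      rw [wl_iT, add_zero] at this
      exact hj (eq_iT hD this)

theorem P_iB_ne (hD : InList D) {p : GL D.Idx K} (hp : p ∈ P K D) :
    (p : Matrix D.Idx D.Idx K) (iB hD) (iB hD) ≠ 0 := by
  intro h0
  have h1 := Rg.raises_zero (P_le_R0 hD hp)
  have hinv' : (p : Matrix D.Idx D.Idx K) * ((p⁻¹ : GL D.Idx K) : Matrix D.Idx D.Idx K) = 1 := by
    rw [← Units.val_mul, mul_inv_cancel]; rfl
  have h3 := congrFun (congrFun hinv' (iB hD)) (iB hD)
  rw [Matrix.one_apply_eq, Matrix.mul_apply, Finset.sum_eq_zero] at h3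
  · exact zero_ne_one h3
  · intro j _
    by_cases hj : j = iB hD
    · rw [hj, h0, zero_mul]
    · by_contra hne
      have := h1 (iB hD) j (left_ne_zero_of_mul hne)
      rw [wl_iB, add_zero] at this
      exact hj (eq_iB hD this)

/-! ### `P = Q (P ∩ N(X_{-a}))` -/

/-- `P ∩ N(X_{-a})` -/
def PL (K : Type u) [Field K] (D : ChevalleyDatum) : Subgroup (GL D.Idx K) :=
  P K D ⊓ Subgroup.normalizer (XB D K : Set (GL D.Idx K))

theorem PL_le_normQ (hD : InList D) : PL K D ≤ Subgroup.normalizer (Q D K (top D) : Set (GL D.Idx K)) := by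
  intro g hg
  refine mem_normalizer_of (P_conj_Q hD hg.1) (fun x hx => ?_)
  have := P_conj_Q hD (Subgroup.inv_mem _ hg.1) x hx
  rwa [inv_inv] at this

theorem xG_mem_PL (hD : InList D) {r : ℕ} (hr : r < D.nroots) (h : car D (top D) r = 0) (t : K) :
    xG hD r t ∈ PL K D := by
  refine ⟨xG_mem_P hD hr h.ge t, ?_⟩
  have key : ∀ t : K, ∀ x ∈ XB D K, xG hD r t * x * (xG hD r t)⁻¹ ∈ XB D K := by
    intro t x hx
    obtain ⟨u, rfl⟩ := (mem_rootSubgroup_iff hD _ _).1 hx
    rw [comm_hi hD (hi0 hD) hr (by rw [car0 hD, h]; norm_num) t u, mul_inv_cancel_right]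
    exact hx
  refine mem_normalizer_of (key t) (fun x hx => ?_)
  have := key (-t) x hx
  rwa [← xG_inv, inv_inv] at this

theorem P_le_sup (hD : InList D) : P K D ≤ Q D K (top D) ⊔ PL K D := by
  intro p hp
  obtain ⟨b, hb, n, hn, hnP, u, hu, rfl⟩ := P_bruhat hD hp
  have G := good hD
  have hU : D.posUnipotent K ≤ Q D K (top D) ⊔ PL K D := by
    rw [posUnipotent_le_iff hD]
    intro r hr t
    rcases (pos_level hD hr).eq_or_lt with h | h
    · exact (le_sup_right : PL K D ≤ _) (xG_mem_PL hD hr.1 h.symm t)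
    · exact (le_sup_left : Q D K (top D) ≤ _) (xG_mem_Q hD hr.1 (by omega) t)
  have hT : D.diagonalSubgroup K ≤ Q D K (top D) ⊔ PL K D := by
    refine le_trans (fun g hg => ?_) (le_sup_right : PL K D ≤ _)
    refine ⟨diag_le_P hD hg, cj_eq_self_iff.1 ?_⟩
    exact (acts_of_mem_diagonal hD G hg) 0 (zero_lt hD)
  have hB : D.borelSubgroup K ≤ Q D K (top D) ⊔ PL K D := sup_le hU hT
  obtain ⟨w, hw, hact⟩ := exists_acts hD (NL_le D hn)
  have hwt := wact_of_mem_P hD hnP hw hact
  have hw0 : wact D w 0 = 0 := by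
    have := wact_neg G hw (top_lt hD)
    rwa [hwt, neg_top hD] at this
  have hn' : n ∈ Q D K (top D) ⊔ PL K D := by
    refine (le_sup_right : PL K D ≤ _) ⟨hnP, cj_eq_self_iff.1 ?_⟩
    have := hact 0 (zero_lt hD)
    rw [hw0] at this
    exact this
  exact Subgroup.mul_mem _ (Subgroup.mul_mem _ (hB hb) hn') (hU (Um_le _ hu))

theorem P_decomp (hD : InList D) {p : GL D.Idx K} (hp : p ∈ P K D) :
    ∃ q ∈ Q D K (top D), ∃ l ∈ PL K D, p = q * l := by
  have h1 := P_le_sup hD hp
  have h2 := Subgroup.coe_mul_of_right_le_normalizer_left (Q D K (top D)) (PL K D) (PL_le_normQ hD)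
  have h3 : p ∈ ((Q D K (top D) ⊔ PL K D : Subgroup (GL D.Idx K)) : Set (GL D.Idx K)) := h1
  rw [h2] at h3
  obtain ⟨q, hq, l, hl, e⟩ := Set.mem_mul.1 h3
  exact ⟨q, hq, l, hl, e.symm⟩

theorem Q_le_P (hD : InList D) : Q D K (top D) ≤ P K D := by
  rw [Q_le_iff hD]
  intro r hr h t
  exact xG_mem_P hD hr (by omega) t

/-- elements of `Q` centralise `X_a` -/
theorem Q_cj_XT (hD : InList D) {q : GL D.Idx K} (hq : q ∈ Q D K (top D)) : cj q (XT D K) = XT D K := by
  refine cj_of_comm fun x hx => ?_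
  obtain ⟨t, rfl⟩ := (mem_rootSubgroup_iff hD _ _).1 hx
  exact Q_comm_top hD (good hD) (hiT hD) hq t

theorem P_cj_XT {p : GL D.Idx K} (hp : p ∈ P K D) : cj p (XT D K) = XT D K :=
  cj_eq_self_iff.2 hp.2

theorem mem_P_of_cj {g : GL D.Idx K} (hg : g ∈ D.group K) (h : cj g (XT D K) = XT D K) :
    g ∈ P K D := ⟨hg, cj_eq_self_iff.1 h⟩

/-- a word reflecting a root -/
theorem exists_refl_word (hD : InList D) {r : ℕ} (hr : r < D.nroots) :
    ∃ w : List ℕ, (∀ a ∈ w, a < D.rank) ∧ wact D w r = D.neg r ∧ wact D w (D.neg r) = r := by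
  have G := good hD
  obtain ⟨i, hi, w, hw, e⟩ := exists_word G hr
  have hwr : ∀ a ∈ w.reverse, a < D.rank := fun a ha => hw a (by simpa using ha)
  have hs := G.simple_lt hi
  have h1 : wact D w.reverse r = D.simple i := by rw [← e, wact_reverse G hw hs]
  have h2 : wact D (w ++ ([i] ++ w.reverse)) r = D.neg r := by
    rw [wact_append, wact_append, h1, wact_cons, wact_nil, G.reflect_simple hi, wact_neg G hw hs, e]
  have hlt : ∀ a ∈ w ++ ([i] ++ w.reverse), a < D.rank := by
    intro a ha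
    rcases List.mem_append.1 ha with h | h
    · exact hw a h
    · rcases List.mem_append.1 h with h | h
      · rw [List.mem_singleton.1 h]; exact hi
      · exact hwr a h
  refine ⟨_, hlt, h2, ?_⟩
  rw [wact_neg G hlt hr, h2, RootWord.neg_neg G hr]

/-- an element of `N` swapping `X_a` and `X_{-a}` -/
theorem exists_swap (hD : InList D) (K : Type u) [Field K] : ∃ n ∈ D.monomialSubgroup K, ∃ w : List ℕ,
    (∀ a ∈ w, a < D.rank) ∧ Acts n w ∧ wact D w (top D) = 0 ∧ wact D w 0 = top D := by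
  obtain ⟨w, hw, h1, h2⟩ := exists_refl_word hD (top_lt hD)
  rw [neg_top hD] at h1 h2
  obtain ⟨n, hn, hact⟩ := exists_NL_acts hD K w hw
  exact ⟨n, NL_le D hn, w, hw, hact, h1, h2⟩

/-! ### opposite subgroups -/

/-- long root subgroups -/
def LR (D : ChevalleyDatum) (K : Type u) [Field K] (A : Subgroup (GL D.Idx K)) : Prop :=
  ∃ g ∈ D.group K, A = cj g (XT D K)

/-- opposite long root subgroups -/
def Opp (A B : Subgroup (GL D.Idx K)) : Prop := ∃ g ∈ D.group K, A = cj g (XT D K) ∧ B = cj g (XB D K)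

theorem Opp.cj {A B : Subgroup (GL D.Idx K)} (h : Opp A B) {g : GL D.Idx K} (hg : g ∈ D.group K) :
    Opp (Sz.cj g A) (Sz.cj g B) := by
  obtain ⟨x, hx, rfl, rfl⟩ := h
  exact ⟨g * x, Subgroup.mul_mem _ hg hx, by rw [cj_mul], by rw [cj_mul]⟩

theorem Opp.symm (hD : InList D) {A B : Subgroup (GL D.Idx K)} (h : Opp A B) : Opp B A := by
  obtain ⟨g, hg, rfl, rfl⟩ := h
  obtain ⟨n, hn, w, hw, hact, h1, h2⟩ := exists_swap hD K
  refine ⟨g * n, Subgroup.mul_mem _ hg (monomial_le_group hD K hn), ?_, ?_⟩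
  · have := hact _ (top_lt hD)
    rw [h1] at this
    rw [cj_mul]
    exact congrArg _ this.symm
  · have := hact _ (zero_lt hD)
    rw [h2] at this
    rw [cj_mul]
    exact congrArg _ this.symm

theorem LR.cj {A : Subgroup (GL D.Idx K)} (h : LR D K A) {g : GL D.Idx K} (hg : g ∈ D.group K) :
    LR D K (Sz.cj g A) := by
  obtain ⟨x, hx, rfl⟩ := h
  exact ⟨g * x, Subgroup.mul_mem _ hg hx, by rw [cj_mul]⟩

theorem LR.le (hD : InList D) {A : Subgroup (GL D.Idx K)} (h : LR D K A) : A ≤ D.group K := by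
  obtain ⟨g, hg, rfl⟩ := h
  exact cj_le_of_mem hg (rootSubgroup_le_group hD _)

/-- the opposites of `X_a` -/
theorem exists_Q_of_opp (hD : InList D) {B : Subgroup (GL D.Idx K)} (h : Opp (XT D K) B) :
    ∃ q ∈ Q D K (top D), B = Sz.cj q (XB D K) := by
  obtain ⟨g, hg, h1, rfl⟩ := h
  obtain ⟨q, hq, l, hl, rfl⟩ := P_decomp hD (mem_P_of_cj hg h1.symm)
  refine ⟨q, hq, ?_⟩
  rw [cj_mul, cj_eq_self_iff.2 hl.2]

theorem Q_le_group (hD : InList D) : Q D K (top D) ≤ D.group K := (Q_le_P hD).trans P_le_group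

theorem opp_of_Q (hD : InList D) {q : GL D.Idx K} (hq : q ∈ Q D K (top D)) : Opp (XT D K) (Sz.cj q (XB D K)) :=
  ⟨q, Q_le_group hD hq, (Q_cj_XT hD hq).symm, rfl⟩

/-- the element `q` is unique -/
theorem Q_unique (hD : InList D) {q q' : GL D.Idx K} (hq : q ∈ Q D K (top D)) (hq' : q' ∈ Q D K (top D))
    (h : Sz.cj q (XB D K) = Sz.cj q' (XB D K)) : q = q' := by
  have h1 : Sz.cj (q'⁻¹ * q) (XB D K) = XB D K := by rw [cj_mul, h, cj_inv_cj]
  have hv : q'⁻¹ * q ∈ Q D K (top D) := Subgroup.mul_mem _ (Subgroup.inv_mem _ hq') hq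
  have h2 : (q'⁻¹ * q) * xG hD 0 1 * (q'⁻¹ * q)⁻¹ ∈ XB D K := by
    have := conj_mem_cj (g := q'⁻¹ * q) (xG_mem_rootSubgroup (F := K) hD 0 1)
    rwa [h1] at this
  obtain ⟨t, ht⟩ := (mem_rootSubgroup_iff hD _ _).1 h2
  have h3 : q'⁻¹ * q = 1 := by
    refine eq_one_of_conj hD (good hD) (hiT hD) hv (t₁ := 1) (t₂ := t) one_ne_zero ?_
    rw [neg_top hD]
    exact mul_inv_eq_iff_eq_mul.1 ht
  exact (inv_mul_eq_one.1 h3).symm

/-- **opposite** in terms of the entry `Del` -/
theorem opp_XT_iff (hD : InList D) {g : GL D.Idx K} (hg : g ∈ D.group K) :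
    Opp (XT D K) (Sz.cj g (XT D K)) ↔ Del hD g ≠ 0 := by
  have G := good hD
  constructor
  · intro h
    obtain ⟨q, hq, e⟩ := exists_Q_of_opp hD h
    obtain ⟨n, hn, w, hw, hact, h1, h2⟩ := exists_swap hD K
    have hnT : Sz.cj n (XT D K) = XB D K := by
      have := hact _ (top_lt hD)
      rw [h1] at this
      exact this
    have hp : n⁻¹ * (q⁻¹ * g) ∈ P K D := by
      refine mem_P_of_cj (Subgroup.mul_mem _ (Subgroup.inv_mem _ (monomial_le_group hD K hn))
        (Subgroup.mul_mem _ (Subgroup.inv_mem _ (Q_le_group hD hq)) hg)) ?_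
      rw [cj_mul, cj_mul, e, cj_inv_cj, ← hnT, cj_inv_cj]
    have eg : g = q * (n * (n⁻¹ * (q⁻¹ * g))) := by group
    rw [eg, Del_mul_left hD _ (Q_le_P hD hq), Del_mul_right hD _ hp]
    exact mul_ne_zero (P_iB_ne hD (Q_le_P hD hq)) (mul_ne_zero
      (mono_entry_ne hD hn hw hact ⟨top D, top_lt hD⟩ ⟨0, zero_lt hD⟩ h1.symm) (P_iT_ne hD hp))
  · intro h
    obtain ⟨b, hb, n, hn, b', hb', rfl⟩ := Cfsg.Agent.S1100.exists_bruhat hD hg
    have hbP := borel_le_P (F := K) hD hb
    have hbP' := borel_le_P (F := K) hD hb'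
    obtain ⟨w, hw, hact⟩ := exists_acts hD hn
    rw [Del_mul_right hD _ hbP', Del_mul_left hD _ hbP] at h
    have hn0 : Del hD n ≠ 0 := right_ne_zero_of_mul (left_ne_zero_of_mul h)
    have hw0 : wact D w (top D) = 0 := by
      by_contra hne
      exact hn0 (mono_entry hD hn hw hact ⟨top D, top_lt hD⟩ ⟨0, zero_lt hD⟩ (Ne.symm hne))
    have hnT : Sz.cj n (XT D K) = XB D K := by
      have := hact _ (top_lt hD)
      rw [hw0] at this
      exact this
    rw [cj_mul, P_cj_XT hbP', cj_mul, hnT]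
    obtain ⟨q, hq, l, hl, rfl⟩ := P_decomp hD hbP
    rw [cj_mul, cj_eq_self_iff.2 hl.2]
    exact opp_of_Q hD hq

theorem opp_iff_del (hD : InList D) {g g' : GL D.Idx K} (hg : g ∈ D.group K) (hg' : g' ∈ D.group K) :
    Opp (Sz.cj g' (XT D K)) (Sz.cj g (XT D K)) ↔ Del hD (g'⁻¹ * g) ≠ 0 := by
  rw [← opp_XT_iff hD (Subgroup.mul_mem _ (Subgroup.inv_mem _ hg') hg)]
  constructor
  · intro h
    have := h.cj (Subgroup.inv_mem _ hg')
    rwa [cj_inv_cj, ← cj_mul] at this
  · intro h
    have := h.cj hg'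
    rwa [← cj_mul, mul_inv_cancel_left] at this

end Cfsg.Agent.H927.Sz
end

-- part: H927/SzMouf
section
/-!
# The Moufang step (S2539, part 1)

`F` a subgroup of `GL`, `A, B, B' ≤ F` long root subgroups, `B` and `B'` opposite to `A`: then `B' = v B v⁻¹` with
`v ∈ F` in the unipotent radical of `N(A)`.
-/

set_option autoImplicit false

namespace Cfsg.Agent.H927.Sz

open Cfsg.Lie Cfsg.Agent.ChevalleyStructure Cfsg.Agent.ChevalleyStructure.RootCombGood
  Cfsg.Agent.ChevalleyStructure.RootWord Cfsg.Agent.ChevalleyStructure.RootVec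
  Cfsg.Agent.ChevalleyStructure.RootVecTab Cfsg.Agent.ChevalleyStructure.RootSupport
  Cfsg.Agent.ChevalleyStructure.Elts Cfsg.Agent.ChevalleyStructure.BruhatSplit
  Cfsg.Agent.H86.Lev Cfsg.Agent.H86.Graded Cfsg.Agent.H86.Par Cfsg.Agent.H92.ChevCent

universe u

variable {D : ChevalleyDatum} {K : Type u} [Field K]

/-- the level is the sum of the levels of the simple constituents -/
theorem car_eq_sum (hD : InList D) (β : ℕ) {r : ℕ} (hr : r < D.nroots) :
    car D β r = ∑ j ∈ Finset.range D.rank, rt D r j * car D β (D.simple j) := by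
  have hc := checked_of_mem hD
  unfold car
  simp_rw [Finset.mul_sum]
  rw [Finset.sum_comm]
  refine Finset.sum_congr rfl fun k hk => ?_
  rw [cartan_eq_sum hc (Finset.mem_range.1 hk) hr, Finset.mul_sum]
  exact Finset.sum_congr rfl fun j _ => by ring

/-- `h_r(c)` acts on the root subgroups -/
theorem hG_conj_xG (hD : InList D) {r : ℕ} (hr : r < D.nroots) {c : K} (hc0 : c ≠ 0) {s : ℕ} (hs : s < D.nroots)
    (t : K) : hG hD r c * xG hD s t * (hG hD r c)⁻¹ = xG hD s (c ^ car D r s * t) := by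
  have hc := checked_of_mem hD
  have hadd : Cfsg.Agent.ChevalleyStructure.TorusConj.IsAdditive D (car D r) := by
    refine ⟨fun j => car D r (D.simple j), fun s hs => ?_⟩
    rw [car_eq_sum hD r hs]
    exact Finset.sum_congr rfl fun j _ => by ring
  rw [mul_inv_eq_iff_eq_mul]
  apply Units.ext
  rw [Units.val_mul, Units.val_mul, coe_hG, coe_xG, coe_xG,
    Cfsg.Agent.ChevalleyStructure.StringMem.hMat_eq hD hr hc0]
  exact Cfsg.Agent.ChevalleyStructure.TorusConj.torus_mul_x hc hadd hc0 s t hs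

theorem hG_conj_Wd (hD : InList D) {r : ℕ} (hr : r < D.nroots) {c : K} (hc0 : c ≠ 0) (k : ℕ → K) :
    ∀ l : List ℕ, (∀ s ∈ l, s < D.nroots) →
      hG hD r c * Wd hD l k * (hG hD r c)⁻¹ = Wd hD l (fun s => c ^ car D r s * k s)
  | [], _ => by
    show hG hD r c * 1 * (hG hD r c)⁻¹ = 1
    rw [mul_one, mul_inv_cancel]
  | s :: l, hl => by
    have ih := hG_conj_Wd hD hr hc0 k l fun a ha => hl a (List.mem_cons_of_mem _ ha)
    rw [Wd_cons, Wd_cons, ← ih, ← hG_conj_xG hD hr hc0 (hl s List.mem_cons_self)]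
    group

/-- `C_Q(h_a(c)) = 1` for `c ≠ 1`, `c² ≠ 1` -/
theorem Q_fix (hD : InList D) {c : K} (hc0 : c ≠ 0) (hc1 : c ≠ 1) (hc2 : c ^ 2 ≠ 1) {v : GL D.Idx K}
    (hv : v ∈ Q D K (top D)) (h : hG hD (top D) c * v * (hG hD (top D) c)⁻¹ = v) : v = 1 := by
  have G := good hD
  have T := hiT hD
  obtain ⟨t, ht⟩ := form hD G T hv
  have hl : ∀ r ∈ lev1 D (top D), r < D.nroots ∧ car D (top D) r = 1 := fun r hr => mem_lev1.1 hr
  have h1 : hG hD (top D) c * v * (hG hD (top D) c)⁻¹ =
      Wd hD (lev1 D (top D)) (fun s => c ^ car D (top D) s * kap D (top D) s v) * xG hD (top D) (c ^ (2 : ℤ) * t) := by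
    rw [← hG_conj_Wd hD (top_lt hD) hc0 _ _ fun s hs => (hl s hs).1]
    have := hG_conj_xG hD (top_lt hD) hc0 (top_lt hD) t
    rw [car_top hD] at this
    rw [← this]
    conv_lhs => rw [ht]
    group
  rw [h] at h1
  have hk : ∀ s < D.nroots, car D (top D) s = 1 → kap D (top D) s (v : Matrix D.Idx D.Idx K) = 0 := by
    intro s hs hs1
    have h2 := congrArg (fun g : GL D.Idx K => kap D (top D) s (g : Matrix D.Idx D.Idx K)) h1
    beta_reduce at h2
    rw [kap_mul hD G T hs hs1 (Q_le_Rg hD _ (Wd_mem_Q hD _ _ hl))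
      (Q_le_Rg hD _ (xG_mem_Q hD T.lt (by rw [G.car_self T.lt]; norm_num) _)), kap_Wd hD G T hs hs1 _ _ hl
      nodup_lev1, if_pos (mem_lev1.2 ⟨hs, hs1⟩), coe_xG, kap_x_ne hD G T hs hs1 T.lt
      (by rw [G.car_self T.lt]; norm_num), add_zero] at h2
    · rw [hs1, zpow_one] at h2
      by_contra hne
      exact hc1 (mul_right_cancel₀ hne (by rw [one_mul]; exact h2.symm))
    · intro e
      rw [← e, car_top hD] at hs1
      norm_num at hs1
  obtain ⟨t', ht'⟩ := eq_top_of_kap hD G T hv hk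
  have h3 := hG_conj_xG hD (top_lt hD) hc0 (top_lt hD) t'
  rw [← ht', h, car_top hD, ht'] at h3
  have h4 := xG_injective hD (top_lt hD) h3
  have : t' = 0 := by
    by_contra hne
    apply hc2
    have := mul_right_cancel₀ hne (show 1 * t' = c ^ (2 : ℤ) * t' by rw [one_mul]; exact h4)
    exact_mod_cast this.symm
  rw [ht', this, xG_zero]

/-- elements `[v, h]` -/
theorem mem_of_comm {G : Type*} [Group G] {Q V : Subgroup G} [Finite V] (hVQ : V ≤ Q) {h : G}
    (hfix : ∀ v ∈ Q, h * v * h⁻¹ = v → v = 1) (hV : ∀ v ∈ V, h * v * h⁻¹ ∈ V) {q : G} (hq : q ∈ Q)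
    (hq' : q⁻¹ * (h * q * h⁻¹) ∈ V) : q ∈ V := by
  have key : ∀ v ∈ Q, ∀ w ∈ Q, v⁻¹ * (h * v * h⁻¹) = w⁻¹ * (h * w * h⁻¹) → v = w := by
    intro v hv w hw e
    have h1 : h * (w * v⁻¹) * h⁻¹ = w * v⁻¹ := by
      have e1 : h * v * h⁻¹ = v * (w⁻¹ * (h * w * h⁻¹)) := by rw [← e]; group
      calc h * (w * v⁻¹) * h⁻¹ = h * w * h⁻¹ * (h * v * h⁻¹)⁻¹ := by group
        _ = h * w * h⁻¹ * (v * (w⁻¹ * (h * w * h⁻¹)))⁻¹ := by rw [e1]
        _ = w * v⁻¹ := by group
    have h2 := hfix _ (Q.mul_mem hw (Q.inv_mem hv)) h1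
    exact (mul_inv_eq_one.1 h2).symm
  let f : V → V := fun v => ⟨(v : G)⁻¹ * (h * v * h⁻¹), V.mul_mem (V.inv_mem v.2) (hV v v.2)⟩
  have hf : Function.Injective f := fun v w e =>
    Subtype.ext (key v (hVQ v.2) w (hVQ w.2) (congrArg Subtype.val e))
  obtain ⟨v, hv⟩ := (Finite.injective_iff_surjective.1 hf) ⟨_, hq'⟩
  have := key v (hVQ v.2) q hq (congrArg Subtype.val hv)
  rw [← this]
  exact v.2

theorem hG_top_mem (hD : InList D) (c : K) : hG hD (top D) c ∈ XT D K ⊔ XB D K := by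
  refine mem_of_xG_mem hD fun p hp => ?_
  have hp' : p.1 = top D ∨ p.1 = 0 := by
    unfold ChevalleyDatum.hWord ChevalleyDatum.nWord at hp
    rw [neg_top hD] at hp
    simp only [List.mem_append, List.mem_cons, List.not_mem_nil, or_false] at hp
    rcases hp with (rfl | rfl | rfl) | (rfl | rfl | rfl) <;> simp
  rcases hp' with h | h
  · rw [h]; exact (le_sup_left : XT D K ≤ _) (xG_mem_rootSubgroup hD _ _)
  · rw [h]; exact (le_sup_right : XB D K ≤ _) (xG_mem_rootSubgroup hD _ _)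

theorem hG_conj_Q (hD : InList D) {c : K} (hc0 : c ≠ 0) {q : GL D.Idx K} (hq : q ∈ Q D K (top D)) :
    hG hD (top D) c * q * (hG hD (top D) c)⁻¹ ∈ Q D K (top D) :=
  diag_conj_Q hD (hG_mem_diagonal hD (top_lt hD) hc0) q hq

/-- the Moufang step in standard position -/
theorem moufang_aux (hD : InList D) [Finite K] {c : K} (hc0 : c ≠ 0) (hc1 : c ≠ 1) (hc2 : c ^ 2 ≠ 1)
    {F : Subgroup (GL D.Idx K)} (hA : XT D K ≤ F) (hB : XB D K ≤ F) {q : GL D.Idx K} (hq : q ∈ Q D K (top D))
    (hB' : cj q (XB D K) ≤ F) : q ∈ F := by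
  have hF : hG hD (top D) c ∈ F := (sup_le hA hB) (hG_top_mem hD c)
  have hF' : q * hG hD (top D) c * q⁻¹ ∈ F := by
    have h1 : cj q (XT D K ⊔ XB D K) ≤ F := by
      rw [cj_sup]
      refine sup_le ?_ hB'
      rw [Q_cj_XT hD hq]
      exact hA
    exact h1 (conj_mem_cj (hG_top_mem hD c))
  have hfin : Finite (GL D.Idx K) := inferInstance
  have h1 : q⁻¹ ∈ F ⊓ Q D K (top D) := by
    refine mem_of_comm (Q := Q D K (top D)) inf_le_right (h := hG hD (top D) c)
      (fun v hv h => Q_fix hD hc0 hc1 hc2 hv h) (fun v hv => ?_) (Subgroup.inv_mem _ hq) ?_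
    · exact ⟨F.mul_mem (F.mul_mem hF hv.1) (F.inv_mem hF), hG_conj_Q hD hc0 hv.2⟩
    · have e : (q⁻¹)⁻¹ * (hG hD (top D) c * q⁻¹ * (hG hD (top D) c)⁻¹) =
          (q * hG hD (top D) c * q⁻¹) * (hG hD (top D) c)⁻¹ := by group
      refine ⟨?_, Subgroup.mul_mem _ (by rw [inv_inv]; exact hq) (hG_conj_Q hD hc0 (Subgroup.inv_mem _ hq))⟩
      rw [e]
      exact F.mul_mem hF' (F.inv_mem hF)
  have := F.inv_mem h1.1
  rwa [inv_inv] at this

/-- **Moufang step** -/
theorem moufang (hD : InList D) [Finite K] {c : K} (hc0 : c ≠ 0) (hc1 : c ≠ 1) (hc2 : c ^ 2 ≠ 1)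
    {F A B B' : Subgroup (GL D.Idx K)} (hA : A ≤ F) (hB : B ≤ F) (hB' : B' ≤ F) (h1 : Opp A B) (h2 : Opp A B') :
    ∃ v ∈ F, B' = cj v B ∧ ∀ g ∈ D.group K, A = cj g (XT D K) → v ∈ cj g (Q D K (top D)) := by
  obtain ⟨g, hg, eA, eB⟩ := h1
  have h3 : Opp (XT D K) (cj g⁻¹ B') := by
    have := h2.cj (Subgroup.inv_mem _ hg)
    rwa [eA, cj_inv_cj] at this
  obtain ⟨q, hq, e⟩ := exists_Q_of_opp hD h3
  have h4 : q ∈ cj g⁻¹ F := by
    refine moufang_aux hD hc0 hc1 hc2 (F := cj g⁻¹ F) ?_ ?_ hq ?_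
    · rw [← cj_le_iff, ← eA]; exact hA
    · rw [← cj_le_iff, ← eB]; exact hB
    · rw [← e]; exact cj_mono hB'
  refine ⟨g * q * g⁻¹, ?_, ?_, fun g' hg' e' => ?_⟩
  · rw [mem_cj, inv_inv] at h4
    exact h4
  · rw [cj_mul, cj_mul, eB, cj_inv_cj, ← e, cj_cj_inv]
  · rw [mem_cj]
    have hp : g'⁻¹ * g ∈ P K D := by
      refine mem_P_of_cj (Subgroup.mul_mem _ (Subgroup.inv_mem _ hg') hg) ?_
      rw [cj_mul, ← eA, e', cj_inv_cj]
    have := P_conj_Q hD hp q hq
    have e2 : g'⁻¹ * g * q * (g'⁻¹ * g)⁻¹ = g'⁻¹ * (g * q * g⁻¹) * g' := by group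
    rwa [e2] at this

/-- existence of the field element -/
theorem exists_c (K : Type u) [Field K] [Finite K] (hK : 4 ≤ Nat.card K) : ∃ c : K, c ≠ 0 ∧ c ≠ 1 ∧ c ^ 2 ≠ 1 := by
  classical
  have := Fintype.ofFinite K
  rw [Nat.card_eq_fintype_card] at hK
  have hlt : ({0, 1, -1} : Finset K).card < (Finset.univ : Finset K).card := by
    rw [Finset.card_univ]
    exact lt_of_le_of_lt Finset.card_le_three (by omega)
  obtain ⟨c, -, hc⟩ := Finset.exists_mem_notMem_of_card_lt_card hlt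
  simp only [Finset.mem_insert, Finset.mem_singleton, not_or] at hc
  refine ⟨c, hc.1, hc.2.1, fun h => ?_⟩
  rcases (mul_self_eq_one_iff.1 (by rw [← sq]; exact h) : c = 1 ∨ c = -1) with h | h
  · exact hc.2.1 h
  · exact hc.2.2 h

end Cfsg.Agent.H927.Sz
end

private theorem dce_25a3aea906fa : _root_.True := by
  try have : _root_.True := by simp only [_root_.Cfsg.Agent.H927.Sz.iT.eq_1]
  try have : _root_.True := by simp only [_root_.Cfsg.Agent.H927.Sz.iB.eq_1]
  exact _root_.True.intro
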