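import Mathlib
import Cfsg.Agent.H952.F4.Scott_m3
import Cfsg.Agent.H969.TwF.WSub
import Cfsg.Agent.ChevalleyStructure.Good
import Cfsg.Agent.Lib.ListFast
import Cfsg.Agent.H952.F4.TabClosed
import Cfsg.Agent.H3.OT.Weyl
import Cfsg.Agent.S1046
import Cfsg.Agent.H65.E6Ext_m3
import Cfsg.Agent.FastGrp
import Cfsg.Agent.Prune
set_option linter.all false

section
prune_inst 0x7ffdbdfbfbfcefffffff7e7ffedfdffff9bfffffefdffbfbffec61ff8fdf5b8a9dc5fb8defe950fe1eb7c21410f87b53fbffffffea6ffc7ffffdfff45ffbffdfedffbd0c5196ac341ffa6fff8bf07f8e7f3fffffffffdfffffffffffffffffbeffbfffffffff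

-- part: H35/F4Two/Ent
section
prune_inst 0x24204040310000000000001202000024000001000040000038e007020a475622804221016ab01c0482ce328058000040000001500020000000003000000201200009100691180e00480007008004000000000000000000000000000000041004000000000
set_option linter.all false
open scoped Cfsg.Agent.FastGrp

/-- decoders of the packed data (elaboration time only) -/
private noncomputable def pk61d (b S i : Nat) : Nat := Nat.mod (Nat.shiftRight S (Nat.mul b i)) (Nat.shiftLeft (nat_lit 1) b)
private noncomputable def pk61c {α : Type} (t : Nat) (a : α) (f : Nat → α) : α := Nat.rec a (fun k _ => f k) t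
private noncomputable def pk61f {α : Type} (t : Nat) (f : Nat → α) : α := Nat.rec (f Nat.zero) (fun k _ => f (Nat.succ k)) t
private noncomputable def pk61l {α : Type} (f : Nat → α) (s e : Nat) (tl : List α) : List α :=
  pk61f e fun e => Nat.rec tl (fun k ih => List.cons (pk61f (Nat.sub e (Nat.succ k)) f) ih) (Nat.sub e s)
private noncomputable def pk61o {α : Type} (O : (n : Nat) → OfNat α n → α) (I : (n : Nat) → OfNat α n) (t : Nat) : α :=
  pk61c t (O (nat_lit 0) (I (nat_lit 0))) fun k => O (Nat.succ k) (I (Nat.succ k))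
private noncomputable def lq266921c240 {T : Sort _} (f :
    type_of% (@_root_.List.cons.{0}) →
    type_of% (@_root_.Prod.mk.{0, 0}) →
    type_of% (@_root_.List.nil.{0}) →
    type_of% (@_root_.List.cons.{0} (List (Prod Nat Nat))) →
    type_of% (@_root_.List.cons.{0} (List (List (Prod Nat Nat)))) → T) : T :=
  f (@_root_.List.cons.{0}) (@_root_.Prod.mk.{0, 0}) (@_root_.List.nil.{0}) (@_root_.List.cons.{0} (List (Prod Nat Nat))) (@_root_.List.cons.{0} (List (List (Prod Nat Nat))))

namespace Cfsg.Agent.H90F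

private noncomputable def frc {α : Type} (x : ℕ) (f : ℕ → α) : α := Nat.rec (f 0) (fun k _ => f (Nat.succ k)) x

private theorem frc_eq {α : Type} (x : ℕ) (f : ℕ → α) : frc x f = f x := by cases x <;> rfl

private noncomputable def nth {α : Type} (d : α) (l : List α) : ℕ → α :=
  List.rec (fun _ => d) (fun a _ ih n => Nat.rec a (fun k _ => ih k) n) l

private theorem nth_eq {α : Type} (d : α) (l : List α) (n : ℕ) : nth d l n = l.getD n d := by
  induction l generalizing n with
  | nil => rfl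
  | cons a l ih => cases n with
    | zero => rfl
    | succ k => exact ih k

private theorem nth_arr {α : Type} (d : α) (a : Array α) (n : ℕ) : a.getD n d = nth d a.toList n := by
  rw [nth_eq, List.getD_eq_getElem?_getD, Array.getD_eq_getD_getElem?, Array.getElem?_toList]

private noncomputable def row (D : Cfsg.Lie.ChevalleyDatum) (r : ℕ) : List (ℕ × Array (ℕ × ℤ)) := (nth #[] D.chain.toList r).toList

private noncomputable def fnd (s : ℕ) (l : List (ℕ × Array (ℕ × ℤ))) : List (ℕ × ℤ) :=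
  List.rec [] (fun e _ ih => Bool.rec ih e.2.toList (Nat.beq e.1 s)) l

private theorem ce_eq0 (D : Cfsg.Lie.ChevalleyDatum) (r s : ℕ) : D.chainEntry r s = fnd s (row D r) := by
  unfold Cfsg.Lie.ChevalleyDatum.chainEntry row
  rw [nth_arr]
  generalize (nth #[] D.chain.toList r).toList = l
  induction l with
  | nil => rfl
  | cons e l ih =>
    show _ = (Bool.rec (fnd s l) e.2.toList (Nat.beq e.1 s) : List (ℕ × ℤ))
    by_cases h : e.1 = s
    · rw [List.find?_cons_of_pos (by simpa using h), Nat.beq_eq.mpr h]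
    · rw [List.find?_cons_of_neg (by simpa using h), ih, Bool.eq_false_iff.2 fun h1 => h (Nat.eq_of_beq_eq_true h1)]

private noncomputable def fce (D : Cfsg.Lie.ChevalleyDatum) (r s : ℕ) : List (ℕ × ℤ) := frc r fun r => frc s fun s => fnd s (row D r)

private theorem ce_eq (D : Cfsg.Lie.ChevalleyDatum) : D.chainEntry = fce D := by
  funext r s
  rw [fce, frc_eq, frc_eq, ce_eq0]

private theorem ce_fun : Cfsg.Lie.ChevalleyDatum.chainEntry = fce := funext ce_eq

private noncomputable def fgd {α : Type} (a : Array α) (n : ℕ) (d : α) : α := frc n (nth d a.toList)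

private theorem gd_eq {α : Type} (a : Array α) (n : ℕ) (d : α) : a.getD n d = fgd a n d := by
  rw [fgd, frc_eq, nth_arr]

private theorem gd_fun : @Array.getD.{0} = @fgd := by
  funext α a n d; exact gd_eq a n d

private noncomputable def fld {α : Type} (l : List α) (n : ℕ) (d : α) : α := frc n (nth d l)

private theorem ld_eq {α : Type} (l : List α) (n : ℕ) (d : α) : l.getD n d = fld l n d := by
  rw [fld, frc_eq, nth_eq]

private theorem ld_fun : @List.getD.{0} = @fld := by
  funext α a n d; exact ld_eq a n d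

private noncomputable def dOf {P : Prop} (b : Bool) (h : b = true ↔ P) : Decidable P :=
  Bool.rec (motive := fun c => b = c → Decidable P) (fun e => isFalse fun hp => Bool.noConfusion (e.symm.trans (h.2 hp)))
    (fun e => isTrue (h.1 e)) b rfl

private noncomputable def flb {α : Type} (e : α → α → Bool) (l : List α) : List α → Bool :=
  List.rec (motive := fun _ => List α → Bool) (fun m => List.rec true (fun _ _ _ => false) m)
    (fun a _ ih m => List.rec false (fun b m _ => Bool.rec false (ih m) (e a b)) m) l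

private theorem fle_iff {α : Type} [H : DecidableEq α] (l m : List α) :
    flb (fun a b => @decide _ (H a b)) l m = true ↔ l = m := by
  induction l generalizing m with
  | nil =>
    cases m with
    | nil => exact ⟨fun _ => rfl, fun _ => rfl⟩
    | cons b m => exact ⟨fun h => Bool.noConfusion h, fun h => nomatch h⟩
  | cons a l ih =>
    cases m with
    | nil => exact ⟨fun h => Bool.noConfusion h, fun h => nomatch h⟩
    | cons b m =>
      have e : ∀ a b : Bool, (Bool.rec false a b : Bool) = true ↔ b = true ∧ a = true := by decide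
      exact (e _ _).trans ((and_congr decide_eq_true_iff (ih m)).trans List.cons_eq_cons.symm)

private theorem le_fun : @instDecidableEqList.{0} =
    fun α H l m => dOf (flb (fun a b => @decide _ (H a b)) l m) (@fle_iff α H l m) := by
  funext α H l m; exact Subsingleton.elim _ _

private noncomputable def fal {α : Type} (l : List α) (p : α → Bool) : Bool :=
  List.rec true (fun a _ ih => Bool.rec false ih (p a)) l

private theorem al_fun : @List.all.{0} = @fal := by
  funext α l p
  induction l with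
  | nil => rfl
  | cons a l ih => rw [List.all_cons, ih]; show _ = (Bool.rec false (fal l p) (p a) : Bool); cases p a <;> rfl

private noncomputable def fmp {α β : Type} (f : α → β) (l : List α) : List β := List.rec [] (fun a _ ih => f a :: ih) l

private theorem mp_fun : @List.map.{0, 0} = @fmp := by
  funext α β f l
  induction l with
  | nil => rfl
  | cons a l ih => rw [List.map_cons, ih]; rfl

private noncomputable def ffl {α : Type} (p : α → Bool) (l : List α) : List α :=
  List.rec [] (fun a _ ih => Bool.rec ih (a :: ih) (p a)) l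

private theorem fl_fun : @List.filter.{0} = @ffl := by
  funext α p l
  induction l with
  | nil => rfl
  | cons a l ih =>
    rw [List.filter_cons, ih]; show _ = (Bool.rec (ffl p l) (a :: ffl p l) (p a) : List α); cases p a <;> rfl

private noncomputable def fap {α : Type} (l m : List α) : List α := List.rec m (fun a _ ih => a :: ih) l

private theorem fap_eq {α : Type} (l m : List α) : l ++ m = fap l m := by
  induction l with
  | nil => rfl
  | cons a l ih => rw [List.cons_append, ih]; rfl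

private theorem ap_fun : @List.instAppend.{0} = fun α => (⟨fap⟩ : Append (List α)) := by
  funext α; exact congrArg Append.mk (funext fun l => funext fun m => fap_eq l m)

private theorem bn_eq (a b : ℕ) : (a == b) = Nat.beq a b := by
  rw [Bool.eq_iff_iff, beq_iff_eq, Nat.beq_eq]

private theorem bn_fun : @BEq.beq ℕ instBEqOfDecidableEq = Nat.beq := by
  funext a b; exact bn_eq a b

private theorem dl_fun : Nat.decLt = fun a b => dOf (Nat.ble (Nat.succ a) b) Nat.ble_eq.to_iff := by
  funext a b; exact Subsingleton.elim _ _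

private theorem dn_fun : instDecidableEqNat = fun a b => dOf (Nat.beq a b) Nat.beq_eq.to_iff := by
  funext a b; exact Subsingleton.elim _ _

private noncomputable def ibq (a b : ℤ) : Bool :=
  Int.rec (fun m => Int.rec (fun n => Nat.beq m n) (fun _ => false) b) (fun m => Int.rec (fun _ => false) (fun n => Nat.beq m n) b) a

private theorem ibq_iff (a b : ℤ) : ibq a b = true ↔ a = b := by
  rcases a with m | m <;> rcases b with n | n
  · exact Nat.beq_eq.to_iff.trans ⟨fun h => h ▸ rfl, Int.ofNat.inj⟩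
  · exact ⟨fun h => Bool.noConfusion h, fun h => nomatch h⟩
  · exact ⟨fun h => Bool.noConfusion h, fun h => nomatch h⟩
  · exact Nat.beq_eq.to_iff.trans ⟨fun h => h ▸ rfl, Int.negSucc.inj⟩

private theorem bz_fun : @BEq.beq ℤ instBEqOfDecidableEq = ibq := by
  funext a b; rw [Bool.eq_iff_iff, beq_iff_eq, ibq_iff]

private theorem dz_fun : Int.instDecidableEq = fun a b => dOf (ibq a b) (ibq_iff a b) := by
  funext a b; exact Subsingleton.elim _ _

end Cfsg.Agent.H90F

-- part: H35/F4Two/Tab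
section
/-!
# S5926, namespace `Two`: the matrices `x_r(t)` of `F₄` in characteristic 2 as sparse tables (helper35)

`tab` : the columns of `x_r(t)` modulo 2 as lists of pairs (row, exponent of `t`); `ent` : the entries of `x_r(t)`.
-/

set_option autoImplicit false

namespace Cfsg.Agent.H952.F4.Two

open Cfsg Cfsg.Lie Cfsg.Agent.ChevalleyStructure Cfsg.Agent.ChevalleyStructure.Columns

/-- the code of a coordinate -/
def cd : chevF4.Idx → ℕ
  | Sum.inl i => i.val
  | Sum.inr s => 4 + s.val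

/-- odd entries of a chain -/
def chO : ℕ → List (ℕ × ℤ) → List (ℕ × ℕ)
  | _, [] => []
  | k, e :: l => if e.2 % 2 = 0 then chO (k + 1) l else (4 + e.1, k) :: chO (k + 1) l

/-- the columns of `x_r(t)` modulo 2 -/
def colOf (r a : ℕ) : List (ℕ × ℕ) :=
  if a < 4 then (a, 0) :: (if car chevF4 a r % 2 = 0 then [] else [(4 + r, 1)])
  else if a = 4 + r then [(4 + r, 0)]
  else if a = 4 + chevF4.negIdx.getD r 0 then
    (a, 0) :: (((List.range 4).filter fun i => cor chevF4 r i % 2 ≠ 0).map fun i => (i, 1)) ++ [(4 + r, 2)]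
  else (a, 0) :: chO 1 (chevF4.chainEntry r (a - 4))

/-- the table -/
def tab : List (List (List (ℕ × ℕ))) :=
  let y0 : List (List (List (ℕ × ℕ))) := (by
  refine (?fq9001 : (fun (On : (n : Nat) → OfNat Nat n → Nat) (In : (n : Nat) → OfNat Nat n) => (pk61l (fun i0 => (pk61l (fun i1 => ((fun g1 : Nat → Nat => pk61l (fun i2 => (_root_.Prod.mk (pk61o On In (pk61d (nat_lit 6) 
    (nat_lit 0xcf2c70beeb6caeaa689e69648e28607de75cc9b6b16585f0595bd4b9349142c3ceacda8ca0b2a42632211de19c1730801330c2040cf2c70beeb6caeaa689e69648e28607de77371bc5a658c175af554b53491b103eb38da4c9cb90a2622201dd1b20c20056c4c83c82040cf2c70beeb6caeaa689e69648e28607f37b275c6da6706175ae56d5134ac4503ea3a934c98b8ca88921f1f10c019a159103c42040) i2)) (pk61o On In (pk61d (nat_lit 2) 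
    (nat_lit 0x4101044010444111112510000000000000104041040410444111254444000000000001100101101011044412511040) i2)))) (g1 i1) (g1 (Nat.succ i1)) List.nil) fun j => (pk61d (nat_lit 8) 
    (nat_lit 0xd4d3d2d1d0cfcecdcccbcac9c8c7c6c5c4c3c2c1c0bfbebdbcbab9b7b6b5b3b2b0aeadacaba9a8a6a4a2a19f9d9b99979391908f8e8d8c8b8a898887868584838281807f7e7d7c7b7a79787775747271706e6d6b6a686766646361605e5c5a595755534e4c4a4847464544434241403f3e3d3c3b3a3938373635343332312f2d2c2b2a292726252321201f1d1c1b1917161412100f0d09070504020100) j))) (Nat.mul (nat_lit 52) i0) (Nat.mul (nat_lit 52) (Nat.succ i0)) List.nil)) (nat_lit 0) (nat_lit 3) List.nil : List (List (List (ℕ × ℕ)))))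
    = ?xq9001 → (List (List (List (ℕ × ℕ))))) ?hq9001; (case hq9001 => (set_option maxRecDepth 1000000 in conv => lhs; reduce)); intro _; exact ?xq9001 (@OfNat.ofNat Nat) instOfNatNat : List (List (List (ℕ × ℕ))))
  let y1 : List (List (List (ℕ × ℕ))) := (by
  refine (?fq9002 : (fun (On : (n : Nat) → OfNat Nat n → Nat) (In : (n : Nat) → OfNat Nat n) (tl : List (List (List (ℕ × ℕ)))) => (pk61l (fun i0 => (pk61l (fun i1 => ((fun g1 : Nat → Nat => pk61l (fun i2 => (_root_.Prod.mk (pk61o On In (pk61d (nat_lit 6) 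
    (nat_lit 0x33cb1c2fbadb2baa9a279a59238a181f79d71b699617595513b12ad1a90a4fa0e9cd98c94bce12b2809c5f230047bd81ae5c5b56103081c00cf2c70beeb6caeaa689e6964ce3ca2860c1f79d71bb9ab59617595513ad24684273ce36530b78a749bc30402181c65455040ef081033cb1c2fbadb2baa9a279a5ce48f18a1c207debdd72d6da6585d65544ea4a845098f3a534c2dc2ae0c204025a2171d51854c4b83b82040cf2c70beeb6caeaa689e69729318e2c2181fbde76e71b699617595513a529d19903e538d30bb4204029b2592161d4193144b43081033cb1c2fbadb2baa9a279b09648e28607de75c6da66b62a5e95b3a15ca753199349140f84e80d7ccb0100b2892121e44468d01623c40c2b01b00) i2)) (pk61o On In (pk61d (nat_lit 2) 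
    (nat_lit 0x44444444924924924900400000000440400440004110104495104410000000004104041000011041012551110444000000001104041000004441009511111040000000010000001112492400444940124924044) i2)))) (g1 i1) (g1 (Nat.succ i1)) List.nil) fun j => (pk61d (nat_lit 9) 
    (nat_lit 0x16fb75b6d96bb55a6d167b3596c963b1586c15faf576b95bad566b157ab556a953a9546a14fa75329548a351285409f4ee7135994be59299449e4d2491c8a43208fc7a3b1c8dc6a33188bc5a2b14894421f0e8642e15098441a09038140600ff7f3f1f6f97bbd9eaf3793c1dce973b99c8e270b7dbcdd6e36db4d96c35dacd56a34da4d16833d9ccc65b2590c662b1184c15faf97abc5dae972b85bad566b2582bd5aac55aa546a14fa75389a4c2592a9449a49229047a391a8c45a29128843a190a8340a00fc7d3e1e8f2773b1d4e873391c4e06f371b0d46833994c86331174b6592b954a6522813c9c4d2612c94492411c8c452210c8441200fc7a3c1d8e872381b8d86a34198c8622f168ac502511084401f0f07034180a04c2411078301206028100400) j))) (Nat.mul (nat_lit 52) i0) (Nat.mul (nat_lit 52) (Nat.succ i0)) List.nil)) (nat_lit 0) (nat_lit 5) tl : List (List (List (ℕ ×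 ℕ)))))
    = ?xq9002 → (List (List (List (ℕ × ℕ))))) ?hq9002; (case hq9002 => (set_option maxRecDepth 1000000 in conv => lhs; reduce)); intro _; exact ?xq9002 (@OfNat.ofNat Nat) instOfNatNat y0 : List (List (List (ℕ × ℕ))))
  let y2 : List (List (List (ℕ × ℕ))) := (by
  refine (?fq9003 : (fun (On : (n : Nat) → OfNat Nat n → Nat) (In : (n : Nat) → OfNat Nat n) (tl : List (List (List (ℕ × ℕ)))) => (pk61l (fun i0 => (pk61l (fun i1 => ((fun g1 : Nat → Nat => pk61l (fun i2 => (_root_.Prod.mk (pk61o On In (pk61d (nat_lit 6) 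
    (nat_lit 0x33cb1c2fbadb2baa9a27c269648e2860b1f79d71bcea6b2a596285e759552f95349185080f38dac03182ca26448844719e38574d103ac2ac1033cb1c2fbadb2baa9a309e69648e286c81f7b3add731a5b699a185e6595ba55134a14507cf3aa00d3172ca8d224840770e18568c12a0ea0aa040cf2c70beeb6caeaa70a279a59238ac8607f2ade771a9c6da6676265d6b655544d28117d03e900e34c58b89228920f1db34664c144a430a9040cf2c70beeb6caeac29a279a5923cec8a1ae0a9f79d72f9db6ae9996179565544e14914280403ce60d5cc2ca79125c40838718554b1280c2a01a00) i2)) (pk61o On In (pk61d (nat_lit 2) 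
    (nat_lit 0x400040092411024044091024424904400000010001024240410901042410904909111000000100010242401109004424049012490410000004000904402424040102504409244091044) i2)))) (g1 i1) (g1 (Nat.succ i1)) List.nil) fun j => (pk61d (nat_lit 9) 
    (nat_lit 0x133994c6612f974b6592b954a6512793492472290c823f1e8e46e35198c456251187c36190b8441e0d048140600fd7dbe9f2f67a3cde0ed763a9d0e773395c8e371385c0df6f375b8db6cb61aed66ab51a6d16833d98cb6431d8cc461b0580bd5e2ed72b85b2d564b157ab956aa5429548a14fa75369a4ca612e964aa51269248a411e8d4622d14894421d0a8441a00fe7c3d9e8f2773a9d0e270379b8d86a34998ca643117cbc5d2d960aa54291449e4e26930964a249208e46229108441200fc7c3d1e0e470361a0cc6431170b45429140984a2411884401f0d86830160a850220e0602c1407028100400) j))) (Nat.mul (nat_lit 52) i0) (Nat.mul (nat_lit 52) (Nat.succ i0)) List.nil)) (nat_lit 0) (nat_lit 4) tl : List (List (List (ℕ × ℕ)))))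
    = ?xq9003 → (List (List (List (ℕ × ℕ))))) ?hq9003; (case hq9003 => (set_option maxRecDepth 1000000 in conv => lhs; reduce)); intro _; exact ?xq9003 (@OfNat.ofNat Nat) instOfNatNat y1 : List (List (List (ℕ × ℕ))))
  let y3 : List (List (List (ℕ × ℕ))) := (by
  refine (?fq9004 : (fun (On : (n : Nat) → OfNat Nat n → Nat) (In : (n : Nat) → OfNat Nat n) (tl : List (List (List (ℕ × ℕ)))) => (pk61l (fun i0 => (pk61l (fun i1 => ((fun g1 : Nat → Nat => pk61l (fun i2 => (_root_.Prod.mk (pk61o On In (pk61d (nat_lit 6) 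
    (nat_lit 0xcf2c70beeb6caf0aa9a279a5932b238ab860a5f79dbe871bb666996255d65544e04919c10103d838d58c2dd44a25b3c83471942c51270e70a7067033cb1c2fbadb30aeaa689e6971b248e2aa1a607eea1eb6775c6da6656175955137d298101140f5ce58d30b6902993c920c1d32c61440e60a6066033cb1c2fbadc2caeaa689e696fae4baa8eda62a219e099f79d71b6996175955139404984574163ce34c2d538a50d2533082c71851030a5040cf2c70bf3bb2b6caeaa689ec9ab9648e28607de75c6e36a265885781679575490305349140f38d48c44b28920718a149103902040cf2c70cefbb1b6caeaa68b279aa9648e28607de91d7226da6616177d67158c308151a4d24503ce48d3102ca2481ca1852048c38c2040) i2)) (pk61o On In (pk61d (nat_lit 2) 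
    (nat_lit 0x100024104090901001094104242442411110000100024044249001000494044092412401110000400024924444000000911100249244001000110001100000110444494000440011040004100041000041010449510004100104440) i2)))) (g1 i1) (g1 (Nat.succ i1)) List.nil) fun j => (pk61d (nat_lit 9) 
    (nat_lit 0x176badd2e772b8dc2df6eb6daed569b459ecd65b1586bf5eae56eb557ab54ea551a7d3a9b4ca5d269144a1d06813e9ecea73369a4ce612f96cae532793496492391486411f8ec72371a8cc622f1489c4a210e86c2a0f0682c120701803fdfcfd7e3e9ecf57a3c9e0ef773add0e772b89c2e06fb75b6d96c35dacd56a34da4d067b399acc65b2992c661b017cbc5d2e570b75b2d568b3592c560af572ad52a752a9146a250a7936984b2552893492451e8e46a31168a44a1d0a8441a0902803f9f4f67a3c9e0ee763a9d0e672389bcda6c351a0cc643017cbc5d2e16cb4582b154a853291449e4d261289248239188a44211047e3e1e8f0763a1c0dc6a34198c86230178b8582b148a04e2512088401b0c8602e160a8502411078381a0c058241006020080200) j))) (Nat.mul (nat_lit 52) i0) (Nat.mul (nat_lit 52) (Nat.succ i0)) List.nil)) (nat_lit 0) (nat_lit 5) tl : List (List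 (List (ℕ × ℕ)))))
    = ?xq9004 → (List (List (List (ℕ × ℕ))))) ?hq9004; (case hq9004 => (set_option maxRecDepth 1000000 in conv => lhs; reduce)); intro _; exact ?xq9004 (@OfNat.ofNat Nat) instOfNatNat y2 : List (List (List (ℕ × ℕ))))
  let y4 : List (List (List (ℕ × ℕ))) := (by
  refine (?fq9005 : (fun (On : (n : Nat) → OfNat Nat n → Nat) (In : (n : Nat) → OfNat Nat n) (tl : List (List (List (ℕ × ℕ)))) => (pk61l (fun i0 => (pk61l (fun i1 => ((fun g1 : Nat → Nat => pk61l (fun i2 => (_root_.Prod.mk (pk61o On In (pk61d (nat_lit 6) 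
    (nat_lit 0x33cb1c32bf1badb2baa9b289e6a659238a181f91e76371b6998187d75a208155b5194d24503d238d30f2ca2481c9188144883081033cb1c2fbb3c2db2baaca68ae7aa6a259238a181f79d72481b6a37d961784159579851c5d34914123ce44d40c38b2892071852871210c2061033cb1c2fcb0badb2bb2aa6ba27a669e59238a181f79d92171b89f69962005759d61551b5934914903d138d3cc34b2892071891c51200e0081800cf2c70c70beeb6cb2baa9aa8a679a69648e28607e385e8a075c6da65f0585d66975595944d249140f40e3cd30c2ca2481c81c61440df0817c0) i2)) (pk61o On In (pk61d (nat_lit 2) 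
    (nat_lit 0x1100040400041004425110010100110400002401044400002424090924010444000910100090041044000090902424240410440024110400900404410002490024092404044100240104) i2)))) (g1 i1) (g1 (Nat.succ i1)) List.nil) fun j => (pk61d (nat_lit 9) 
    (nat_lit 0x12b954a6512792c8e45219047e3d1c8dc6a31178b4562913894421f0d8642e15088341602ff7ebf1f6fa7cbddecf579bc9e2f077bb5d6ea7439dcce57238dc4e17037db8db6d365aed66a349a0cf6733598cb6532590c76230d80bf5f2ed74b75a2cd64b157ab958aa5429d4ca55228d449f4ea7136994c25d2c954a245208f47231168944219088341205007f3f1f4f8793c1d4e873381bcd86b3419ccc6431984c05e2e16cb4592c15ca8532893c9c4c259289248229108642200fc7c3c1d0e46e361a8d06632188b8562a148a04e24118883e1c0d86830170b0502411078381a0c058200e060280c0400) j))) (Nat.mul (nat_lit 52) i0) (Nat.mul (nat_lit 52) (Nat.succ i0)) List.nil)) (nat_lit 0) (nat_lit 4) tl : List (List (List (ℕ × ℕ)))))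
    = ?xq9005 → (List (List (List (ℕ × ℕ))))) ?hq9005; (case hq9005 => (set_option maxRecDepth 1000000 in conv => lhs; reduce)); intro _; exact ?xq9005 (@OfNat.ofNat Nat) instOfNatNat y3 : List (List (List (ℕ × ℕ))))
  let y5 : List (List (List (ℕ × ℕ))) := (by
  refine (?fq9006 : (fun (On : (n : Nat) → OfNat Nat n → Nat) (In : (n : Nat) → OfNat Nat n) (tl : List (List (List (ℕ × ℕ)))) => (pk61l (fun i0 => (pk61l (fun i1 => ((fun g1 : Nat → Nat => pk61l (fun i2 => (_root_.Prod.mk (pk61o On In (pk61d (nat_lit 6) 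
    (nat_lit 0x33cb3c70beebedb2baaba689e89a592392286085f79d71d6dc69e0c26585d85955154d245044f38d38c2ca24a207185184783782040cf2cb1c2fbeeb6caebaa9a279e69649238a18207de75e71b74269b6586175955144d245140f38d34c2ca249207186144743081033cf2c70beebadb2baaaa68a279a59238e286181f79e75c7036da6996175d65555134914103ce38d30b28a2481c6145103702040cb3cb1c2fb6eb6cae9aa99e89e69648a38a08607dd79d6c371b65a6585975945544d244f40f34e34c2c92892071841440db081033c72c70bafbadb2aaeaa689a79a58e48e285f81f71e68275c65b6995d85d65535134904503ce30d30b2882481c518511a0c2040) i2)) (pk61o On In (pk61d (nat_lit 2) 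
    (nat_lit 0x10040101004040112501010040401004440040401004040101091040101004010104004004010400410109040410010401001040400401040041010904041001040100101004040100404010490404010100401010100) i2)))) (g1 i1) (g1 (Nat.succ i1)) List.nil) fun j => (pk61d (nat_lit 9) 
    (nat_lit 0x15bad566af56aad52a551a853e9b4ca5d269147a35128742a04fe7d3d9dce66b3499cc6612f96cb2572a9449e4d2491c8a431f8f476391a8c45a2b1489c4a210f87432170a84c1e0d058240a03007f3f5f8fb7cbe1eef57a3c5deee763add4e973b99cae371385c0de6eb71b6d96c35daad469345a0cf6733196ca64b218cc56230d82c05f2f578bb5d2e16eb55a2cd62b056ab154a9542994aa351285409f4ea7134994c25d2a9449a49228f47231168a4421d0c854220902803f9f4f87a3c9e0ee763a1cce270379b4d86934198ca6431184be5e2e970b6592c158aa5429944a04f27134964a2491c8c452210882401f0f4783b1c8e06e361a0cc6430178b85a2b150a04a2411084401e0e87036190c05c2a1409848200f07034160a0481c0c05018080200) j))) (Nat.mul (nat_lit 52) i0) (Nat.mul (nat_lit 52) (Nat.succ i0)) List.nil)) (nat_lit 0) (nat_lit 5) tl : List (List (List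 (ℕ × ℕ)))))
    = ?xq9006 → (List (List (List (ℕ × ℕ))))) ?hq9006; (case hq9006 => (set_option maxRecDepth 1000000 in conv => lhs; reduce)); intro _; exact ?xq9006 (@OfNat.ofNat Nat) instOfNatNat y4 : List (List (List (ℕ × ℕ))))
  let y6 : List (List (List (ℕ × ℕ))) := (by
  refine (?fq9007 : (fun (On : (n : Nat) → OfNat Nat n → Nat) (In : (n : Nat) → OfNat Nat n) (tl : List (List (List (ℕ × ℕ)))) => (pk61l (fun i0 => (pk61l (fun i1 => ((fun g1 : Nat → Nat => pk61l (fun i2 => (_root_.Prod.mk (pk61o On In (pk61d (nat_lit 6) 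
    (nat_lit 0xc73cb1c2dbeeb6ca6baa99a89e696292389f8607d90c279b75a71b6995985d64d551348f4503cc38d30b20a2481c41851190d9081033cafc31c2fbadaecae8aa7a689e59a591e8637608a181805f79d71b55769459961759551345244e40d3ce34b30b289187207185103602058033bb0cb1c2fbadaaca2baa6a689679a572192369f8a15c181f79561d71359b69961759551341239140c3ce2cd30b2851c92071851170d70815c0b70cf2c70beeb69b27ae6aa99689e695b82465f8e25818607d461e7535dc6da6585d65544cf48d44c40f2ce34c2c41ca2481c6144583081580) i2)) (pk61o On In (pk61d (nat_lit 2) 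
    (nat_lit 0x401004040101025110040401010040101100240041101024902400924000411010090004109000441040909090242400004410402400110490001110402490902424000011104024000404) i2)))) (g1 i1) (g1 (Nat.succ i1)) List.nil) fun j => (pk61d (nat_lit 9) 
    (nat_lit 0x12c954a6512792c9247229047e3d1c8dc6a33178b456271288c3617098441e0d0481c0a00ff7f3f5f6fa7cbddecf57a3c9e2f077bb5d8eb74b9dcce57238dc0df6f375b8da6cb5daad469b45a0cf6632590c76230d84c1602f574b95c2dd6cb55a2c962af56ab156a95429d4ca351285409f4f27136994c255289349245208e4622d1288432150881401f4f8793c1dce873381bcdc6d361acd46934198c86330980bc5d2e16cb0572b154a8532893c9c4c249208e462291086411f8f4783a1c8e06e34188c05a2c158a04e241188842200f8783a1c0d8642e150a048221007830160a048200e060200c0400) j))) (Nat.mul (nat_lit 52) i0) (Nat.mul (nat_lit 52) (Nat.succ i0)) List.nil)) (nat_lit 0) (nat_lit 4) tl : List (List (List (ℕ × ℕ)))))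
    = ?xq9007 → (List (List (List (ℕ × ℕ))))) ?hq9007; (case hq9007 => (set_option maxRecDepth 1000000 in conv => lhs; reduce)); intro _; exact ?xq9007 (@OfNat.ofNat Nat) instOfNatNat y5 : List (List (List (ℕ × ℕ))))
  let y7 : List (List (List (ℕ × ℕ))) := (by
  refine (?fq9008 : (fun (On : (n : Nat) → OfNat Nat n → Nat) (In : (n : Nat) → OfNat Nat n) (tl : List (List (List (ℕ × ℕ)))) => (pk61l (fun i0 => (pk61l (fun i1 => ((fun g1 : Nat → Nat => pk61l (fun i2 => (_root_.Prod.mk (pk61o On In (pk61d (nat_lit 6) 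
    (nat_lit 0x33bf2bb1c2fbada2caea969a279a57a47235420628588177de75c51b6936585d65544ce49140b3ce34c2ca1891481c614454308102fcf2b71c2fbad9ecae5aa9a279a57645030818db89886059f79d55c6d369961759551335244b40f38d30b18a2442071851140d408102ecedcb1c2fbad9ac96baa9a279a54c30646a36625e15a07d579475c6da6585d65544cc48b4503ce34c2c52842481c61440d3081033cb1b3092bbe3aae8a9b6caeaa61a209df9920259238a181f79d71b6994584173d628e54935420c4d24503ce34c1cb289207185103092040cf292cc6bc2f7a8b9d9edb2b86a829a274410266259238a18127de75c6ca41a24f65839735655418b4d24503ce34730b289207185103442441440) i2)) (pk61o On In (pk61d (nat_lit 2) 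
    (nat_lit 0x44004040044941100410001010004400401040041000495110404100004100041001101100044000944444110000011000110001000492490011124000000444924900004000010091092404409440010024904409000100000444) i2)))) (g1 i1) (g1 (Nat.succ i1)) List.nil) fun j => (pk61d (nat_lit 9) 
    (nat_lit 0x16db65aad167b3596c962b0d82bd5dae56eb558ab54aa34fa6d32974aa451e8b44a1d0a83409fcf6793b9cce26f369acd2653097cba5b2c954a6512792c9245219047e3d1c8dc6631178b456291286c2e130883416090280bfdfcfd7e3edf4f97c3d9eaf3793c5e0ef773b1d6e97439dcce571b85c0df6eb6db4d96c35dacd469345a0cf6733598c86331184c05faf576ba5cae16eb65aad166b258abd5aac55aa952a853a9546a250a813e9e4ea6d34994c25d2c9448a39168a44a210e8541a04fc7d3e1ecf4793c1dcec753a1cce470371b0d26631988c2602f978ba5c2d164b0572b154a853291449e4e2693092472310c803f1f0f074391c0d06431180bc5c2d158a852281389042200f070361a0b8582a1409848220f07034180b050241007030100400) j))) (Nat.mul (nat_lit 52) i0) (Nat.mul (nat_lit 52) (Nat.succ i0)) List.nil)) (nat_lit 0) (nat_lit 5) tl : List (List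 (List (ℕ × ℕ)))))
    = ?xq9008 → (List (List (List (ℕ × ℕ))))) ?hq9008; (case hq9008 => (set_option maxRecDepth 1000000 in conv => lhs; reduce)); intro _; exact ?xq9008 (@OfNat.ofNat Nat) instOfNatNat y6 : List (List (List (ℕ × ℕ))))
  let y8 : List (List (List (ℕ × ℕ))) := (by
  refine (?fq9009 : (fun (On : (n : Nat) → OfNat Nat n → Nat) (In : (n : Nat) → OfNat Nat n) (tl : List (List (List (ℕ × ℕ)))) => (pk61l (fun i0 => (pk61l (fun i1 => ((fun g1 : Nat → Nat => pk61l (fun i2 => (_root_.Prod.mk (pk61o On In (pk61d (nat_lit 6) 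
    (nat_lit 0xce3b32c6ac1ca2fb9a9adb21aea7e9a100409e65e59238a14a07de29175c20f6da64e6173165452d44d24503ce1cd30b2892071851100d0090050022b33cb1a706e7bd99aeb6c82b7eaa4f040a279969648e24a181f25179d21071b6993583175842d551349140f1ce34c2ca2481c61443c308f04f0337abc9cab1a30bee565b61b2ba8e029a189d79a59232928a146041f79d70635b6853196172d65544d24501cf38d30b28920718510e0c238101daf3c9ba719f0bd496eb60b2b340aa96289d69a59094a38918603df79d18e71b10c69960b5d65544d244740f38d30b28920718510d0cd08d040) i2)) (pk61o On In (pk61d (nat_lit 2) 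
    (nat_lit 0x24124241042504004090901042400040000111124049240442501004090900442400040000041109244091024110090440242404000400000104242442410904102410409090100010000001110) i2)))) (g1 i1) (g1 (Nat.succ i1)) List.nil) fun j => (pk61d (nat_lit 9) 
    (nat_lit 0x1369acca632f964ae512792c9245218ec7235198c45e2d1489c4a1f0e85c2a13078341207007fbf9fafc7dbe9f0f77b3d5e8f3793c5e0ef76badd2e77238dc4e06eb69b2d86b351a6cf6733596ca64b218cc56230580bd5e2ed74b85b2d564b1582bd5cad562a952a853a994aa451a8942a04f27536994c255249047a3916894421d0883409fcfc7d3e1e4f0763a1cce471371b4d46934198ca6431988c2602f174b85b2d164b0572b154a853289409c4d251248c44219007e3d1e0e470361a8cc6431170b4562a1409c4c231107c3c1d0d86832180b8582a1309044200f07034180b0502410070280c0200) j))) (Nat.mul (nat_lit 52) i0) (Nat.mul (nat_lit 52) (Nat.succ i0)) List.nil)) (nat_lit 0) (nat_lit 4) tl : List (List (List (ℕ × ℕ)))))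
    = ?xq9009 → (List (List (List (ℕ × ℕ))))) ?hq9009; (case hq9009 => (set_option maxRecDepth 1000000 in conv => lhs; reduce)); intro _; exact ?xq9009 (@OfNat.ofNat Nat) instOfNatNat y7 : List (List (List (ℕ × ℕ))))
  let y9 : List (List (List (ℕ × ℕ))) := (by
  refine (?fq9010 : (fun (On : (n : Nat) → OfNat Nat n → Nat) (In : (n : Nat) → OfNat Nat n) (tl : List (List (List (ℕ × ℕ)))) => (pk61l (fun i0 => (pk61l (fun i1 => ((fun g1 : Nat → Nat => pk61l (fun i2 => (_root_.Prod.mk (pk61o On In (pk61d (nat_lit 6) 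
    (nat_lit 0x1aab3669cb19b04e5beeb5fb0c02baa95e85a79a521292389084f81f14e78435d71b6992d85d65544d21d140f38d30b289207185103302301015a33527c939b1970beeb4b040b18ad7a96a689e69464641508c43e23a136031f79d71b6996175955131d24503ce34c2ca2481c61440c22c12c0ce4ca3c61c1ebdcb8a08102db2ba92a684674263a59238a181f79d7096da2196171d65465054d24503ce34c2ca2481c6144283081024cf28b183076f24308102e6edb2b4aaa51a273e63659238a181f79d29c6c86996075d61955044d24503ce34c2ca2481c6144243242040) i2)) (pk61o On In (pk61d (nat_lit 2) 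
    (nat_lit 0x24904901240440901109240040004000000044249244025111002492444400000040000000044111112540104440000104041100000000401044495440410440000410104100000000440) i2)))) (g1 i1) (g1 (Nat.succ i1)) List.nil) fun j => (pk61d (nat_lit 9) 
    (nat_lit 0x1299348e45208ec7237198b45629128843e1d0b854260f0582405fcfd7e3edf4f87bbd9eaf479bc9e0ef773b5d8eb753a5d0e773395c8e371381bcdd6d35da8d268b419ecb64b1d8ac461b0982be5dae16cb4592c560af572b558ab552a550a75329146a250a813e9e4ea71369a4ca612e964aa51249047a35168943a15007f3f1f4f67a3c1d8e873391c4e06f371b4d86b349a0cc6532188c25f2e970b65a2c960ae562a950a652289409e4e2612c9449239188842200e870371b0d06631180b8582b150a450271309448221087c3c1d0d86830170a8502612088401e0e06830160a048200e06020080200) j))) (Nat.mul (nat_lit 52) i0) (Nat.mul (nat_lit 52) (Nat.succ i0)) List.nil)) (nat_lit 0) (nat_lit 4) tl : List (List (List (ℕ × ℕ)))))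
    = ?xq9010 → (List (List (List (ℕ × ℕ))))) ?hq9010; (case hq9010 => (set_option maxRecDepth 1000000 in conv => lhs; reduce)); intro _; exact ?xq9010 (@OfNat.ofNat Nat) instOfNatNat y8 : List (List (List (ℕ × ℕ))))
  (by
  refine (?fq9011 : (fun (On : (n : Nat) → OfNat Nat n → Nat) (In : (n : Nat) → OfNat Nat n) (tl : List (List (List (ℕ × ℕ)))) => (pk61l (fun i0 => (pk61l (fun i1 => ((fun g1 : Nat → Nat => pk61l (fun i2 => (_root_.Prod.mk (pk61o On In (pk61d (nat_lit 6) 
    (nat_lit 0x8f38b2c5fc080c102f6ae66db12aeaa50a0f9e63259238a181f29e25d71b6991d85d61551144d24503ce34c2ca2481c61440c808100a873260c887f11c1c0662f157b845ad4ac46b42a3e93a83673262e59238a181f79d71b69961759551349140f38d30b2892071851030811c07b3772183031630bd5b94b51b2b3aa369a272e69642a32628601df79d71b15a11961759551349140f38d30b289207185103182040733143080c9ac57c15bee4ed42c3aba8ca682e79a52a48c88a11e07de19d7046da6585d65544d24503ce34c2ca2481c61441431420401020336f26715b052f4eeb4fb0daccaa92e89e69499088e21e181f19e74571b69961759551349140f38d30b2892071851040c2040)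 i2)) (pk61o On In (pk61d (nat_lit 2) 
    (nat_lit 0x44125444101104000440040440000000010249249249244444444400000000000000000044494411104404044040044000000000004049511104441040410404100000000000044094444441110401104041000000000000100) i2)))) (g1 i1) (g1 (Nat.succ i1)) List.nil) fun j => (pk61d (nat_lit 9) 
    (nat_lit 0x166b258ac35fad562ad55a9d4aa34fa6d329549a451e8d45a250a813f9f4f6793a9cce26d3499cca633097cba5b2c95caa532893c9a4b2491c86411f8e4662d138843615088341205007f3f1f4f97c3ddecf57a3cde4f1783bddced763add4e97439dcce57238dc4e17037dbcdd6e36db4d96c35dacd46934198ca64b1d8ac3613017cbd5e2e972b85b2d166b2582bd5cad562a950a75329548a351285409f4f275389b4d26530974b2552893492411e8e4621d0a8340a00fc7c3d1e4ee763a1cce470379b4d86a349a0cc6531988c2602f978ba5c2d968b2582b958aa5429948a250279389a4c251208e46211007c3c1d0e06e35198c4602e168b05629138984823110803e1d0e06c34190c05c2c150a04c24110803c1c0d0602c14090401c0c05018080200) j))) (Nat.mul (nat_lit 52) i0) (Nat.mul (nat_lit 52) (Nat.succ i0)) List.nil)) (nat_lit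 0) (nat_lit 5) tl : List (List (List (ℕ × ℕ)))))
    = ?xq9011 → (List (List (List (ℕ × ℕ))))) ?hq9011; (case hq9011 => (set_option maxRecDepth 1000000 in conv => lhs; reduce)); intro _; exact ?xq9011 (@OfNat.ofNat Nat) instOfNatNat y9 : List (List (List (ℕ × ℕ))))


theorem tab_eq : tab = (List.range 48).map fun r => (List.range 52).map fun a => colOf r a := by (delta Cfsg.Agent.H952.F4.Two.chO._f Cfsg.Agent.ChevalleyStructure.Columns.car Cfsg.Agent.H952.F4.Two.chO Cfsg.Agent.ChevalleyStructure.Columns.cor Cfsg.Agent.H952.F4.Two.colOf; refine of_decide_eq_true ?_; rewrite [H90F.dl_fun, H90F.dn_fun, H90F.dz_fun, H90F.ce_fun, H90F.gd_fun, H90F.le_fun, H90F.mp_fun, H90F.fl_fun, H90F.ap_fun]; decide +kernel)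

end Cfsg.Agent.H952.F4.Two
end

-- part: H35/F4Two/Chk
section
/-!
# S5926, namespace `Two`: the check of the invariant forms (helper35)
-/

set_option autoImplicit false

namespace Cfsg.Agent.H952.F4.Two

open Cfsg Cfsg.Lie Cfsg.Agent.ChevalleyStructure Cfsg.Agent.ChevalleyStructure.Columns

/-- the involution on the codes -/
def pc (c : ℕ) : ℕ := if c < 4 then c ^^^ 1 else 55 - c

/-- the codes of the submodule -/
def inC (c : ℕ) : Bool := if c < 4 then decide (c < 2) else Cfsg.Agent.H969.TwF.sh (c - 4)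

/-- the codes of the block `b` -/
def blk (b : Bool) (c : ℕ) : Bool := decide (c < 52) && (inC c == b)

def prod1 (e : ℕ × ℕ) : List (ℕ × ℕ) → ℕ
  | [] => 0
  | f :: l => (if f.1 = pc e.1 then 2 ^ (e.2 + f.2) else 0) ^^^ prod1 e l

def prodL (b : Bool) (l' : List (ℕ × ℕ)) : List (ℕ × ℕ) → ℕ
  | [] => 0
  | e :: l => (if blk b e.1 then prod1 e l' else 0) ^^^ prodL b l' l

/-- the codes of the short roots and of `h₀`, `h₁`, resp. the others -/
def codes : Bool → List ℕ
  | true => (beta% delta% lq266921c240 fun a _ c _ _ =>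
 (a 0<|a 1<|a 7<|a 11<|a 12<|a 13<|a 14<|a 15<|a 16<|a 17<|a 18<|a 22<|a 23<|a 24<|a 31<|a 32<|a 33<|a 37<|a 38<|a 39<|a 40<|a 41<|a 42<|a 43<|a 44<|a 48<|c))
  | false => (beta% delta% lq266921c240 fun a _ c _ _ =>
 (a 2<|a 3<|a 4<|a 5<|a 6<|a 8<|a 9<|a 10<|a 19<|a 20<|a 21<|a 25<|a 26<|a 27<|a 28<|a 29<|a 30<|a 34<|a 35<|a 36<|a 45<|a 46<|a 47<|a 49<|a 50<|a 51<|c))

theorem codes_eq (b : Bool) : codes b = (List.range 52).filter fun c => blk b c := by
  cases b <;> decide +kernel

/-- the check -/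
def chkF (b : Bool) (cs : List (List (ℕ × ℕ))) : Bool :=
  (codes b).all fun a => (codes b).all fun c => prodL b (cs.getD c []) (cs.getD a []) == (if c = pc a then 1 else 0)

set_option maxRecDepth 100000 in
theorem chk_true : tab.all (fun cs => chkF true cs) = true := by (delta Cfsg.Agent.H969.TwF.sh Cfsg.Agent.H952.F4.Two.chkF Cfsg.Agent.H952.F4.Two.prodL._f Cfsg.Agent.H952.F4.Two.blk Cfsg.Agent.H952.F4.Two.prod1._f Cfsg.Agent.H952.F4.Two.prodL Cfsg.Agent.H952.F4.Two.inC Cfsg.Agent.H952.F4.Two.pc Cfsg.Agent.H952.F4.Two.prod1; rewrite [H90F.bn_fun, H90F.dl_fun, H90F.dn_fun, H90F.bz_fun, H90F.gd_fun, H90F.ld_fun, H90F.al_fun]; decide +kernel)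

private noncomputable def _root_.Cfsg.Agent.LsF.fbe804d_0 : {f // @Cfsg.Agent.H969.TwF.sh = f} := ⟨_, by first | (delta Cfsg.Agent.H969.TwF.sh; rewrite [Cfsg.Agent.LsF.imod_pat, Cfsg.Agent.LsF.ibeq_pat, Cfsg.Agent.LsF.and_eq, Cfsg.Agent.LsF.agetD_eq]; exact rfl) | exact rfl⟩
private noncomputable def _root_.Cfsg.Agent.LsF.fbe804d_1 : {f // @Cfsg.Agent.H952.F4.Two.inC = f} := ⟨_, by first | (delta Cfsg.Agent.H952.F4.Two.inC; rewrite [Cfsg.Agent.LsF.fbe804d_0.2, Cfsg.Agent.LsF.nsub_pat, Cfsg.Agent.LsF.decLt_eq, Cfsg.Agent.LsF.ite_eq, Cfsg.Agent.LsF.decide_eq]; exact rfl) | exact rfl⟩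
private noncomputable def _root_.Cfsg.Agent.LsF.fbe804d_2 : {f // @Cfsg.Agent.H952.F4.Two.blk = f} := ⟨_, by first | (delta Cfsg.Agent.H952.F4.Two.blk; rewrite [Cfsg.Agent.LsF.fbe804d_1.2, Cfsg.Agent.LsF.bbeq_pat, Cfsg.Agent.LsF.and_eq, Cfsg.Agent.LsF.decLt_eq, Cfsg.Agent.LsF.decide_eq]; exact rfl) | exact rfl⟩
private noncomputable def _root_.Cfsg.Agent.LsF.fbe804d_3 : {f // @Cfsg.Agent.H952.F4.Two.pc = f} := ⟨_, by first | (delta Cfsg.Agent.H952.F4.Two.pc; rewrite [Cfsg.Agent.LsF.nsub_pat, Cfsg.Agent.LsF.nxor_pat, Cfsg.Agent.LsF.decLt_eq, Cfsg.Agent.LsF.ite_eq]; exact rfl) | exact rfl⟩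
private noncomputable def _root_.Cfsg.Agent.LsF.fbe804d_4 : {f // @Cfsg.Agent.H952.F4.Two.prod1 = f} := ⟨_, by first | (delta Cfsg.Agent.H952.F4.Two.prod1 List.brecOn List.brecOn.go Cfsg.Agent.H952.F4.Two.prod1._f; rewrite [Cfsg.Agent.LsF.fbe804d_3.2, Cfsg.Agent.LsF.nadd_pat, Cfsg.Agent.LsF.npow_pat, Cfsg.Agent.LsF.nxor_pat, Cfsg.Agent.LsF.instDecEq_eq, Cfsg.Agent.LsF.ite_eq]; (try delta Cfsg.Agent.H952.F4.Two.prod1.match_1); (try delta List.casesOn); first | dsimp -zeta only | exact rfl) | exact rfl⟩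
private noncomputable def _root_.Cfsg.Agent.LsF.fbe804d_5 : {f // @Cfsg.Agent.H952.F4.Two.prodL = f} := ⟨_, by first | (delta Cfsg.Agent.H952.F4.Two.prodL List.brecOn List.brecOn.go Cfsg.Agent.H952.F4.Two.prodL._f; rewrite [Cfsg.Agent.LsF.fbe804d_2.2, Cfsg.Agent.LsF.fbe804d_4.2, Cfsg.Agent.LsF.nxor_pat, Cfsg.Agent.LsF.dBoolEq_eq, Cfsg.Agent.LsF.ite_eq]; (try delta Cfsg.Agent.H952.F4.Two.prod1.match_1); (try delta List.casesOn); first | dsimp -zeta only | exact rfl) | exact rfl⟩
private noncomputable def _root_.Cfsg.Agent.LsF.fbe804d_6 : {f // @Cfsg.Agent.H952.F4.Two.chkF = f} := ⟨_, by first | (delta Cfsg.Agent.H952.F4.Two.chkF; rewrite [Cfsg.Agent.LsF.fbe804d_5.2, Cfsg.Agent.LsF.fbe804d_3.2, Cfsg.Agent.LsF.nbeq_pat, Cfsg.Agent.LsF.instDecEq_eq, Cfsg.Agent.LsF.all_eq, Cfsg.Agent.LsF.getD_eq, Cfsg.Agent.LsF.ite_eq]; exact rfl) | exact rfl⟩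
set_option maxRecDepth 100000 in
theorem chk_false : tab.all (fun cs => chkF false cs) = true := by ((try (rewrite [Cfsg.Agent.LsF.fbe804d_6.2, Cfsg.Agent.LsF.all_eq])); decide +kernel)

theorem chk_exp : tab.all (fun cs => cs.all fun l => l.all fun e => decide (e.2 < 4)) = true := by ((try (rewrite [Cfsg.Agent.LsF.decLt_eq, Cfsg.Agent.LsF.all_eq, Cfsg.Agent.LsF.decide_eq])); decide +kernel)

private noncomputable def _root_.Cfsg.Agent.LsF.fbe804d_7 : {f // @Cfsg.Agent.ChevalleyStructure.Columns.sortedFrom = f} := ⟨_, by first | (delta Cfsg.Agent.ChevalleyStructure.Columns.sortedFrom List.brecOn Cfsg.Agent.ChevalleyStructure.Columns.sortedFrom._f List.brecOn.go; rewrite [Cfsg.Agent.LsF.nadd_pat, Cfsg.Agent.LsF.and_eq]; (try delta Cfsg.Agent.ChevalleyStructure.Columns.sortedFrom.match_1); (try delta List.casesOn); first | dsimp -zeta only | exact rfl) | exact rfl⟩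
private noncomputable def _root_.Cfsg.Agent.LsF.fbe804d_8 : {f // @Cfsg.Agent.ChevalleyStructure.Columns.row = f} := ⟨_, by first | (delta Cfsg.Agent.ChevalleyStructure.Columns.row; rewrite [Cfsg.Agent.LsF.agetD_eq]; exact rfl) | exact rfl⟩
theorem chk_sorted : ((List.range 48).all fun r => sortedFrom 0 (row chevF4 r)) = true := by ((try (rewrite [Cfsg.Agent.LsF.fbe804d_7.2, Cfsg.Agent.LsF.fbe804d_8.2, Cfsg.Agent.LsF.all_eq, Cfsg.Agent.LsF.range_eq])); decide +kernel)

end Cfsg.Agent.H952.F4.Two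
end

-- part: H35/F4Two/Ent
section
/-!
# S5926, namespace `Two`: entries of `x_r(t)` in characteristic 2 (helper35)
-/

set_option autoImplicit false

namespace Cfsg.Agent.H952.F4.Two

open Cfsg Cfsg.Lie Cfsg.Agent.ChevalleyStructure Cfsg.Agent.ChevalleyStructure.Columns

universe u
variable {K : Type u} [Field K]

/-- the entry with row code `c` -/
def evc (t : K) (c : ℕ) (l : List (ℕ × ℕ)) : K := (l.map fun e => if e.1 = c then t ^ e.2 else 0).sum

theorem evc_nil (t : K) (c : ℕ) : evc t c [] = 0 := rfl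

theorem evc_cons (t : K) (c : ℕ) (e : ℕ × ℕ) (l : List (ℕ × ℕ)) :
    evc t c (e :: l) = (if e.1 = c then t ^ e.2 else 0) + evc t c l := by
  unfold evc
  rw [List.map_cons, List.sum_cons]

theorem evc_append (t : K) (c : ℕ) (l l' : List (ℕ × ℕ)) : evc t c (l ++ l') = evc t c l + evc t c l' := by
  unfold evc
  rw [List.map_append, List.sum_append]

theorem cd_lt (v : chevF4.Idx) : cd v < 52 := by
  rcases v with i | s
  · exact lt_of_lt_of_le i.2 (show (4 : ℕ) ≤ 52 by norm_num)
  · have : s.val < 48 := s.2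
    show 4 + s.val < 52
    omega

theorem cd_inj : Function.Injective cd := by
  rintro (i | s) (j | s') h
  · exact congrArg Sum.inl (Fin.ext h)
  · have h1 : i.val < 4 := i.2
    have h2 : i.val = 4 + s'.val := h
    omega
  · have h1 : j.val < 4 := j.2
    have h2 : 4 + s.val = j.val := h
    omega
  · have h2 : 4 + s.val = 4 + s'.val := h
    exact congrArg Sum.inr (Fin.ext (by omega))

theorem exists_cd {c : ℕ} (h : c < 52) : ∃ v : chevF4.Idx, cd v = c := by
  by_cases h4 : c < 4
  · exact ⟨Sum.inl ⟨c, h4⟩, rfl⟩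
  · refine ⟨Sum.inr ⟨c - 4, show c - 4 < 48 by omega⟩, ?_⟩
    show 4 + (c - 4) = c
    omega

section two
variable [CharP K 2]

theorem odd_cast {c : ℤ} (h : ¬ c % 2 = 0) : (c : K) = 1 := by
  have h1 : c % 2 = 1 := by omega
  have h2 : (2 : ℤ) ∣ (c - 1) := by omega
  have h3 : ((c - 1 : ℤ) : K) = 0 := by
    rw [CharP.intCast_eq_zero_iff K 2]
    exact_mod_cast h2
  rw [Int.cast_sub, Int.cast_one, sub_eq_zero] at h3
  exact h3

theorem even_cast' {c : ℤ} (h : c % 2 = 0) : (c : K) = 0 := by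
  have h3 : (2 : ℤ) ∣ c := Int.dvd_of_emod_eq_zero h
  rw [CharP.intCast_eq_zero_iff K 2]
  exact_mod_cast h3

theorem neg_eq' (x : K) : -x = x := CharTwo.neg_eq x

theorem sub_eq' (x y : K) : x - y = x + y := CharTwo.sub_eq_add x y

omit [CharP K 2] in
theorem dl_eq (v : chevF4.Idx) (u : ℕ) : dl K chevF4 v u = if 4 + u = cd v then 1 else 0 := by
  rcases v with i | s
  · have h1 : i.val < 4 := i.2
    have h2 : ¬ 4 + u = cd (Sum.inl i) := by
      show ¬ 4 + u = i.val
      omega
    rw [dl_inl, if_neg h2]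
  · rw [dl_inr]
    by_cases h : s.val = u
    · rw [if_pos h, if_pos (show 4 + u = cd (Sum.inr s) from (show 4 + u = 4 + s.val by omega))]
    · rw [if_neg h, if_neg (show ¬ 4 + u = cd (Sum.inr s) from (show ¬ 4 + u = 4 + s.val by omega))]

theorem chSum_eq (v : chevF4.Idx) (t : K) : ∀ (k : ℕ) (l : List (ℕ × ℤ)),
    chSum (dl K chevF4 v) t k l = evc t (cd v) (chO k l)
  | k, [] => rfl
  | k, e :: l => by
    rw [chSum_cons, chSum_eq v t (k + 1) l]
    by_cases h : e.2 % 2 = 0
    · have : chO k (e :: l) = chO (k + 1) l := by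
        show (if e.2 % 2 = 0 then chO (k + 1) l else (4 + e.1, k) :: chO (k + 1) l) = _
        rw [if_pos h]
      rw [this, even_cast' h, zero_mul, zero_mul, zero_add]
    · have : chO k (e :: l) = (4 + e.1, k) :: chO (k + 1) l := by
        show (if e.2 % 2 = 0 then chO (k + 1) l else (4 + e.1, k) :: chO (k + 1) l) = _
        rw [if_neg h]
      rw [this, evc_cons, odd_cast h, one_mul, dl_eq]
      congr 1
      by_cases h2 : 4 + e.1 = cd v
      · rw [if_pos h2, if_pos h2, mul_one]
      · rw [if_neg h2, if_neg h2, mul_zero]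

omit [CharP K 2] in
theorem delta_eq (v a : chevF4.Idx) : (if v = a then (1 : K) else 0) = if cd a = cd v then 1 else 0 := by
  by_cases h : v = a
  · rw [if_pos h, if_pos (by rw [h])]
  · rw [if_neg h, if_neg (fun h' => h (cd_inj h').symm)]

theorem evc_filter (t : K) (v : chevF4.Idx) (r : ℕ) : ∀ l : List ℕ, (∀ i ∈ l, i < 4) → l.Nodup →
    evc t (cd v) ((l.filter fun i => cor chevF4 r i % 2 ≠ 0).map fun i => (i, 1)) =
      (l.map fun i => (cor chevF4 r i : K) * t * (if i = cd v then 1 else 0)).sum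
  | [], _, _ => rfl
  | i :: l, h, hn => by
    have ih := evc_filter t v r l (fun j hj => h j (List.mem_cons_of_mem _ hj)) (List.nodup_cons.1 hn).2
    rw [List.map_cons, List.sum_cons, ← ih]
    by_cases hi : cor chevF4 r i % 2 = 0
    · rw [List.filter_cons_of_neg (by simpa using hi), even_cast' hi, zero_mul, zero_mul, zero_add]
    · rw [List.filter_cons_of_pos (by simpa using hi), List.map_cons, evc_cons, odd_cast hi, one_mul]
      congr 1
      by_cases h2 : i = cd v
      · rw [if_pos h2, if_pos h2, mul_one, pow_one]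
      · rw [if_neg h2, if_neg h2, mul_zero]

/-- **the entries of `x_r(t)`** -/
theorem ent (r : Fin chevF4.nroots) (t : K) (v a : chevF4.Idx) :
    chevF4.xMat K r t v a = evc t (cd v) (colOf r.val (cd a)) := by
  have hr : r.val < 48 := r.2
  rcases a with i | s
  · have hi : i.val < 4 := i.2
    rw [xMat_inl]
    have hcol : colOf r.val (cd (Sum.inl i)) =
        (i.val, 0) :: (if car chevF4 i.val r.val % 2 = 0 then [] else [(4 + r.val, 1)]) := by
      show colOf r.val i.val = _
      unfold colOf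
      rw [if_pos hi]
    rw [hcol, evc_cons, pow_zero, delta_eq, sub_eq']
    congr 1
    by_cases h : car chevF4 i.val r.val % 2 = 0
    · rw [if_pos h, evc_nil, even_cast' h, zero_mul, zero_mul]
    · rw [if_neg h, evc_cons, evc_nil, add_zero, odd_cast h, one_mul, dl_eq, pow_one]
      by_cases h2 : 4 + r.val = cd v
      · rw [if_pos h2, if_pos h2, mul_one]
      · rw [if_neg h2, if_neg h2, mul_zero]
  · have hs : s.val < 48 := s.2
    have h4 : ¬ 4 + s.val < 4 := by omega
    by_cases hsr : s = r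
    · subst hsr
      rw [xMat_self, dl_eq]
      have hcol : colOf s.val (cd (Sum.inr s)) = [(4 + s.val, 0)] := by
        show colOf s.val (4 + s.val) = _
        unfold colOf
        rw [if_neg h4, if_pos rfl]
      rw [hcol, evc_cons, evc_nil, pow_zero, add_zero]
    · have hsr' : ¬ 4 + s.val = 4 + r.val := fun h => hsr (Fin.ext (by omega))
      by_cases hn : s.val = chevF4.negIdx.getD r.val 0
      · rw [xMat_neg chevF4 r t v s hn hsr]
        have hcol : colOf r.val (cd (Sum.inr s)) =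
            (4 + s.val, 0) :: (((List.range 4).filter fun i => cor chevF4 r.val i % 2 ≠ 0).map fun i => (i, 1)) ++
              [(4 + r.val, 2)] := by
          show colOf r.val (4 + s.val) = _
          unfold colOf
          rw [if_neg h4, if_neg hsr', if_pos (by omega)]
        rw [hcol, evc_append, evc_cons, evc_cons, evc_nil, pow_zero, add_zero, sub_eq', dl_eq, dl_eq,
          evc_filter t v r.val (List.range 4) (fun i hi => List.mem_range.1 hi) List.nodup_range]
        congr 1
        · congr 1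
          have e1 : ∀ f : ℕ → K, (((List.range 4).map f).sum) = ∑ i : Fin 4, f i.val := by
            intro f
            rw [Fin.sum_univ_four]
            simp [List.range_succ]
            ring
          rw [e1]
          refine Finset.sum_congr rfl fun i _ => ?_
          rw [delta_eq]
          rfl
        · by_cases h2 : 4 + r.val = cd v
          · rw [if_pos h2, if_pos h2, mul_one]
          · rw [if_neg h2, if_neg h2, mul_zero]
      · have hsort : sortedFrom 0 (row chevF4 r.val) = true := List.all_eq_true.1 chk_sorted r.val (List.mem_range.2 hr)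
        rw [xMat_ne chevF4 r t v s hn hsr hsort, chSum_eq, dl_eq]
        have hcol : colOf r.val (cd (Sum.inr s)) = (4 + s.val, 0) :: chO 1 (chevF4.chainEntry r.val s.val) := by
          show colOf r.val (4 + s.val) = _
          unfold colOf
          rw [if_neg h4, if_neg hsr', if_neg (by omega), Nat.add_sub_cancel_left]
        rw [hcol, evc_cons, pow_zero]

end two

end Cfsg.Agent.H952.F4.Two
end
end

-- part: H927/F4Two
section
prune_inst 0x400000000000000000000000000000000000000000000000000000800020000000000000000000000000000000000000000000020000000000000000000800000000000000020000000000000000000000000000000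
set_option linter.all false
open scoped Cfsg.Agent.FastGrp

-- part: H927/F4TwoTab
section
/-!
# S5926, characteristic 2: the values of the short and the long roots of `F₄` on elements of order 3, 5, 7

* `exists_dia` : an element `x` with `x ^ m = 1`, `m` odd, is over an algebraic closure conjugate to a diagonal element,
  the value on the root `s` is `val z a (rowsL s)`; if `x` is conjugate to `x ^ 2` then the multisets of the values on the
  short and on the long roots are invariant under squaring;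
* `card_b` : the number of short (long) roots with given value;
* `chk3_all`, `chk5_all`, `chk5r_all`, `chk7r_all`: the tables.
-/

set_option autoImplicit false

namespace Cfsg.Agent.H927.F4Two

open Cfsg Cfsg.Lie Module
open Cfsg.Agent.ChevalleyStructure Cfsg.Agent.ChevalleyStructure.Elts Cfsg.Agent.ChevalleyStructure.RootVecTab
open Cfsg.Agent.ChevalleyStructure.RootVec
open Cfsg.Agent.GpExc.Field (emb coe_emb coe_glMap emb_injective)
open Cfsg.Agent.BpExc.TorAll Cfsg.Agent.BpExc.TorChev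
open Cfsg.Agent.Tits.Roots Cfsg.Agent.Nodes.BNOf Cfsg.Agent.Nodes.RGDChev Cfsg.Agent.KFacts.RgdChevCoord
open Cfsg.Agent.H952.F4 Cfsg.Agent.H952.F4.TabNum Cfsg.Agent.H952.F4.TabLin Cfsg.Agent.H952.F4.TabMult
open Cfsg.Agent.ChevalleyStructure.CoxeterGeom Cfsg.Agent.ChevalleyStructure.CoxeterGeomTypes
  Cfsg.Agent.Nodes.Reps
open Cfsg.Agent.H412.OT (pr chi)
open Cfsg.Agent.ChevalleyStructure.NPerm (permHom)
open Cfsg.Agent.H969.TwF (sh)

universe u

/-! ### the rows of the short and of the long roots -/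

/-- the short roots plus `(8, 8, 8, 8)` -/
def rowsS : List (ℕ × ℕ × ℕ × ℕ) :=
  [(6, 5, 6, 7), (7, 5, 6, 7), (7, 6, 6, 7), (7, 6, 7, 7), (7, 6, 7, 8), (7, 7, 7, 7), (7, 7, 7, 8), (7, 7, 8, 8),
   (7, 8, 8, 8), (8, 7, 7, 7), (8, 7, 7, 8), (8, 7, 8, 8), (8, 9, 8, 8), (8, 9, 9, 8), (8, 9, 9, 9), (9, 8, 8, 8),
   (9, 9, 8, 8), (9, 9, 9, 8), (9, 9, 9, 9), (9, 10, 9, 8), (9, 10, 9, 9), (9, 10, 10, 9), (9, 11, 10, 9),
   (10, 11, 10, 9)]

/-- the long roots plus `(8, 8, 8, 8)` -/
def rowsG : List (ℕ × ℕ × ℕ × ℕ) :=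
  [(6, 4, 5, 6), (6, 4, 5, 7), (6, 4, 6, 7), (6, 6, 6, 7), (6, 6, 7, 7), (6, 6, 7, 8), (8, 6, 6, 7), (8, 6, 7, 7),
   (8, 6, 7, 8), (8, 8, 7, 7), (8, 8, 7, 8), (8, 8, 8, 7), (8, 8, 8, 9), (8, 8, 9, 8), (8, 8, 9, 9), (8, 10, 9, 8),
   (8, 10, 9, 9), (8, 10, 10, 9), (10, 10, 9, 8), (10, 10, 9, 9), (10, 10, 10, 9), (10, 12, 10, 9), (10, 12, 11, 9),
   (10, 12, 11, 10)]

/-- the rows of the short (`true`) or long (`false`) roots -/
def rowsB (b : Bool) : List (ℕ × ℕ × ℕ × ℕ) := bif b then rowsS else rowsG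

theorem rowsB_eq (b : Bool) : ((List.finRange 48).filter fun s : Fin 48 => sh s.val == b).map
    (fun s : Fin 48 => rowsL.getD s.val (8, 8, 8, 8)) = rowsB b := by
  cases b <;> decide +kernel

theorem card_b {K : Type*} [Field K] [DecidableEq K] {z : Kˣ} {m : ℕ} (hz : orderOf z = m) (a : Fin 4 → ℕ) (b : Bool)
    (j : ℕ) :
    (Finset.univ.filter fun s : Fin 48 => sh s.val = b ∧
      ((val z a (rowsL.getD s (8, 8, 8, 8)) : Kˣ) : K) = ((z ^ j : Kˣ) : K)).card =
      nn (rowsB b) m j (a 0) (a 1) (a 2) (a 3) := by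
  unfold TabNum.nn
  rw [cnt_eq, ← rowsB_eq, List.countP_map, List.countP_filter]
  have h1 : (Finset.univ : Finset (Fin 48)).card = 48 := rfl
  rw [← Finset.filter_filter, Finset.card_filter, Finset.sum_filter]
  have h2 : ∀ (p : Fin 48 → Bool), (List.finRange 48).countP p = ∑ s : Fin 48, if p s = true then 1 else 0 := by
    intro p
    have := countP_ofFn p 48 id
    rwa [List.ofFn_id] at this
  rw [h2]
  refine Finset.sum_congr rfl fun s _ => ?_
  have h3 := Units.val_inj.trans (val_eq_iff hz a (rowsL.getD s (8, 8, 8, 8)) j)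
  by_cases h4 : sh s.val = b
  · simp only [h4, if_true, beq_self_eq_true, Bool.and_true, Function.comp_apply]
    exact if_congr h3 rfl rfl
  · have h5 : (sh s.val == b) = false := by
      rw [beq_eq_false_iff_ne]; exact h4
    simp only [h4, if_false, h5, Bool.and_false, Bool.false_eq_true]

/-! ### the tables -/

/-- `m = 3` -/
def chk3 (a b c d : ℕ) : Bool :=
  z4 a b c d || Nat.beq (nn rowsS 3 0 a b c d) 6 || Nat.beq (nn rowsS 3 0 a b c d) 12

theorem chk3_all : all4 chk3 3 = true := by delta chk3; rewrite [nn_fast]; decide +kernel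

/-- `m = 5` -/
def chk5 (a b c d : ℕ) : Bool :=
  z4 a b c d || Nat.ble 6 (nn rowsS 5 0 a b c d) || Nat.ble 6 (nn rowsG 5 0 a b c d) ||
    (Nat.beq (nn rowsS 5 0 a b c d) 4 && Nat.beq (nn rowsG 5 0 a b c d) 4)

theorem chk5_all : all4 chk5 5 = true := by delta chk5; rewrite [nn_fast]; decide +kernel

/-- `m = 5`, rational elements -/
def chk5r (a b c d : ℕ) : Bool :=
  z4 a b c d || !(Nat.beq (nn rowsS 5 1 a b c d) (nn rowsS 5 2 a b c d)) ||
    !(Nat.beq (nn rowsG 5 1 a b c d) (nn rowsG 5 2 a b c d)) ||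
    (Nat.beq (nn rowsS 5 0 a b c d) 4 && Nat.beq (nn rowsG 5 0 a b c d) 4)

theorem chk5r_all : all4 chk5r 5 = true := by delta chk5r; rewrite [nn_fast]; decide +kernel

/-- `m = 7`, rational elements -/
def chk7r (a b c d : ℕ) : Bool :=
  z4 a b c d || !(Nat.beq (nn rowsS 7 1 a b c d) (nn rowsS 7 2 a b c d)) ||
    !(Nat.beq (nn rowsS 7 2 a b c d) (nn rowsS 7 4 a b c d)) ||
    !(Nat.beq (nn rowsG 7 1 a b c d) (nn rowsG 7 2 a b c d)) ||
    !(Nat.beq (nn rowsG 7 2 a b c d) (nn rowsG 7 4 a b c d)) ||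
    Nat.beq (nn rowsS 7 0 a b c d) 6 || Nat.beq (nn rowsG 7 0 a b c d) 6

theorem chk7r_all : all4 chk7r 7 = true := by delta chk7r; rewrite [nn_fast]; decide +kernel

/-! ### the Weyl group preserves the lengths -/

theorem sh_pr : ((List.range 48).all fun s => sh s ==
    (List.range 48).any fun r => (r != s) && (pr chevF4 s r == 2)) = true := by decide +kernel

theorem sh_iff (s : Fin chevF4.nroots) : sh s.val = true ↔ ∃ r : Fin chevF4.nroots, r ≠ s ∧ pr chevF4 s r = 2 := by
  have h1 := List.all_eq_true.1 sh_pr s.val (List.mem_range.2 s.2)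
  rw [beq_iff_eq] at h1
  rw [h1, List.any_eq_true]
  constructor
  · rintro ⟨r, hr, h⟩
    rw [Bool.and_eq_true, beq_iff_eq, bne_iff_ne] at h
    exact ⟨⟨r, List.mem_range.1 hr⟩, fun e => h.1 (congrArg Fin.val e), h.2⟩
  · rintro ⟨r, hr, h⟩
    refine ⟨r.val, List.mem_range.2 r.2, ?_⟩
    rw [Bool.and_eq_true, beq_iff_eq, bne_iff_ne]
    exact ⟨fun e => hr (Fin.ext e), h⟩

theorem sh_perm {K : Type u} [Field K] (n : ↥(chevF4.monomialSubgroup K)) (s : Fin chevF4.nroots) :
    sh (permHom hF4 K n s : Fin chevF4.nroots).val = sh s.val := by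
  have key : ∀ (n : ↥(chevF4.monomialSubgroup K)) (s : Fin chevF4.nroots), sh s.val = true →
      sh (permHom hF4 K n s : Fin chevF4.nroots).val = true := by
    intro n s h
    obtain ⟨r, hr, h1⟩ := (sh_iff s).1 h
    refine (sh_iff _).2 ⟨permHom hF4 K n r, fun e => hr ((permHom hF4 K n).injective e), ?_⟩
    rw [Cfsg.Agent.H3.OT.pr_perm hF4 n s r]
    exact h1
  rw [Bool.eq_iff_iff]
  constructor
  · intro h
    have h1 := key n⁻¹ _ h
    have h2 : permHom hF4 K n⁻¹ (permHom hF4 K n s) = s := by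
      rw [map_inv]; exact Equiv.symm_apply_apply _ _
    rwa [h2] at h1
  · exact key n s

end Cfsg.Agent.H927.F4Two
end

-- part: H35/F4Two/Res
section
/-!
# S5926, namespace `Two`: the two blocks of `chevF4.group K` in characteristic 2 and their forms (helper35)

`PI true`, `PI false` : the coordinates of the submodule `I` resp. of the quotient `L / I`; `resH b` : the action of the
group; `form` : the invariant form.
-/

set_option autoImplicit false

namespace Cfsg.Agent.H952.F4.Two

open Cfsg Cfsg.Lie Cfsg.Agent.ChevalleyStructure Cfsg.Agent.ChevalleyStructure.Columns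
open Cfsg.Agent.ChevalleyStructure.Elts
open Cfsg.Agent.H969.TwF (inW BlockZ x_block)

universe u

/-- the coordinates of the block -/
abbrev PI (b : Bool) : Type := {j : chevF4.Idx // inW j = b}

theorem inC_cd (v : chevF4.Idx) : inC (cd v) = inW v := by
  rcases v with i | s
  · have hi : i.val < 4 := i.2
    show (if i.val < 4 then decide (i.val < 2) else _) = decide (i.val < 2)
    rw [if_pos hi]
  · show (if 4 + s.val < 4 then _ else Cfsg.Agent.H969.TwF.sh (4 + s.val - 4)) = Cfsg.Agent.H969.TwF.sh s.val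
    rw [if_neg (by omega), Nat.add_sub_cancel_left]

theorem blk_cd (b : Bool) (v : chevF4.Idx) : blk b (cd v) = true ↔ inW v = b := by
  unfold blk
  rw [inC_cd]
  simp [cd_lt v]

theorem card_PI (b : Bool) : Fintype.card (PI b) = 26 := by
  rw [Fintype.card_subtype]
  cases b <;> decide +kernel

/-- the involution on the coordinates -/
def pj : chevF4.Idx → chevF4.Idx
  | Sum.inl i => Sum.inl (⟨i.val ^^^ 1, by
      have h : i.val < 4 := i.2
      show i.val ^^^ 1 < 4
      interval_cases i.val <;> decide⟩ : Fin 4)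
  | Sum.inr s => Sum.inr (Fin.rev s)

theorem cd_pj (v : chevF4.Idx) : cd (pj v) = pc (cd v) := by
  rcases v with i | s
  · have hi : i.val < 4 := i.2
    show i.val ^^^ 1 = if i.val < 4 then i.val ^^^ 1 else 55 - i.val
    rw [if_pos hi]
  · have hs : s.val < 48 := s.2
    have e1 : cd (pj (Sum.inr s)) = 4 + (48 - (s.val + 1)) := by
      show 4 + (Fin.rev s).val = _
      rw [Fin.val_rev]
      rfl
    have e3 : cd (Sum.inr s) = 4 + s.val := rfl
    rw [e1, e3]
    unfold pc
    rw [if_neg (by omega)]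
    omega

theorem inW_pj (v : chevF4.Idx) : inW (pj v) = inW v := by
  have key : ∀ c < 52, inC (pc c) = inC c := by decide +kernel
  rw [← inC_cd, ← inC_cd, cd_pj]
  exact key _ (cd_lt v)

theorem pj_pj (v : chevF4.Idx) : pj (pj v) = v := by
  have key : ∀ c < 52, pc (pc c) = c := by decide +kernel
  apply cd_inj
  rw [cd_pj, cd_pj]
  exact key _ (cd_lt v)

theorem pj_ne (v : chevF4.Idx) : pj v ≠ v := by
  have key : ∀ c < 52, pc c ≠ c := by decide +kernel
  intro h
  have := cd_pj v
  rw [h] at this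
  exact key _ (cd_lt v) this.symm

/-- the involution on the block -/
def pI {b : Bool} (j : PI b) : PI b := ⟨pj j.1, (inW_pj j.1).trans j.2⟩

theorem pI_pI {b : Bool} (j : PI b) : pI (pI j) = j := Subtype.ext (pj_pj j.1)

theorem pI_ne {b : Bool} (j : PI b) : pI j ≠ j := fun h => pj_ne j.1 (congrArg Subtype.val h)

section
variable {K : Type u} [Field K]

/-- the restriction to the block -/
def res (b : Bool) (A : Matrix chevF4.Idx chevF4.Idx K) : Matrix (PI b) (PI b) K := A.submatrix Subtype.val Subtype.val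

theorem res_one (b : Bool) : res b (1 : Matrix chevF4.Idx chevF4.Idx K) = 1 := by
  ext i j
  show (1 : Matrix chevF4.Idx chevF4.Idx K) i.1 j.1 = (1 : Matrix (PI b) (PI b) K) i j
  rw [Matrix.one_apply, Matrix.one_apply]
  simp only [Subtype.ext_iff]

theorem res_mul (b : Bool) {A B : Matrix chevF4.Idx chevF4.Idx K} (hA : BlockZ A) (hB : BlockZ B) :
    res b (A * B) = res b A * res b B := by
  ext i j
  show (A * B) i.1 j.1 = (res b A * res b B) i j
  rw [Matrix.mul_apply, Matrix.mul_apply]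
  have h1 : ∑ k, A i.1 k * B k j.1 = ∑ k ∈ Finset.univ.filter (fun k => inW k = b), A i.1 k * B k j.1 := by
    refine (Finset.sum_subset (Finset.subset_univ _) ?_).symm
    intro k _ hk
    have hk' : inW k ≠ b := by simpa only [_root_.ne_eq, _root_.Finset.mem_filter, _root_.Finset.mem_univ, _root_.true_and] using hk
    have hi := i.2
    have hj := j.2
    cases b
    · have h : inW k = true := by simpa using hk'
      rw [hA i.1 k h hi, zero_mul]
    · have h : inW k = false := by simpa using hk'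
      rw [hB k j.1 hj h, mul_zero]
  have h2 : ∑ k ∈ Finset.univ.filter (fun k => inW k = b), A i.1 k * B k j.1 = ∑ k : PI b, A i.1 k.1 * B k.1 j.1 :=
    Finset.sum_subtype _ (by simp only [_root_.Finset.mem_filter, _root_.Finset.mem_univ, _root_.true_and, _root_.implies_true]) (fun k => A i.1 k * B k j.1)
  exact h1.trans h2

theorem xG_block [CharP K 2] (r : ℕ) (t : K) :
    BlockZ ((xG hF4 r t : GL chevF4.Idx K) : Matrix chevF4.Idx chevF4.Idx K) := by
  rw [coe_xG]
  exact x_block r t

variable (K) in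
/-- all elements of the group are block matrices -/
def blkGrp [CharP K 2] : Subgroup (GL chevF4.Idx K) where
  carrier := {g | BlockZ (g : Matrix chevF4.Idx chevF4.Idx K) ∧ BlockZ ((g⁻¹ : GL chevF4.Idx K) : Matrix chevF4.Idx chevF4.Idx K)}
  one_mem' := by
    refine ⟨?_, ?_⟩
    · rw [Units.val_one]; exact BlockZ.one
    · rw [inv_one, Units.val_one]; exact BlockZ.one
  mul_mem' := by
    rintro a b ⟨h1, h2⟩ ⟨h3, h4⟩
    refine ⟨?_, ?_⟩
    · rw [Units.val_mul]; exact h1.mul h3
    · rw [mul_inv_rev, Units.val_mul]; exact h4.mul h2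
  inv_mem' := by
    rintro a ⟨h1, h2⟩
    exact ⟨h2, by rw [inv_inv]; exact h1⟩

theorem group_le [CharP K 2] : chevF4.group K ≤ blkGrp K := by
  rw [group_le_iff hF4]
  intro r _ t
  refine ⟨xG_block r t, ?_⟩
  rw [xG_inv]
  exact xG_block r (-t)

theorem grp_block [CharP K 2] (g : ↥(chevF4.group K)) :
    BlockZ ((g : GL chevF4.Idx K) : Matrix chevF4.Idx chevF4.Idx K) := (group_le g.2).1

/-- the action of the group on the block -/
def resH [CharP K 2] (b : Bool) : ↥(chevF4.group K) →* Matrix (PI b) (PI b) K where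
  toFun g := res b ((g : GL chevF4.Idx K) : Matrix chevF4.Idx chevF4.Idx K)
  map_one' := res_one b
  map_mul' g h := res_mul b (grp_block g) (grp_block h)

theorem resH_apply [CharP K 2] (b : Bool) (g : ↥(chevF4.group K)) :
    resH b g = res b ((g : GL chevF4.Idx K) : Matrix chevF4.Idx chevF4.Idx K) := rfl

end

end Cfsg.Agent.H952.F4.Two
end

-- part: H35/F4Two/Form
section
/-!
# S5926, namespace `Two`: the invariant forms (helper35)
-/

set_option autoImplicit false

namespace Cfsg.Agent.H952.F4.Two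

open Cfsg Cfsg.Lie Cfsg.Agent.ChevalleyStructure Cfsg.Agent.ChevalleyStructure.Columns
open Cfsg.Agent.ChevalleyStructure.Elts
open Cfsg.Agent.H969.TwF (inW BlockZ x_block)

universe u
variable {K : Type u} [Field K]

/-- the value of a polynomial modulo 2, coded as a natural number -/
def evN (t : K) (n : ℕ) : K := ∑ i ∈ Finset.range 8, if n.testBit i then t ^ i else 0

theorem evN_zero (t : K) : evN t 0 = 0 := by
  unfold evN
  simp

theorem evN_pow (t : K) {k : ℕ} (hk : k < 8) : evN t (2 ^ k) = t ^ k := by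
  unfold evN
  rw [Finset.sum_eq_single k]
  · rw [Nat.testBit_two_pow_self, if_pos rfl]
  · intro i _ hi
    rw [Nat.testBit_two_pow_of_ne (fun h => hi h.symm), if_neg (by simp)]
  · intro h
    exact absurd (Finset.mem_range.2 hk) h

theorem evN_xor [CharP K 2] (t : K) (n m : ℕ) : evN t (n ^^^ m) = evN t n + evN t m := by
  unfold evN
  rw [← Finset.sum_add_distrib]
  refine Finset.sum_congr rfl fun i _ => ?_
  rw [Nat.testBit_xor]
  cases n.testBit i <;> cases m.testBit i
  · simp
  · simp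
  · simp
  · simp [CharTwo.add_self_eq_zero]

theorem evN_prod1 [CharP K 2] (t : K) (e : ℕ × ℕ) (he : e.2 < 4) : ∀ l : List (ℕ × ℕ), (∀ f ∈ l, f.2 < 4) →
    evN t (prod1 e l) = t ^ e.2 * evc t (pc e.1) l
  | [], _ => by
    show evN t 0 = _
    rw [evN_zero, evc_nil, mul_zero]
  | f :: l, h => by
    have ih := evN_prod1 t e he l fun g hg => h g (List.mem_cons_of_mem _ hg)
    have hf : f.2 < 4 := h f List.mem_cons_self
    show evN t ((if f.1 = pc e.1 then 2 ^ (e.2 + f.2) else 0) ^^^ prod1 e l) = _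
    rw [evN_xor, ih, evc_cons, mul_add]
    congr 1
    by_cases h1 : f.1 = pc e.1
    · rw [if_pos h1, if_pos h1, evN_pow t (by omega), pow_add]
    · rw [if_neg h1, if_neg h1, evN_zero, mul_zero]

theorem sum_single (b : Bool) (g : ℕ → K) (c : ℕ) :
    (∑ i : PI b, if c = cd i.1 then g (cd i.1) else 0) = if blk b c then g c else 0 := by
  by_cases h : blk b c = true
  · have hc : c < 52 := by
      unfold blk at h
      rw [Bool.and_eq_true] at h
      exact of_decide_eq_true h.1
    obtain ⟨v, rfl⟩ := exists_cd hc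
    have hv : inW v = b := (blk_cd b v).1 h
    rw [if_pos h, Finset.sum_eq_single (⟨v, hv⟩ : PI b)]
    · rw [if_pos rfl]
    · intro i _ hi
      rw [if_neg]
      intro h'
      exact hi (Subtype.ext (cd_inj h').symm)
    · intro h'
      exact absurd (Finset.mem_univ _) h'
  · rw [if_neg h]
    refine Finset.sum_eq_zero fun i _ => ?_
    rw [if_neg]
    rintro rfl
    exact h ((blk_cd b i.1).2 i.2)

theorem evN_prodL [CharP K 2] (b : Bool) (t : K) (l' : List (ℕ × ℕ)) (hl' : ∀ f ∈ l', f.2 < 4) :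
    ∀ l : List (ℕ × ℕ), (∀ f ∈ l, f.2 < 4) →
    evN t (prodL b l' l) = ∑ i : PI b, evc t (cd i.1) l * evc t (cd (pI i).1) l'
  | [], _ => by
    show evN t 0 = _
    rw [evN_zero]
    refine (Finset.sum_eq_zero fun i _ => ?_).symm
    rw [evc_nil, zero_mul]
  | e :: l, h => by
    have ih := evN_prodL b t l' hl' l fun g hg => h g (List.mem_cons_of_mem _ hg)
    have he : e.2 < 4 := h e List.mem_cons_self
    show evN t ((if blk b e.1 then prod1 e l' else 0) ^^^ prodL b l' l) = _
    rw [evN_xor, ih]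
    have e1 : ∀ i : PI b, evc t (cd i.1) (e :: l) * evc t (cd (pI i).1) l' =
        (if e.1 = cd i.1 then (t ^ e.2 * evc t (pc (cd i.1)) l') else 0) + evc t (cd i.1) l * evc t (cd (pI i).1) l' := by
      intro i
      have e2 : cd (pI i).1 = pc (cd i.1) := cd_pj i.1
      rw [evc_cons, add_mul, e2]
      congr 1
      by_cases h1 : e.1 = cd i.1
      · rw [if_pos h1, if_pos h1]
      · rw [if_neg h1, if_neg h1, zero_mul]
    rw [Finset.sum_congr rfl fun i _ => e1 i, Finset.sum_add_distrib]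
    congr 1
    rw [sum_single b (fun c => t ^ e.2 * evc t (pc c) l') e.1]
    by_cases h1 : blk b e.1 = true
    · rw [if_pos h1, if_pos h1, evN_prod1 t e he l' hl']
    · rw [if_neg h1, if_neg h1, evN_zero]

/-! ### the facts from the table -/

theorem map_get {f : ℕ → List (ℕ × ℕ)} {a : ℕ} (ha : a < 52) : ((List.range 52).map f).getD a [] = f a := by
  rw [List.getD_eq_getElem?_getD, List.getElem?_map, List.getElem?_range ha]
  rfl

theorem tab_mem {r : ℕ} (hr : r < 48) : ((List.range 52).map fun a => colOf r a) ∈ tab := by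
  rw [tab_eq]
  exact List.mem_map.2 ⟨r, List.mem_range.2 hr, rfl⟩

theorem col_exp {r a : ℕ} (hr : r < 48) (ha : a < 52) : ∀ e ∈ colOf r a, e.2 < 4 := by
  intro e he
  have h1 := List.all_eq_true.1 chk_exp _ (tab_mem hr)
  have h2 := List.all_eq_true.1 h1 (colOf r a) (List.mem_map.2 ⟨a, List.mem_range.2 ha, rfl⟩)
  have h3 := List.all_eq_true.1 h2 e he
  exact of_decide_eq_true h3

theorem mem_codes {b : Bool} (i : PI b) : cd i.1 ∈ codes b := by
  rw [codes_eq, List.mem_filter]
  exact ⟨List.mem_range.2 (cd_lt i.1), (blk_cd b i.1).2 i.2⟩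

theorem chk_all (b : Bool) : tab.all (fun cs => chkF b cs) = true := by
  cases b
  · exact chk_false
  · exact chk_true

theorem col_prod {b : Bool} {r : ℕ} (hr : r < 48) (i j : PI b) :
    prodL b (colOf r (cd j.1)) (colOf r (cd i.1)) = if cd j.1 = pc (cd i.1) then 1 else 0 := by
  have h1 := List.all_eq_true.1 (chk_all b) _ (tab_mem hr)
  have h2 := List.all_eq_true.1 (List.all_eq_true.1 h1 _ (mem_codes i)) _ (mem_codes j)
  rw [map_get (cd_lt i.1), map_get (cd_lt j.1)] at h2
  exact beq_iff_eq.1 h2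

/-- the form -/
def J (b : Bool) (K : Type u) [Field K] : Matrix (PI b) (PI b) K := fun i j => if j = pI i then 1 else 0

theorem form_apply {b : Bool} (A : Matrix (PI b) (PI b) K) (a c : PI b) :
    (A.transpose * J b K * A) a c = ∑ i, A i a * A (pI i) c := by
  rw [Matrix.mul_assoc, Matrix.mul_apply]
  refine Finset.sum_congr rfl fun i _ => ?_
  rw [Matrix.transpose_apply, Matrix.mul_apply, Finset.sum_eq_single (pI i)]
  · unfold J
    rw [if_pos rfl, one_mul]
  · intro j _ hj
    unfold J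
    rw [if_neg hj, zero_mul]
  · intro h
    exact absurd (Finset.mem_univ _) h

theorem form_x [CharP K 2] (b : Bool) (r : Fin chevF4.nroots) (t : K) :
    (res b (chevF4.xMat K r t)).transpose * J b K * res b (chevF4.xMat K r t) = J b K := by
  have hr : r.val < 48 := r.2
  ext a c
  rw [form_apply]
  have e1 : ∀ i : PI b, res b (chevF4.xMat K r t) i a * res b (chevF4.xMat K r t) (pI i) c =
      evc t (cd i.1) (colOf r.val (cd a.1)) * evc t (cd (pI i).1) (colOf r.val (cd c.1)) := by
    intro i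
    show chevF4.xMat K r t i.1 a.1 * chevF4.xMat K r t (pI i).1 c.1 = _
    rw [ent, ent]
  rw [Finset.sum_congr rfl fun i _ => e1 i, ← evN_prodL b t _ (col_exp hr (cd_lt c.1)) _ (col_exp hr (cd_lt a.1)),
    col_prod hr a c]
  unfold J
  by_cases h : c = pI a
  · have h' : cd c.1 = pc (cd a.1) := by rw [h]; exact cd_pj a.1
    rw [if_pos h', if_pos h]
    have := evN_pow t (show 0 < 8 by norm_num)
    rw [pow_zero, pow_zero] at this
    exact this
  · have h' : ¬ cd c.1 = pc (cd a.1) := by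
      intro h'
      apply h
      apply Subtype.ext
      apply cd_inj
      rw [h']
      exact (cd_pj a.1).symm
    rw [if_neg h', if_neg h, evN_zero]

/-- **the form is invariant** -/
theorem form_inv [CharP K 2] (b : Bool) (g : ↥(chevF4.group K)) :
    (resH b g).transpose * J b K * resH b g = J b K := by
  obtain ⟨g, hg⟩ := g
  unfold ChevalleyDatum.group at hg
  induction hg using Subgroup.closure_induction with
  | mem g h =>
    obtain ⟨r, t, hrt⟩ := h
    show (res b (g : Matrix chevF4.Idx chevF4.Idx K)).transpose * J b K * res b (g : Matrix chevF4.Idx chevF4.Idx K) = _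
    rw [hrt]
    exact form_x b r t
  | one =>
    have : (⟨1, Subgroup.one_mem _⟩ : ↥(chevF4.group K)) = 1 := rfl
    rw [this, map_one, Matrix.transpose_one, Matrix.one_mul, Matrix.mul_one]
  | mul x y hx hy ihx ihy =>
    have : (⟨x * y, Subgroup.mul_mem _ hx hy⟩ : ↥(chevF4.group K)) = ⟨x, hx⟩ * ⟨y, hy⟩ := rfl
    rw [this, map_mul, Matrix.transpose_mul]
    calc _ = (resH b ⟨y, hy⟩).transpose * ((resH b ⟨x, hx⟩).transpose * J b K * resH b ⟨x, hx⟩) * resH b ⟨y, hy⟩ := by
          simp only [Matrix.mul_assoc]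
      _ = _ := by rw [ihx, ihy]
  | inv x hx ih =>
    have h1 : (⟨x⁻¹, Subgroup.inv_mem _ hx⟩ : ↥(chevF4.group K)) = (⟨x, hx⟩ : ↥(chevF4.group K))⁻¹ := rfl
    have h2 : resH b ⟨x, hx⟩ * resH b (⟨x, hx⟩ : ↥(chevF4.group K))⁻¹ = 1 := by
      rw [← map_mul, mul_inv_cancel, map_one]
    rw [h1]
    calc _ = (resH b (⟨x, hx⟩ : ↥(chevF4.group K))⁻¹).transpose *
          ((resH b ⟨x, hx⟩).transpose * J b K * resH b ⟨x, hx⟩) * resH b (⟨x, hx⟩ : ↥(chevF4.group K))⁻¹ := by rw [ih]
      _ = (resH b ⟨x, hx⟩ * resH b (⟨x, hx⟩ : ↥(chevF4.group K))⁻¹).transpose * J b K *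
          (resH b ⟨x, hx⟩ * resH b (⟨x, hx⟩ : ↥(chevF4.group K))⁻¹) := by
          rw [Matrix.transpose_mul]
          simp only [Matrix.mul_assoc]
      _ = _ := by rw [h2, Matrix.transpose_one, Matrix.one_mul, Matrix.mul_one]

end Cfsg.Agent.H952.F4.Two
end

-- part: H35/F4Two/Mod
section
/-!
# S5926, namespace `Two`: the two 26-dimensional modules (helper35)

`rhoT b` : the representation; `mod26` : dimension, alternating form, no invariants.
-/

set_option autoImplicit false

namespace Cfsg.Agent.H952.F4.Two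

open Cfsg Cfsg.Lie Cfsg.Agent.ChevalleyStructure Cfsg.Agent.ChevalleyStructure.Columns
open Cfsg.Agent.ChevalleyStructure.Elts
open Cfsg.Agent.H969.TwF (inW BlockZ x_block)

universe u
variable {K : Type u} [Field K]

/-- the representation on the block `b` -/
noncomputable def rhoT [CharP K 2] (b : Bool) : Representation K ↥(chevF4.group K) (PI b → K) :=
  ((Matrix.toLinAlgEquiv' : Matrix (PI b) (PI b) K ≃ₐ[K] ((PI b → K) →ₗ[K] (PI b → K))) :
    Matrix (PI b) (PI b) K →* _).comp (resH b)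

theorem rhoT_apply [CharP K 2] (b : Bool) (g : ↥(chevF4.group K)) (v : PI b → K) :
    rhoT b g v = (resH b g).mulVec v := rfl

theorem rhoT_eq [CharP K 2] (b : Bool) (g : ↥(chevF4.group K)) : rhoT b g = Matrix.toLin' (resH b g) := rfl

theorem J_mulVec (b : Bool) (v : PI b → K) (i : PI b) : (J b K).mulVec v i = v (pI i) := by
  rw [Matrix.mulVec, dotProduct, Finset.sum_eq_single (pI i)]
  · unfold J
    rw [if_pos rfl, one_mul]
  · intro j _ hj
    unfold J
    rw [if_neg hj, zero_mul]
  · intro h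
    exact absurd (Finset.mem_univ _) h

/-- the extension by zero -/
noncomputable def ext0 {b : Bool} (v : PI b → K) : chevF4.Idx → K := fun j => if h : inW j = b then v ⟨j, h⟩ else 0

theorem ext0_of {b : Bool} (v : PI b → K) (j : PI b) : ext0 v j.1 = v j := by
  unfold ext0
  rw [dif_pos j.2]

theorem ext0_not {b : Bool} (v : PI b → K) {j : chevF4.Idx} (h : inW j ≠ b) : ext0 v j = 0 := by
  unfold ext0
  rw [dif_neg h]

theorem sum_ext0 {b : Bool} (v : PI b → K) (f : chevF4.Idx → K) :
    ∑ j : PI b, f j.1 * v j = ∑ j : chevF4.Idx, f j * ext0 v j := by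
  have h1 : ∑ j : chevF4.Idx, f j * ext0 v j = ∑ j ∈ Finset.univ.filter (fun k => inW k = b), f j * ext0 v j := by
    refine (Finset.sum_subset (Finset.subset_univ _) ?_).symm
    intro k _ hk
    have hk' : inW k ≠ b := by simpa only [_root_.ne_eq, _root_.Finset.mem_filter, _root_.Finset.mem_univ, _root_.true_and] using hk
    rw [ext0_not v hk', mul_zero]
  have h2 : ∑ j ∈ Finset.univ.filter (fun k => inW k = b), f j * ext0 v j = ∑ j : PI b, f j.1 * ext0 v j.1 :=
    Finset.sum_subtype _ (by simp only [_root_.Finset.mem_filter, _root_.Finset.mem_univ, _root_.true_and, _root_.implies_true]) (fun j => f j * ext0 v j)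
  rw [h1, h2]
  exact Finset.sum_congr rfl fun j _ => by rw [ext0_of]

/-- a fixed vector -/
theorem fixed_row [CharP K 2] {b : Bool} {v : PI b → K} (hv : ∀ g : ↥(chevF4.group K), rhoT b g v = v)
    (r : Fin chevF4.nroots) (i : chevF4.Idx) (hi : inW i = b) :
    ∑ j : chevF4.Idx, chevF4.xMat K r 1 i j * ext0 v j = ext0 v i := by
  have h1 := hv ⟨xG hF4 r.val 1, xG_mem_group hF4 r.val 1⟩
  have h2 := congrFun h1 ⟨i, hi⟩
  rw [rhoT_apply, Matrix.mulVec, dotProduct] at h2
  have h3 : ∀ j : PI b, resH b (⟨xG hF4 r.val 1, xG_mem_group hF4 r.val 1⟩ : ↥(chevF4.group K)) ⟨i, hi⟩ j =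
      chevF4.xMat K r 1 i j.1 := by
    intro j
    show ((xG hF4 r.val (1 : K) : GL chevF4.Idx K) : Matrix chevF4.Idx chevF4.Idx K) i j.1 = _
    rw [coe_xG, x_of_lt r.2]
  rw [Finset.sum_congr rfl fun j _ => by rw [h3 j], sum_ext0 v (fun j => chevF4.xMat K r 1 i j)] at h2
  rw [h2]
  exact (ext0_of v ⟨i, hi⟩).symm

theorem neg_of (r : Fin chevF4.nroots) : (Fin.rev r).val = chevF4.negIdx.getD r.val 0 ∧ Fin.rev r ≠ r := by
  have key : ∀ r < 48, 47 - r = chevF4.negIdx.getD r 0 ∧ 47 - r ≠ r := by decide +kernel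
  have hr : r.val < 48 := r.2
  have h1 := key r.val hr
  have h2 : (Fin.rev r).val = 47 - r.val := by
    rw [Fin.val_rev]
    show 48 - (r.val + 1) = _
    omega
  refine ⟨h2.trans h1.1, fun h => h1.2 ?_⟩
  rw [← h2, h]

/-- the codes of the Cartan part of a block -/
def ci (b : Bool) (j : Fin 2) : Fin chevF4.rank := ⟨(if b then 0 else 2) + j.val, by
  have : j.val < 2 := j.2
  show (if b then 0 else 2) + j.val < 4
  cases b <;> simp <;> omega⟩

theorem inW_ci (b : Bool) (j : Fin 2) : inW (Sum.inl (ci b j)) = b := by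
  revert b j
  decide

theorem inW_inl {b : Bool} {i : Fin chevF4.rank} (h : inW (Sum.inl i) = b) : ∃ j, i = ci b j := by
  revert b i
  decide

theorem chkR : ∀ r < 48, ∃ j : Fin 2, cor chevF4 r (ci (Cfsg.Agent.H969.TwF.sh r) j).val % 2 ≠ 0 := by decide +kernel

theorem chkC : ∀ (b : Bool) (j : Fin 2), ∃ r : Fin 48, Cfsg.Agent.H969.TwF.sh r.val = b ∧
    ∀ i : Fin 2, (car chevF4 (ci b i).val r.val % 2 = 0 ↔ i ≠ j) := by decide +kernel

theorem chkC' (b : Bool) (j : Fin 2) : ∃ r : Fin chevF4.nroots, Cfsg.Agent.H969.TwF.sh r.val = b ∧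
    ∀ i : Fin 2, (car chevF4 (ci b i).val r.val % 2 = 0 ↔ i ≠ j) := chkC b j

theorem inv_root [CharP K 2] {b : Bool} {v : PI b → K} (hv : ∀ g : ↥(chevF4.group K), rhoT b g v = v)
    (s : Fin chevF4.nroots) : ext0 v (Sum.inr s) = 0 := by
  by_cases hs : inW (Sum.inr s) = b
  · set r := Fin.rev s with hr
    have hrs : Fin.rev r = s := by rw [hr, Fin.rev_rev]
    have hsh : inW (Sum.inr r) = b := by
      rw [← hs, ← inW_pj (Sum.inr s)]
      rfl
    obtain ⟨j, hj⟩ := chkR r.val r.2
    have hsh' : Cfsg.Agent.H969.TwF.sh r.val = b := hsh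
    rw [hsh'] at hj
    have h1 := fixed_row hv r (Sum.inl (ci b j)) (inW_ci b j)
    rw [Fintype.sum_sum_type] at h1
    have e1 : ∑ i : Fin chevF4.rank, chevF4.xMat K r 1 (Sum.inl (ci b j)) (Sum.inl i) * ext0 v (Sum.inl i) =
        ext0 v (Sum.inl (ci b j)) := by
      rw [Finset.sum_eq_single (ci b j)]
      · rw [xMat_inl_inl, if_pos rfl, one_mul]
      · intro i _ hi
        rw [xMat_inl_inl, if_neg (fun h => hi h.symm), zero_mul]
      · intro h
        exact absurd (Finset.mem_univ _) h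
    have e2 : ∑ t : Fin chevF4.nroots, chevF4.xMat K r 1 (Sum.inl (ci b j)) (Sum.inr t) * ext0 v (Sum.inr t) =
        ext0 v (Sum.inr s) := by
      rw [Finset.sum_eq_single s]
      · have h2 := neg_of r
        rw [hrs] at h2
        rw [xMat_inl_inr, if_neg h2.2, if_pos h2.1, odd_cast hj, one_mul, one_mul]
      · intro t _ ht
        have h2 := neg_of r
        rw [hrs] at h2
        rw [xMat_inl_inr]
        by_cases h3 : t = r
        · rw [if_pos h3, zero_mul]
        · rw [if_neg h3, if_neg, zero_mul]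
          intro h4
          exact ht (Fin.ext (h4.trans h2.1.symm))
      · intro h
        exact absurd (Finset.mem_univ _) h
    rw [e1, e2] at h1
    exact add_eq_left.1 h1
  · exact ext0_not v hs

theorem inv_zero [CharP K 2] {b : Bool} {v : PI b → K} (hv : ∀ g : ↥(chevF4.group K), rhoT b g v = v) : v = 0 := by
  have h0 : ∀ j : Fin 2, ext0 v (Sum.inl (ci b j)) = 0 := by
    intro j
    obtain ⟨r, hr, hc⟩ := chkC' b j
    have h1 := fixed_row hv r (Sum.inr r) hr
    rw [Fintype.sum_sum_type, inv_root hv r] at h1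
    have e2 : ∑ t : Fin chevF4.nroots, chevF4.xMat K r 1 (Sum.inr r) (Sum.inr t) * ext0 v (Sum.inr t) = 0 :=
      Finset.sum_eq_zero fun t _ => by rw [inv_root hv t, mul_zero]
    have e1 : ∑ i : Fin chevF4.rank, chevF4.xMat K r 1 (Sum.inr r) (Sum.inl i) * ext0 v (Sum.inl i) =
        ext0 v (Sum.inl (ci b j)) := by
      rw [Finset.sum_eq_single (ci b j)]
      · have h2 : ¬ car chevF4 (ci b j).val r.val % 2 = 0 := fun h => (hc j).1 h rfl
        rw [xMat_inr_inl, if_pos rfl]
        have h3 := odd_cast (K := K) h2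
        rw [h3, neg_eq', one_mul, one_mul]
      · intro i _ hi
        by_cases h2 : inW (Sum.inl i) = b
        · obtain ⟨j', rfl⟩ := inW_inl h2
          have h3 : j' ≠ j := fun h => hi (by rw [h])
          have h4 := even_cast' (K := K) ((hc j').2 h3)
          rw [xMat_inr_inl, if_pos rfl, h4, neg_zero, zero_mul, zero_mul]
        · rw [ext0_not v h2, mul_zero]
      · intro h
        exact absurd (Finset.mem_univ _) h
    rw [e1, e2, add_zero] at h1
    exact h1
  funext i
  rw [← ext0_of v i]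
  obtain ⟨i, hi⟩ := i
  rcases i with i | s
  · obtain ⟨j, rfl⟩ := inW_inl hi
    exact h0 j
  · exact inv_root hv s

theorem mod26 [CharP K 2] (b : Bool) : Mod26 (rhoT (K := K) b) where
  fin := inferInstance
  dim := by rw [Module.finrank_fintype_fun_eq_card, card_PI]
  form := by
    refine ⟨Matrix.toLinearMap₂' K (J b K), ?_, ?_, ?_⟩
    · intro v
      rw [Matrix.toLinearMap₂'_apply', dotProduct]
      refine Finset.sum_involution (fun i _ => pI i) ?_ ?_ ?_ ?_
      · intro i _
        rw [J_mulVec, J_mulVec, pI_pI, mul_comm (v (pI i)) (v i)]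
        exact CharTwo.add_self_eq_zero _
      · intro i _ _
        exact pI_ne i
      · intro i _
        exact Finset.mem_univ _
      · intro i _
        exact pI_pI i
    · intro v h
      funext i
      have h1 := h (Pi.single (pI i) 1)
      rw [Matrix.toLinearMap₂'_apply', dotProduct, Finset.sum_eq_single i] at h1
      · rw [J_mulVec, Pi.single_eq_same, mul_one] at h1
        exact h1
      · intro j _ hj
        rw [J_mulVec, Pi.single_eq_of_ne, mul_zero]
        intro h2
        apply hj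
        rw [← pI_pI j, h2, pI_pI]
      · intro h'
        exact absurd (Finset.mem_univ _) h'
    · intro g v w
      rw [Matrix.toLinearMap₂'_apply', Matrix.toLinearMap₂'_apply', rhoT_apply, rhoT_apply]
      conv_rhs => rw [← form_inv b g]
      rw [Matrix.dotProduct_mulVec, Matrix.dotProduct_mulVec, Matrix.dotProduct_mulVec, ← Matrix.vecMul_vecMul,
        ← Matrix.vecMul_vecMul, Matrix.vecMul_transpose]
  inv := by
    rw [eq_bot_iff]
    intro v hv
    rw [Submodule.mem_bot]
    exact inv_zero fun g => hv g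

end Cfsg.Agent.H952.F4.Two
end

-- part: H35/F4Two/Ev
section
/-!
# S5926, namespace `Two`: eigenspaces of the diagonalizable elements on the two modules (helper35)
-/

set_option autoImplicit false

namespace Cfsg.Agent.H952.F4.Two

open Cfsg Cfsg.Lie Cfsg.Agent.ChevalleyStructure Cfsg.Agent.ChevalleyStructure.Columns
open Cfsg.Agent.ChevalleyStructure.Elts
open Cfsg.Agent.H969.TwF (inW BlockZ x_block)
open Cfsg.Agent.GpExc.Field (emb coe_emb coe_glMap)

universe u v
variable {F : Type u} {K : Type u} [Field F] [Field K]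

theorem res_map (b : Bool) (f : F →+* K) (A : Matrix chevF4.Idx chevF4.Idx F) : res b (A.map f) = (res b A).map f := rfl

theorem resH_emb [CharP F 2] [CharP K 2] (b : Bool) (f : F →+* K) (x : ↥(chevF4.group F)) :
    resH b (emb hF4 f x) = (resH b x).map f := by
  rw [resH_apply, coe_emb, coe_glMap, res_map, resH_apply]

/-- the eigenspaces of a conjugate of a diagonal matrix -/
theorem ev_diag {ι : Type*} [Fintype ι] [DecidableEq ι] (P Q A : Matrix ι ι K) (d : ι → K) (hPQ : P * Q = 1)
    (hA : P * A * Q = Matrix.diagonal d) [DecidableEq K] :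
    ev (Matrix.toLin' A) 1 = (Finset.univ.filter fun i => d i = 1).card := by
  have hQP : Q * P = 1 := mul_eq_one_comm.1 hPQ
  have h1 := H815.F4Chg.ev_toLin A 1
  have h2 : (A - (1 : K) • (1 : Matrix ι ι K)).rank = (Finset.univ.filter fun i => ¬ d i = 1).card := by
    have e1 : P * (A - (1 : K) • (1 : Matrix ι ι K)) * Q = Matrix.diagonal fun i => d i - 1 := by
      rw [one_smul, Matrix.mul_sub, Matrix.sub_mul, hA, Matrix.mul_one, hPQ]
      ext i j
      by_cases h : i = j
      · subst h; simp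
      · simp [Matrix.diagonal_apply_ne _ h, Matrix.one_apply_ne h]
    have hP : IsUnit P.det := (Matrix.isUnit_iff_isUnit_det _).1 ⟨⟨P, Q, hPQ, hQP⟩, rfl⟩
    have hQ : IsUnit Q.det := (Matrix.isUnit_iff_isUnit_det _).1 ⟨⟨Q, P, hQP, hPQ⟩, rfl⟩
    have e2 := congrArg Matrix.rank e1
    rw [Matrix.rank_mul_eq_left_of_isUnit_det _ _ hQ, Matrix.rank_mul_eq_right_of_isUnit_det _ _ hP,
      Matrix.rank_diagonal, Fintype.card_subtype] at e2
    rw [e2]
    congr 1
    ext i
    simp only [sub_eq_zero, _root_.ne_eq, _root_.sub_eq_zero, _root_.Finset.mem_filter, _root_.Finset.mem_univ, _root_.true_and]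
  have h3 := Finset.card_filter_add_card_filter_not (s := (Finset.univ : Finset ι)) (fun i => d i = 1)
  rw [Finset.card_univ] at h3
  omega

theorem charP_of_hom [CharP F 2] (f : F →+* K) : CharP K 2 := charP_of_injective_ringHom f.injective 2

theorem ev_block [CharP F 2] [DecidableEq K] (f : F →+* K) (x : ↥(chevF4.group F)) (g : ↥(chevF4.group K))
    (c : Fin chevF4.nroots → K)
    (h : (((g * emb hF4 f x * g⁻¹ : ↥(chevF4.group K)) : GL chevF4.Idx K) : Matrix chevF4.Idx chevF4.Idx K) =
      Matrix.diagonal (Sum.elim (fun _ => (1 : K)) c)) (b : Bool) :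
    ev (rhoT b x) 1 = 2 + (Finset.univ.filter fun s : Fin chevF4.nroots =>
      Cfsg.Agent.H969.TwF.sh s.val = b ∧ c s = 1).card := by
  have := charP_of_hom f
  have h1 : ev (rhoT b x) 1 = ev (Matrix.toLin' (resH b (emb hF4 f x))) 1 := by
    rw [rhoT_eq, resH_emb, ← H815.F4Chg.ev_map f (resH b x) 1, map_one]
  have hPQ : resH b g * resH b g⁻¹ = 1 := by rw [← map_mul, mul_inv_cancel, map_one]
  have hA : resH b g * resH b (emb hF4 f x) * resH b g⁻¹ =
      Matrix.diagonal (fun i : PI b => (Sum.elim (fun _ => (1 : K)) c : chevF4.Idx → K) i.1) := by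
    rw [← map_mul, ← map_mul, resH_apply, h]
    ext i j
    show Matrix.diagonal _ i.1 j.1 = _
    by_cases hij : i = j
    · subst hij
      rw [Matrix.diagonal_apply_eq, Matrix.diagonal_apply_eq]
    · rw [Matrix.diagonal_apply_ne _ hij, Matrix.diagonal_apply_ne _ fun h' => hij (Subtype.ext h')]
  rw [h1, ev_diag _ _ _ _ hPQ hA]
  have e1 : (Finset.univ.filter fun i : PI b => (Sum.elim (fun _ => (1 : K)) c : chevF4.Idx → K) i.1 = 1).card =
      (Finset.univ.filter fun j : chevF4.Idx => inW j = b ∧ (Sum.elim (fun _ => (1 : K)) c : chevF4.Idx → K) j = 1).card := by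
    rw [← Fintype.card_subtype, ← Fintype.card_subtype]
    exact Fintype.card_congr (Equiv.subtypeSubtypeEquivSubtypeInter (fun j : chevF4.Idx => inW j = b)
      (fun j => (Sum.elim (fun _ => (1 : K)) c : chevF4.Idx → K) j = 1))
  rw [e1, Finset.card_filter, Fintype.sum_sum_type, ← Finset.card_filter, ← Finset.card_filter]
  congr 1
  have e2 : (Finset.univ.filter fun i : Fin chevF4.rank => inW (Sum.inl i) = b ∧
      (Sum.elim (fun _ => (1 : K)) c : chevF4.Idx → K) (Sum.inl i) = 1) = Finset.univ.filter fun i : Fin chevF4.rank => inW (Sum.inl i) = b := by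
    ext i
    simp only [_root_.Sum.elim_inl, _root_.and_true, _root_.Finset.mem_filter, _root_.Finset.mem_univ, _root_.true_and]
  rw [e2]
  cases b <;> decide

end Cfsg.Agent.H952.F4.Two
end

-- part: H35/F4Two/Asm
section
/-!
# S5926, namespace `Two`: assembly (helper35)
-/

set_option autoImplicit false

namespace Cfsg.Agent.H952.F4.Two

open Cfsg Cfsg.Lie Cfsg.Agent.ChevalleyStructure
open Cfsg.Agent.ChevalleyStructure.Elts
open Cfsg.Agent.GpExc.Field (emb)

universe u

/-- over an extension field `x` is conjugate to a diagonal element with `nS` (`nL`) values 1 on the short (long) roots -/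
def DiaP {F : Type u} [Field F] (x : ↥(chevF4.group F)) (nS nL : ℕ) : Prop :=
  ∃ (K : Type u) (_ : Field K) (_ : DecidableEq K) (f : F →+* K) (g : ↥(chevF4.group K)) (c : Fin chevF4.nroots → K),
    (((g * emb hF4 f x * g⁻¹ : ↥(chevF4.group K)) : GL chevF4.Idx K) : Matrix chevF4.Idx chevF4.Idx K) =
      Matrix.diagonal (Sum.elim (fun _ => (1 : K)) c) ∧
    nS = (Finset.univ.filter fun s : Fin chevF4.nroots => Cfsg.Agent.H969.TwF.sh s.val = true ∧ c s = 1).card ∧
    nL = (Finset.univ.filter fun s : Fin chevF4.nroots => Cfsg.Agent.H969.TwF.sh s.val = false ∧ c s = 1).card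

theorem DiaP.ev {F : Type u} [Field F] [CharP F 2] {x : ↥(chevF4.group F)} {nS nL : ℕ} (h : DiaP x nS nL) :
    ev (rhoT true x) 1 = 2 + nS ∧ ev (rhoT false x) 1 = 2 + nL := by
  obtain ⟨K, _, _, f, g, c, h1, h2, h3⟩ := h
  exact ⟨by rw [ev_block f x g c h1 true, h2], by rw [ev_block f x g c h1 false, h3]⟩

theorem exists_pkg_of (F : Type u) [Field F] [CharP F 2]
    (h3 : ∀ x : ↥(chevF4.group F), x ≠ 1 → x ^ 3 = 1 → ∃ nS nL, DiaP x nS nL ∧ (nS = 6 ∨ nS = 12))
    (h5 : ∀ x : ↥(chevF4.group F), x ≠ 1 → x ^ 5 = 1 → ∃ nS nL, DiaP x nS nL ∧ (6 ≤ nS ∨ 6 ≤ nL ∨ (nS = 4 ∧ nL = 4)))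
    (h5r : ∀ x : ↥(chevF4.group F), x ≠ 1 → x ^ 5 = 1 → (∃ g, g * x * g⁻¹ = x ^ 2) →
      ∃ nS nL, DiaP x nS nL ∧ nS = 4 ∧ nL = 4)
    (h7r : ∀ x : ↥(chevF4.group F), x ≠ 1 → x ^ 7 = 1 → (∃ g, g * x * g⁻¹ = x ^ 2) →
      ∃ nS nL, DiaP x nS nL ∧ (nS = 6 ∨ nL = 6)) :
    ∃ (M N : Type u) (_ : AddCommGroup M) (_ : Module F M) (_ : AddCommGroup N) (_ : Module F N)
      (ρ : Representation F ↥(chevF4.group F) M) (σ : Representation F ↥(chevF4.group F) N), Pkg ρ σ := by
  refine ⟨PI true → F, PI false → F, inferInstance, inferInstance, inferInstance, inferInstance, rhoT true,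
    rhoT false, mod26 true, mod26 false, ?_, ?_, ?_, ?_⟩
  · intro x hx hx3
    obtain ⟨nS, nL, h, h'⟩ := h3 x hx hx3
    rw [h.ev.1]
    omega
  · intro x hx hx5
    obtain ⟨nS, nL, h, h'⟩ := h5 x hx hx5
    rw [h.ev.1, h.ev.2]
    omega
  · intro x hx hx5 hg
    obtain ⟨nS, nL, h, h', h''⟩ := h5r x hx hx5 hg
    rw [h.ev.1, h.ev.2]
    omega
  · intro x hx hx7 hg
    obtain ⟨nS, nL, h, h'⟩ := h7r x hx hx7 hg
    rw [h.ev.1, h.ev.2]
    omega

end Cfsg.Agent.H952.F4.Two
end

-- part: H927/F4Two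
section
/-!
# S5926, characteristic 2: `Two.exists_pkg`
-/

set_option autoImplicit false

namespace Cfsg.Agent.H927.F4Two

open Cfsg Cfsg.Lie Module
open Cfsg.Agent.ChevalleyStructure Cfsg.Agent.ChevalleyStructure.Elts Cfsg.Agent.ChevalleyStructure.RootVecTab
open Cfsg.Agent.ChevalleyStructure.RootVec
open Cfsg.Agent.GpExc.Field (emb coe_emb coe_glMap emb_injective)
open Cfsg.Agent.BpExc.TorAll Cfsg.Agent.BpExc.TorChev
open Cfsg.Agent.Tits.Roots Cfsg.Agent.Nodes.BNOf Cfsg.Agent.Nodes.RGDChev Cfsg.Agent.KFacts.RgdChevCoord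
open Cfsg.Agent.H952.F4 Cfsg.Agent.H952.F4.TabNum Cfsg.Agent.H952.F4.TabLin Cfsg.Agent.H952.F4.TabMult
open Cfsg.Agent.ChevalleyStructure.CoxeterGeom Cfsg.Agent.ChevalleyStructure.CoxeterGeomTypes
  Cfsg.Agent.Nodes.Reps
open Cfsg.Agent.H412.OT (pr chi)
open Cfsg.Agent.ChevalleyStructure.NPerm (permHom)
open Cfsg.Agent.H969.TwF (sh)

universe u

/-- The diagonal form over an algebraic closure. -/
structure DV {F : Type u} [Field F] (x : ↥(chevF4.group F)) (m : ℕ) (K : Type u) [Field K] [DecidableEq K]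
    (f : F →+* K) (g : ↥(chevF4.group K)) (z : Kˣ) (a : Fin 4 → ℕ) : Prop where
  ord : orderOf z = m
  lt : ∀ i, a i < m
  ne : x ≠ 1 → z4 (a 0) (a 1) (a 2) (a 3) = false
  mat : (((g * emb hF4 f x * g⁻¹ : ↥(chevF4.group K)) : GL chevF4.Idx K) : Matrix chevF4.Idx chevF4.Idx K) =
      Matrix.diagonal (Sum.elim (fun _ => (1 : K)) (fun s : Fin chevF4.nroots =>
        ((val z a (rowsL.getD s.val (8, 8, 8, 8)) : Kˣ) : K)))
  tor : g * emb hF4 f x * g⁻¹ ∈ TT chevF4 K

theorem exists_dv {m : ℕ} (hm0 : m ≠ 0) (hm : m.Coprime 2) {F : Type u} [Field F] [Finite F] [CharP F 2]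
    {x : ↥(chevF4.group F)} (hx : x ^ m = 1) :
    ∃ (K : Type u) (_ : Field K) (_ : DecidableEq K) (f : F →+* K) (g : ↥(chevF4.group K)) (z : Kˣ) (a : Fin 4 → ℕ),
      DV x m K f g z a := by
  classical
  have : Fact (Nat.Prime 2) := ⟨Nat.prime_two⟩
  have : NeZero m := ⟨hm0⟩
  set K := AlgebraicClosure F with hK
  have hkch : CharP K 2 := charP_of_injective_algebraMap (algebraMap F K).injective 2
  have hk' : HAlg 2 K := Cfsg.Agent.H944.RootVals.hAlg_closure 2 F
  set f : F →+* K := algebraMap F K with hf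
  set x' : ↥(chevF4.group K) := emb hF4 f x with hx'
  have hxm : x' ^ m = 1 := by rw [hx', ← map_pow, hx, map_one]
  obtain ⟨g, hg⟩ := Cfsg.Agent.H944.TorAnyChev.exists_conj_mem_TT hpF4 2 hk' hm0 hm hxm
  set t := g * x' * g⁻¹ with ht
  obtain ⟨c, hcL⟩ := Cfsg.Agent.H944.RootVals.TT_diag hpF4 hg
  have htm : t ^ m = 1 := by rw [ht, conj_pow, hxm, mul_one, mul_inv_cancel]
  have hmk : ((m : ℕ) : K) ≠ 0 := by
    intro h0
    have h1 : 2 ∣ m := (CharP.cast_eq_zero_iff K 2 m).1 h0
    have h2 : 2 ∣ 1 := by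
      rw [← hm]
      exact Nat.dvd_gcd h1 dvd_rfl
    omega
  have : NeZero ((m : ℕ) : K) := ⟨hmk⟩
  obtain ⟨ζ, hζ⟩ : ∃ ζ : K, IsPrimitiveRoot ζ m := HasEnoughRootsOfUnity.exists_primitiveRoot K m
  have hζ0 : ζ ≠ 0 := hζ.ne_zero hm0
  let z : Kˣ := Units.mk0 ζ hζ0
  have hz : orderOf z = m := by rw [← orderOf_units]; exact hζ.eq_orderOf.symm
  have hsimple : ∀ j : Fin 4, ∃ s : Fin chevF4.nroots, (∏ i, c i ^ (vec chevF4 4 s i) : Kˣ) = c j := by
    intro j
    have hlt := NPerm.simple_lt hpF4.inList (lt_rank hpF4 j)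
    refine ⟨⟨chevF4.simple j, hlt⟩, ?_⟩
    show (∏ i, c i ^ (vec chevF4 4 (chevF4.simple j) i) : Kˣ) = c j
    rw [vec_simple hpF4 j, Finset.prod_eq_single j]
    · rw [sr_self, zpow_one]
    · intro i _ hij
      rw [sr_ne hij, zpow_zero]
    · intro h
      exact absurd (Finset.mem_univ j) h
  have hcm : ∀ j, c j ^ m = 1 := by
    intro j
    obtain ⟨s, hs⟩ := hsimple j
    have h2 : (((t ^ m : ↥(chevF4.group K)) : GL chevF4.Idx K) : Matrix chevF4.Idx chevF4.Idx K) =
        Matrix.diagonal (Sum.elim (fun _ => (1 : K)) (fun s : Fin chevF4.nroots =>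
          ((∏ i, c i ^ (vec chevF4 4 s i) : Kˣ) : K)) ^ m) := by
      rw [Subgroup.coe_pow, Units.val_pow_eq_pow_val, hcL, Matrix.diagonal_pow]
    rw [htm, Subgroup.coe_one, Units.val_one] at h2
    have h3 := congrFun (congrFun h2 (Sum.inr s)) (Sum.inr s)
    rw [Matrix.one_apply_eq, Matrix.diagonal_apply_eq, Pi.pow_apply, Sum.elim_inr, hs,
      ← Units.val_pow_eq_pow_val] at h3
    exact Units.ext h3.symm
  have hex : ∀ j, ∃ a < m, z ^ a = c j := by
    intro j
    have h1 : ((c j : Kˣ) : K) ^ m = 1 := by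
      rw [← Units.val_pow_eq_pow_val, hcm j, Units.val_one]
    obtain ⟨a, ha', ha⟩ := hζ.eq_pow_of_pow_eq_one h1
    refine ⟨a, ha', Units.ext ?_⟩
    rw [Units.val_pow_eq_pow_val, ← ha]
    rfl
  choose a ha' ha using hex
  have hmat : (((t : ↥(chevF4.group K)) : GL chevF4.Idx K) : Matrix chevF4.Idx chevF4.Idx K) =
      Matrix.diagonal (Sum.elim (fun _ => (1 : K)) (fun s : Fin chevF4.nroots =>
        ((val z a (rowsL.getD s.val (8, 8, 8, 8)) : Kˣ) : K))) := by
    rw [hcL]
    congr 1
    funext i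
    rcases i with i | i
    · rfl
    · show ((∏ j, c j ^ (vec chevF4 4 i j) : Kˣ) : K) = ((val z a (rowsL.getD i (8, 8, 8, 8)) : Kˣ) : K)
      rw [prod_eq_val ha i i.2]
  refine ⟨K, inferInstance, inferInstance, f, g, z, a, hz, ha', ?_, hmat, hg⟩
  intro hx1
  by_contra h
  rw [Bool.not_eq_false] at h
  obtain ⟨h0, h1, h2, h3⟩ := z4_iff.1 h
  apply hx1
  have hv : ∀ r, val z a r = 1 := by
    intro r
    unfold TabLin.val
    rw [h0, h1, h2, h3]
    simp
  have ht1 : t = 1 := by
    apply Subtype.ext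
    apply Units.ext
    rw [hmat, Subgroup.coe_one, Units.val_one, ← Matrix.diagonal_one]
    congr 1
    funext i
    rcases i with i | i
    · rfl
    · show ((val z a _ : Kˣ) : K) = 1
      rw [hv, Units.val_one]
  have hx1' : x' = 1 := by
    rw [ht] at ht1
    exact conj_eq_one_iff.1 ht1
  exact emb_injective hF4 f (by rw [← hx', hx1', map_one])

/-- an element conjugate to its square -/
theorem DV.rat {F : Type u} [Field F] {x : ↥(chevF4.group F)} {m : ℕ} {K : Type u} [Field K] [DecidableEq K]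
    {f : F →+* K} {g : ↥(chevF4.group K)} {z : Kˣ} {a : Fin 4 → ℕ} (h : DV x m K f g z a) (hm : m.Coprime 2)
    (hr : ∃ y, y * x * y⁻¹ = x ^ 2) (b : Bool) (j : ℕ) :
    TabNum.nn (rowsB b) m j (a 0) (a 1) (a 2) (a 3) = TabNum.nn (rowsB b) m (2 * j) (a 0) (a 1) (a 2) (a 3) := by
  obtain ⟨y, hy⟩ := hr
  set t := g * emb hF4 f x * g⁻¹ with ht
  set y' := g * emb hF4 f y * g⁻¹ with hy'
  have h1 : y' * t * y'⁻¹ = t ^ 2 := by
    rw [ht, hy', conj_pow, ← map_pow, ← hy, map_mul, map_mul, map_inv]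
    group
  have htT : (t : GL chevF4.Idx K) ∈ chevF4.diagonalSubgroup K := h.tor
  have ht2T : ((t ^ 2 : ↥(chevF4.group K)) : GL chevF4.Idx K) ∈ chevF4.diagonalSubgroup K := by
    rw [Subgroup.coe_pow]
    exact pow_mem htT 2
  obtain ⟨n, hn, hc⟩ := Cfsg.Agent.S1046.result (F := K) chevF4 hF4 (t : GL chevF4.Idx K)
    ((t ^ 2 : ↥(chevF4.group K)) : GL chevF4.Idx K) (y' : GL chevF4.Idx K) htT ht2T y'.2 (by
      rw [← h1]; rfl)
  set w := permHom hF4 K ⟨n, hn⟩ with hw
  -- the values
  have hchi : ∀ s : Fin chevF4.nroots, chi chevF4 K (t : GL chevF4.Idx K) s =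
      ((val z a (rowsL.getD s.val (8, 8, 8, 8)) : Kˣ) : K) := by
    intro s
    unfold chi
    rw [dif_pos s.2]
    show ((t : GL chevF4.Idx K) : Matrix chevF4.Idx chevF4.Idx K) (Sum.inr s) (Sum.inr s) = _
    rw [h.mat, Matrix.diagonal_apply_eq, Sum.elim_inr]
  have hchi2 : ∀ s : Fin chevF4.nroots, chi chevF4 K ((t ^ 2 : ↥(chevF4.group K)) : GL chevF4.Idx K) s =
      ((val z a (rowsL.getD s.val (8, 8, 8, 8)) : Kˣ) : K) ^ 2 := by
    intro s
    unfold chi
    rw [dif_pos s.2]
    show (((t ^ 2 : ↥(chevF4.group K)) : GL chevF4.Idx K) : Matrix chevF4.Idx chevF4.Idx K) (Sum.inr s) (Sum.inr s) = _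
    rw [Subgroup.coe_pow, Units.val_pow_eq_pow_val, h.mat, Matrix.diagonal_pow, Matrix.diagonal_apply_eq,
      Pi.pow_apply, Sum.elim_inr]
  have hval : ∀ s : Fin chevF4.nroots, (val z a (rowsL.getD (w s).val (8, 8, 8, 8))) ^ 2 =
      val z a (rowsL.getD s.val (8, 8, 8, 8)) := by
    intro s
    have h2 := Cfsg.Agent.H3.OT.chi_perm hF4 (⟨n, hn⟩ : ↥(chevF4.monomialSubgroup K)) htT s
    rw [show ((⟨n, hn⟩ : ↥(chevF4.monomialSubgroup K)) : GL chevF4.Idx K) = n from rfl, hc, hchi2, hchi] at h2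
    apply Units.ext
    rw [Units.val_pow_eq_pow_val]
    exact h2
  have hcard : ∀ j : ℕ, (Finset.univ.filter fun s : Fin chevF4.nroots => sh s.val = b ∧
      ((val z a (rowsL.getD s.val (8, 8, 8, 8)) : Kˣ) : K) = ((z ^ j : Kˣ) : K)).card =
      TabNum.nn (rowsB b) m j (a 0) (a 1) (a 2) (a 3) := fun j => card_b h.ord a b j
  rw [← hcard, ← hcard]
  symm
  refine Finset.card_bij (fun s _ => w s) ?_ ?_ ?_
  · intro s hs
    rw [Finset.mem_filter] at hs ⊢
    obtain ⟨-, hs1, hs2⟩ := hs
    refine ⟨Finset.mem_univ _, ?_, ?_⟩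
    · rw [← hs1]
      exact sh_perm _ _
    · have h3 := hval s
      have h4 : val z a (rowsL.getD s.val (8, 8, 8, 8)) = z ^ (2 * j) := Units.ext hs2
      rw [h4, mul_comm 2 j, pow_mul] at h3
      -- squares determine the elements of order dividing `m`
      have h5 : (val z a (rowsL.getD (w s).val (8, 8, 8, 8))) ^ m = 1 := by
        unfold TabLin.val
        rw [← zpow_natCast, ← zpow_mul, mul_comm, zpow_mul, zpow_natCast, ← h.ord, pow_orderOf_eq_one, one_zpow]
      have h6 : (z ^ j) ^ m = 1 := by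
        rw [← pow_mul, mul_comm, pow_mul, ← h.ord, pow_orderOf_eq_one, one_pow]
      have h7 : (val z a (rowsL.getD (w s).val (8, 8, 8, 8)) * (z ^ j)⁻¹) ^ 2 = 1 := by
        rw [mul_pow, h3, inv_pow, mul_inv_cancel]
      have h8 : (val z a (rowsL.getD (w s).val (8, 8, 8, 8)) * (z ^ j)⁻¹) ^ m = 1 := by
        rw [mul_pow, h5, inv_pow, h6, inv_one, mul_one]
      have h9 := orderOf_dvd_of_pow_eq_one h7
      have h10 := orderOf_dvd_of_pow_eq_one h8
      have h11 : orderOf (val z a (rowsL.getD (w s).val (8, 8, 8, 8)) * (z ^ j)⁻¹) = 1 :=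
        Nat.dvd_one.1 (by rw [← hm]; exact Nat.dvd_gcd h10 h9)
      rw [orderOf_eq_one_iff, mul_inv_eq_one] at h11
      show ((val z a (rowsL.getD (w s).val (8, 8, 8, 8)) : Kˣ) : K) = _
      rw [h11]
  · intro s _ s' _ h3
    exact w.injective h3
  · intro s hs
    rw [Finset.mem_filter] at hs
    obtain ⟨-, hs1, hs2⟩ := hs
    refine ⟨w.symm s, ?_, w.apply_symm_apply s⟩
    rw [Finset.mem_filter]
    refine ⟨Finset.mem_univ _, ?_, ?_⟩
    · have h3 := sh_perm (K := K) ⟨n, hn⟩ (w.symm s)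
      rw [← hw, w.apply_symm_apply] at h3
      exact h3.symm.trans hs1
    · have h3 := hval (w.symm s)
      rw [w.apply_symm_apply] at h3
      have h4 : val z a (rowsL.getD s.val (8, 8, 8, 8)) = z ^ j := Units.ext hs2
      rw [h4, ← pow_mul, mul_comm j 2] at h3
      show ((val z a (rowsL.getD (w.symm s).val (8, 8, 8, 8)) : Kˣ) : K) = _
      rw [← h3]

theorem DV.diaP {F : Type u} [Field F] {x : ↥(chevF4.group F)} {m : ℕ} {K : Type u} [Field K] [DecidableEq K]
    {f : F →+* K} {g : ↥(chevF4.group K)} {z : Kˣ} {a : Fin 4 → ℕ} (h : DV x m K f g z a) :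
    Two.DiaP x (TabNum.nn rowsS m 0 (a 0) (a 1) (a 2) (a 3)) (TabNum.nn rowsG m 0 (a 0) (a 1) (a 2) (a 3)) := by
  refine ⟨K, inferInstance, inferInstance, f, g, _, h.mat, ?_, ?_⟩
  · have h1 := card_b h.ord a true 0
    rw [pow_zero, Units.val_one] at h1
    exact h1.symm
  · have h1 := card_b h.ord a false 0
    rw [pow_zero, Units.val_one] at h1
    exact h1.symm

variable {F : Type u} [Field F] [Finite F] [CharP F 2]

theorem three (x : ↥(chevF4.group F)) (hx1 : x ≠ 1) (hx : x ^ 3 = 1) :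
    ∃ nS nL, Two.DiaP x nS nL ∧ (nS = 6 ∨ nS = 12) := by
  obtain ⟨K, _, _, f, g, z, a, h⟩ := exists_dv (m := 3) (by norm_num) (by norm_num) hx
  refine ⟨_, _, h.diaP, ?_⟩
  have h1 := all4_spec chk3_all (h.lt 0) (h.lt 1) (h.lt 2) (h.lt 3)
  rw [chk3, h.ne hx1, Bool.false_or, Bool.or_eq_true, Nat.beq_eq, Nat.beq_eq] at h1
  exact h1

theorem five (x : ↥(chevF4.group F)) (hx1 : x ≠ 1) (hx : x ^ 5 = 1) :
    ∃ nS nL, Two.DiaP x nS nL ∧ (6 ≤ nS ∨ 6 ≤ nL ∨ (nS = 4 ∧ nL = 4)) := by
  obtain ⟨K, _, _, f, g, z, a, h⟩ := exists_dv (m := 5) (by norm_num) (by norm_num) hx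
  refine ⟨_, _, h.diaP, ?_⟩
  have h1 := all4_spec chk5_all (h.lt 0) (h.lt 1) (h.lt 2) (h.lt 3)
  rw [chk5, h.ne hx1, Bool.false_or, Bool.or_eq_true, Bool.or_eq_true, Bool.and_eq_true, Nat.beq_eq, Nat.beq_eq,
    Nat.ble_eq, Nat.ble_eq, or_assoc] at h1
  exact h1

theorem five_rat (x : ↥(chevF4.group F)) (hx1 : x ≠ 1) (hx : x ^ 5 = 1) (hr : ∃ g, g * x * g⁻¹ = x ^ 2) :
    ∃ nS nL, Two.DiaP x nS nL ∧ nS = 4 ∧ nL = 4 := by
  obtain ⟨K, _, _, f, g, z, a, h⟩ := exists_dv (m := 5) (by norm_num) (by norm_num) hx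
  refine ⟨_, _, h.diaP, ?_⟩
  have h1 := all4_spec chk5r_all (h.lt 0) (h.lt 1) (h.lt 2) (h.lt 3)
  have h2 := h.rat (by norm_num) hr true 1
  have h3 := h.rat (by norm_num) hr false 1
  simp only [rowsB, cond_true, cond_false, mul_one] at h2 h3
  have h4 : ∀ n : ℕ, Nat.beq n n = true := fun n => Nat.beq_eq.mpr rfl
  rw [chk5r, h.ne hx1, h2, h3, h4, h4, Bool.false_or, Bool.not_true, Bool.false_or, Bool.false_or, Bool.and_eq_true,
    Nat.beq_eq, Nat.beq_eq] at h1
  exact h1

theorem seven_rat (x : ↥(chevF4.group F)) (hx1 : x ≠ 1) (hx : x ^ 7 = 1) (hr : ∃ g, g * x * g⁻¹ = x ^ 2) :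
    ∃ nS nL, Two.DiaP x nS nL ∧ (nS = 6 ∨ nL = 6) := by
  obtain ⟨K, _, _, f, g, z, a, h⟩ := exists_dv (m := 7) (by norm_num) (by norm_num) hx
  refine ⟨_, _, h.diaP, ?_⟩
  have h1 := all4_spec chk7r_all (h.lt 0) (h.lt 1) (h.lt 2) (h.lt 3)
  have h2 := h.rat (by norm_num) hr true 1
  have h3 := h.rat (by norm_num) hr false 1
  have h2' := h.rat (by norm_num) hr true 2
  have h3' := h.rat (by norm_num) hr false 2
  simp only [rowsB, cond_true, cond_false, mul_one] at h2 h3 h2' h3'
  norm_num at h2' h3'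
  have h4 : ∀ n : ℕ, Nat.beq n n = true := fun n => Nat.beq_eq.mpr rfl
  rw [chk7r, h.ne hx1, h2, h3, h2', h3', h4, h4, Bool.false_or, Bool.not_true, Bool.false_or, Bool.false_or,
    Bool.false_or, Bool.false_or, Bool.or_eq_true, Nat.beq_eq, Nat.beq_eq] at h1
  exact h1

end Cfsg.Agent.H927.F4Two

namespace Cfsg.Agent.H952.F4.Two

open Cfsg Cfsg.Lie

universe u

/-- P1 -/
theorem exists_pkg (F : Type u) [Field F] [Finite F] [CharP F 2] :
    ∃ (M N : Type u) (_ : AddCommGroup M) (_ : Module F M) (_ : AddCommGroup N) (_ : Module F N)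
      (ρ : Representation F ↥(chevF4.group F) M) (σ : Representation F ↥(chevF4.group F) N), Pkg ρ σ :=
  exists_pkg_of F Cfsg.Agent.H927.F4Two.three Cfsg.Agent.H927.F4Two.five Cfsg.Agent.H927.F4Two.five_rat
    Cfsg.Agent.H927.F4Two.seven_rat

end Cfsg.Agent.H952.F4.Two
end

private theorem dce_4afa087dc667 : _root_.True := by
  try have : _root_.True := by simp only [_root_.Cfsg.Agent.H927.F4Two.chk7r.eq_1]
  try have : _root_.True := by simp only [_root_.Cfsg.Agent.H927.F4Two.chk3.eq_1]
  try have : _root_.True := by simp only [_root_.Cfsg.Agent.H927.F4Two.rowsB.eq_1]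
  try have : _root_.True := by simp only [_root_.Cfsg.Agent.H952.F4.Two.resH.congr_simp]
  try have : _root_.True := by simp only [_root_.Cfsg.Agent.H927.F4Two.chk5.eq_1]
  try have : _root_.True := by simp only [_root_.Cfsg.Agent.H927.F4Two.chk5r.eq_1]
  exact _root_.True.intro
end
end
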